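import Mathlib
import Cfsg.Agent.Lib.MonRep.Hom
import Cfsg.Agent.Lib.MonRep.UB
import Cfsg.Agent.Lib.Mon.MOut
import Cfsg.Agent.Lib.Mon.CovI

/-!
The module of dimension 23 for `Co₂`: weights and monomial structure.
-/

set_option autoImplicit false

namespace CfsgLib.MonRep

open Module Cfsg CfsgLib.Mon CfsgLib.Leech CfsgLib.MType Finset MulAction
open scoped Pointwise commutatorElement

section pr

variable {p r : GolayPt}

theorem coc_zero_left (d : Finset GolayPt) : coc ∅ d = 0 := by simp [coc]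

theorem sub_pair (hp : p ≠ r) {s : Finset GolayPt} (hs : s.card ≤ 5)
    (h : ∀ d, IsCW d → p ∉ d → r ∉ d → coc s d = 0) : s ⊆ {p, r} := by
  obtain ⟨a, ha, a1, a2⟩ := Leech.exists_cw_sep hp
  obtain ⟨b, hb, b1, b2⟩ := Leech.exists_cw_sep hp.symm
  have k1 : ∀ d, IsCW d → r ∉ d → coc s d = if p ∈ d then coc s a else 0 := fun d hd h1 => by
    split_ifs with h2
    · have := h _ (hd.symmDiff ha) (by simp [mem_symmDiff, h2, a1]) (by simp [mem_symmDiff, h1, a2])
      rw [coc_symmDiff'] at this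
      linear_combination this - z2_add_self (coc s a)
    · exact h d hd h2 h1
  have k2 : ∀ d, IsCW d → coc s d = (if p ∈ d then coc s a else 0) + if r ∈ d then coc s b else 0 := fun d hd => by
    by_cases h1 : r ∈ d
    · have := k1 _ (hd.symmDiff hb) (by simp [mem_symmDiff, h1, b1])
      rw [coc_symmDiff'] at this
      simp only [mem_symmDiff, b2, not_false_eq_true, and_true, false_and, or_false] at this
      rw [if_pos h1, ← this, add_assoc, z2_add_self, add_zero]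
    · rw [k1 d hd h1, if_neg h1, add_zero]
  have := eq_of_coc (δ := s) (ε := symmDiff (if coc s a = 1 then {p} else ∅) (if coc s b = 1 then {r} else ∅))
    (fun d hd => by
      rw [k2 d hd, coc_symmDiff]
      rcases z2_cases (coc s a) with e | e <;> rcases z2_cases (coc s b) with e' | e' <;>
        simp [e, e', coc_singleton, coc_zero_left]) (by
      have := Golay.card_symmDiff_add (if coc s a = 1 then {p} else ∅) (if coc s b = 1 then ({r} : Finset _) else ∅)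
      split_ifs at this ⊢ <;> simp only [card_singleton, card_empty] at this <;> omega)
  rw [this]
  intro i hi
  rw [mem_symmDiff] at hi
  rw [mem_insert, mem_singleton]
  split_ifs at hi <;> simp only [mem_singleton, notMem_empty] at hi <;> tauto

theorem coc_smul' (σ : M24) (δ d : Finset GolayPt) : coc (σ • δ) d = coc δ (σ⁻¹ • d) := by
  rw [← coc_smul σ δ, smul_inv_smul]

theorem notMem_smul {σ : M24} {i : GolayPt} (h : σ • i = i) {d : Finset GolayPt} (hd : i ∉ d) : i ∉ σ⁻¹ • d := by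
  rwa [mem_inv_smul_finset_iff, h]

/-- a character invariant under `M₂₂` is trivial -/
theorem inv_coc (hp : p ≠ r) {δ : Finset GolayPt} (h : ∀ σ : M24, σ • p = p → σ • r = r →
    ∀ d, IsCW d → p ∉ d → r ∉ d → coc (σ • δ) d = coc δ d) (d : Finset GolayPt) (hd : IsCW d) (h1 : p ∉ d)
    (h2 : r ∉ d) : coc δ d = 0 := by
  obtain ⟨t, ht, e⟩ := exists_small δ
  have e' : ∀ d, IsCW d → p ∉ d → r ∉ d → coc δ d = coc (t \ {p, r}) d := fun d hd h1 h2 => by
    rw [e d hd, coc, coc]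
    congr 2
    ext i
    simp only [mem_inter, mem_sdiff, mem_insert, mem_singleton]
    grind
  have hc := card_le_card (sdiff_subset (s := t) (t := {p, r}))
  have hm : ∀ i ∈ t \ {p, r}, i ≠ p ∧ i ≠ r := fun i hi => by simpa using (mem_sdiff.1 hi).2
  generalize t \ {p, r} = s at e' hc hm
  rcases s.eq_empty_or_nonempty with rfl | ⟨i, hi⟩
  · rw [e' d hd h1 h2, coc_zero_left]
  exfalso
  obtain ⟨A, a1, a2⟩ := exists_subset_card_eq (s := s.erase i) (n := s.card - 2) (by rw [card_erase_of_mem hi]; omega)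
  obtain ⟨l, hl⟩ := Cov.exists_notMem (s ∪ {p, r}) (by
    have := card_union_le s {p, r}; have := card_le_two (a := p) (b := r); omega)
  simp only [mem_union, mem_insert, mem_singleton, not_or] at hl
  have hA : ∀ x ∈ A, x ≠ i ∧ x ∈ s := fun x hx => mem_erase.1 (a1 hx)
  obtain ⟨σ, hσ⟩ := exists_M24_on (insert i (insert p (insert r A))) (by
    have := card_insert_le i (insert p (insert r A)); have := card_insert_le p (insert r A)
    have := card_insert_le r A; omega) (fun x => if x = i then l else x) (by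
    intro x hx y hy
    simp only [coe_insert, Set.mem_insert_iff, mem_coe] at hx hy
    grind)
  have s1 : σ • p = p := by rw [hσ p (by simp), if_neg (hm i hi).1.symm]
  have s2 : σ • r = r := by rw [hσ r (by simp), if_neg (hm i hi).2.symm]
  have s3 : A ⊆ σ • s ∩ s := fun x hx => mem_inter.2 ⟨mem_smul_finset.2 ⟨x, (hA x hx).2, by
    rw [hσ x (by simp [hx]), if_neg (hA x hx).1]⟩, (hA x hx).2⟩
  have := sub_pair hp (s := symmDiff (σ • s) s) (by
    have := Golay.card_symmDiff_add (σ • s) s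
    have := card_le_card s3
    rw [card_smul_finset] at *
    omega) (fun d hd h1 h2 => by
    rw [coc_symmDiff, coc_smul', ← e' _ (isCW_smul hd _) (notMem_smul s1 h1) (notMem_smul s2 h2), ← coc_smul',
      h σ s1 s2 d hd h1 h2, e' d hd h1 h2, z2_add_self]) (mem_symmDiff.2 (Or.inl ⟨mem_smul_finset.2 ⟨i, hi, by
      rw [hσ i (by simp), if_pos rfl]⟩, hl.1⟩))
  simp [hl.2] at this

theorem mono_cases (hp : p ≠ r) {c : Finset GolayPt} {hc : IsCW c} {σ : M24}
    (h : (sgnAut c hc * permAut σ) • dlL p r = dlL p r) :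
    (σ • p = p ∧ σ • r = r ∧ p ∉ c ∧ r ∉ c) ∨ (σ • p = r ∧ σ • r = p ∧ p ∈ c ∧ r ∈ c) := by
  have k : ∀ i, (dlL p r).1 (σ • i) = if σ • i ∈ c then -(dlL p r).1 i else (dlL p r).1 i := fun i => by
    conv_lhs => rw [← h, mul_smul, sgnAut_smul_apply, permAut_smul_apply_smul]
  have k1 := k p
  have k2 := k r
  simp only [dlL_apply] at k1 k2
  grind

theorem perfect_stab2 (hp : p ≠ r) : ⁅stabilizer M24 p ⊓ stabilizer M24 r, stabilizer M24 p ⊓ stabilizer M24 r⁆ =
    stabilizer M24 p ⊓ stabilizer M24 r :=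
  let ⟨e⟩ := Mathieu.stab2_equiv hp
  perfect_of_simple (have := Mathieu.simple_M22; e.isSimpleGroup)
    (by rw [Nat.card_congr e.toEquiv, Mathieu.card_M22]; norm_num)

theorem perfect_stab3 {s : GolayPt} (h1 : p ≠ r) (h2 : p ≠ s) (h3 : r ≠ s) :
    ⁅stabilizer M24 p ⊓ stabilizer M24 r ⊓ stabilizer M24 s, stabilizer M24 p ⊓ stabilizer M24 r ⊓ stabilizer M24 s⁆ =
    stabilizer M24 p ⊓ stabilizer M24 r ⊓ stabilizer M24 s :=
  let ⟨e⟩ := Mathieu.stab3_equiv h1 h2 h3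
  perfect_of_simple (have := Mathieu.simple_M21; e.isSimpleGroup)
    (by rw [Nat.card_congr e.toEquiv, Mathieu.card_M21]; norm_num)

/-- maximality of the monomial subgroup of `Co₂` -/
theorem stab_le (hp : p ≠ r) {H : Subgroup Co0} (h0 : H ≤ stabilizer Co0 (dlL p r))
    (h1 : stabilizer Co0 (dlL p r) ⊓ monoGrp ≤ H) {c : Co0} (hc : c ∈ H) (hc' : c ∉ monoGrp) :
    stabilizer Co0 (dlL p r) ≤ H := by
  obtain ⟨γ, hγ, hU⟩ := exists_mono_U hp
  have k : ∀ g : Co0, γ * g * γ⁻¹ ∈ stabilizer Co0 (dlL p r) ↔ g ∈ stabilizer Co0 Spor.leechU := fun g => by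
    simp only [mem_stabilizer_iff, ← hU, mul_smul, inv_smul_smul, smul_left_cancel_iff]
  rcases overgroup_Q (H := H.comap (MulAut.conj γ).toMonoidHom) (fun g hg => h1 ⟨(k g).2 hg.1,
    monoGrp.mul_mem (monoGrp.mul_mem hγ (stab_U_U'_le hg)) (monoGrp.inv_mem hγ)⟩) (fun g hg => (k g).1 (h0 hg)) with e | e
  · have := e (x := γ⁻¹ * c * γ) (by simpa [mul_assoc] using hc)
    exact absurd (by simpa [mul_assoc] using mul_mem (mul_mem hγ this) (inv_mem hγ)) hc'
  · intro g hg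
    have := e.ge (x := γ⁻¹ * g * γ) ((k _).1 (by simpa [mul_assoc] using hg))
    simpa [mul_assoc] using this

end pr

/-- the point at infinity -/
scoped notation "p∞" => (none : GolayPt)
/-- the point `0` -/
scoped notation "p₀" => (some 0 : GolayPt)
/-- the point `1` -/
scoped notation "p₁" => (some 1 : GolayPt)
/-- the point `2` -/
scoped notation "p₂" => (some 2 : GolayPt)

/-- the stabilizer `Co₂` -/
abbrev LL : Subgroup Co0 := stabilizer Co0 (dlL p∞ p₀)

/-- the codewords avoiding both points -/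
abbrev CW0 : Type := {d : Finset GolayPt // IsCW d ∧ p∞ ∉ d ∧ p₀ ∉ d}

/-- the sign changes -/
def eps (d : CW0) : Co0 := sgnAut d.1 d.2.1

/-- the weights -/
def chi (j : GolayPt) (d : CW0) : ZMod 2 := coc {j} d.1

theorem pr0 : p∞ ≠ p₀ := by decide

theorem eps_mem (d : CW0) : eps d ∈ LL := Cov.sgn_dlL d.2.1 d.2.2.1 d.2.2.2

theorem perm_mem {σ : M24} (h1 : σ • p∞ = p∞) (h2 : σ • p₀ = p₀) :
    permAut σ ∈ LL := by rw [mem_stabilizer_iff, Cov.perm_dlL σ pr0, h1, h2]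

theorem chi_none : chi p∞ = 0 := funext fun d => by simp [chi, coc_singleton, d.2.2.1]

theorem chi_zero : chi p₀ = 0 := funext fun d => by simp [chi, coc_singleton, d.2.2.2]

theorem chi_inj {j k : GolayPt} (h : chi j = chi k) (h1 : j ≠ p∞) (h2 : j ≠ p₀) : j = k := by
  by_contra e
  have := sub_pair pr0 (s := symmDiff {j} {k}) (by
    have := Golay.card_symmDiff_add {j} {k}; simp only [card_singleton] at this; omega)
    (fun d a b c => by rw [coc_symmDiff, show coc {j} d = coc {k} d from congrFun h ⟨d, a, b, c⟩, z2_add_self])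
    (x := j) (by simp [mem_symmDiff, e])
  simp [h1, h2] at this

theorem chi_inj' : Function.Injective fun j : {j : GolayPt // j ≠ p₀} => chi j := fun j k e => by
  by_cases a : j.1 = p∞
  · by_cases b : k.1 = p∞
    exacts [Subtype.ext (a.trans b.symm), Subtype.ext (chi_inj e.symm b k.2).symm]
  · exact Subtype.ext (chi_inj e a j.2)

theorem card_ne_zero' : Fintype.card {j : GolayPt // j ≠ p₀} = 23 := by decide +kernel

variable {F W W' : Type*} [Field F] [AddCommGroup W] [Module F W] [AddCommGroup W'] [Module F W']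
  {b : Co0 → End F W} {b' : Co0 → End F W'}

/-- the weight spaces -/
def wx (b : Co0 → End F W) (ψ : CW0 → ZMod 2) : Submodule F W := ex (fun d => b (eps d)) ψ

theorem Rp.ci (h : Rp LL b) : CI (fun d => b (eps d)) ⊤ :=
  ⟨fun _ _ _ => trivial, fun d v _ => by rw [← h.app (eps_mem d) (eps_mem d), eps, sgnAut_mul_self, h.one_app],
    fun d e v _ => by
      rw [← h.app (eps_mem _) (eps_mem _), ← h.app (eps_mem _) (eps_mem _)]
      simp only [eps, sgnAut_mul, symmDiff_comm d.1]⟩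

theorem mem_wx {ψ : CW0 → ZMod 2} {x : W} : x ∈ wx b ψ ↔ ∀ d, b (eps d) x = sF F (ψ d) • x := Iff.rfl

theorem Rp.map_wx (h : Rp LL b) {c : Finset GolayPt} {hc : IsCW c} {σ : M24} (hg : sgnAut c hc * permAut σ ∈ LL)
    {δ : Finset GolayPt} {x : W} (hx : x ∈ wx b fun d => coc δ d.1) :
    b (sgnAut c hc * permAut σ) x ∈ wx b fun d => coc (σ • δ) d.1 := fun d => by
  have k : p∞ ∉ σ⁻¹ • d.1 ∧ p₀ ∉ σ⁻¹ • d.1 := by
    simp only [mem_inv_smul_finset_iff]
    rcases mono_cases pr0 hg with e | e <;> rw [e.1, e.2.1]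
    exacts [d.2.2, d.2.2.symm]
  rw [h.conj' hg (eps_mem d), show _ * eps d * _ = eps ⟨σ⁻¹ • d.1, isCW_smul d.2.1 _, k⟩ from ?_, mem_wx.1 hx, map_smul,
    ← coc_smul']
  rw [mul_assoc, inv_mul_eq_iff_eq_mul, eps, eps, mul_assoc, permAut_mul_sgnAut, ← mul_assoc, ← mul_assoc,
    sgnAut_mul, sgnAut_mul]
  simp only [smul_inv_smul, symmDiff_comm]

theorem perm_eq (σ : M24) : permAut σ = sgnAut ∅ isCW_empty * permAut σ := by rw [sgnAut_empty, one_mul]

theorem Rp.perm_wx (h : Rp LL b) {σ : M24} (hg : permAut σ ∈ LL) {δ : Finset GolayPt} {x : W}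
    (hx : x ∈ wx b fun d => coc δ d.1) : b (permAut σ) x ∈ wx b fun d => coc (σ • δ) d.1 := by
  rw [perm_eq] at hg ⊢; exact h.map_wx hg hx

theorem Rp.map_chi (h : Rp LL b) {c : Finset GolayPt} {hc : IsCW c} {σ : M24} (hg : sgnAut c hc * permAut σ ∈ LL)
    {j : GolayPt} {x : W} (hx : x ∈ wx b (chi j)) : b (sgnAut c hc * permAut σ) x ∈ wx b (chi (σ • j)) := by
  have := h.map_wx hg (δ := {j}) hx
  rwa [smul_finset_singleton] at this

theorem Rp.perm_chi (h : Rp LL b) {σ : M24} (hg : permAut σ ∈ LL) {j : GolayPt} {x : W} (hx : x ∈ wx b (chi j)) :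
    b (permAut σ) x ∈ wx b (chi (σ • j)) := by rw [perm_eq] at hg ⊢; exact h.map_chi hg hx

theorem exists_M22 {j k : GolayPt} (h1 : j ≠ p∞) (h2 : j ≠ p₀) (k1 : k ≠ p∞) (k2 : k ≠ p₀) :
    ∃ σ : M24, σ • p∞ = p∞ ∧ σ • p₀ = p₀ ∧ σ • j = k :=
  exists_M24_three (by simp [h1.symm, h2.symm]) (by simp [k1.symm, k2.symm])

variable [NeZero (2 : F)]

theorem Rp.exists_coc (h : Rp LL b) {ψ : CW0 → ZMod 2} {x : W} (hx : x ∈ wx b ψ) (h0 : x ≠ 0) :
    ∃ δ, ψ = fun d => coc δ d.1 := by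
  classical
  let S : Submodule (ZMod 2) (GolayPt → ZMod 2) :=
    golayCode ⊓ LinearMap.ker (LinearMap.proj p∞) ⊓ LinearMap.ker (LinearMap.proj p₀)
  have hS : ∀ d, ind d ∈ S ↔ IsCW d ∧ p∞ ∉ d ∧ p₀ ∉ d := fun d => by simp [S, isCW_iff, ind, and_assoc]
  obtain ⟨δ, hδ⟩ := exists_coc_sub (S := S) (fun d => if h : IsCW d ∧ p∞ ∉ d ∧ p₀ ∉ d then ψ ⟨d, h⟩ else 0)
    fun d e hd he => by
      rw [hS] at hd he
      have k : IsCW (symmDiff d e) ∧ p∞ ∉ symmDiff d e ∧ p₀ ∉ symmDiff d e :=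
        ⟨hd.1.symmDiff he.1, by simp [mem_symmDiff, hd.2, he.2]⟩
      rw [dif_pos hd, dif_pos he, dif_pos k]
      refine eq_of_sF_smul (F := F) h0 ?_
      rw [← mem_wx.1 hx ⟨_, k⟩, show eps ⟨_, k⟩ = eps ⟨d, hd⟩ * eps ⟨e, he⟩ from (sgnAut_mul _ _ _ _).symm,
        h.app (eps_mem _) (eps_mem _), mem_wx.1 hx ⟨e, he⟩, map_smul, mem_wx.1 hx ⟨d, hd⟩, smul_smul, sF_add, mul_comm]
  exact ⟨δ, funext fun d => by rw [← hδ _ ((hS _).2 d.2), dif_pos d.2]⟩

variable [FiniteDimensional F W]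

/-- the hypotheses on the module -/
structure WH (b : Co0 → End F W) : Prop extends Rp LL b where
  dim : finrank F W ≤ 23
  ex0 : ∃ j, j ≠ p∞ ∧ j ≠ p₀ ∧ ∃ x ∈ wx b (chi j), x ≠ 0

namespace WH

variable (h : WH b)
include h

omit [NeZero (2 : F)] [FiniteDimensional F W] in
theorem ex' {k : GolayPt} (k1 : k ≠ p∞) (k2 : k ≠ p₀) : ∃ x ∈ wx b (chi k), x ≠ 0 := by
  obtain ⟨j, h1, h2, x, h3, h4⟩ := h.ex0
  obtain ⟨σ, s1, s2, rfl⟩ := exists_M22 h1 h2 k1 k2
  exact ⟨_, h.perm_chi (perm_mem s1 s2) h3, h.ne_zero (perm_mem s1 s2) h4⟩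

theorem wts {ψ : CW0 → ZMod 2} {x : W} (hx : x ∈ wx b ψ) (h0 : x ≠ 0) : ∃ j, ψ = chi j := by
  obtain ⟨δ, rfl⟩ := h.exists_coc hx h0
  by_contra! k
  refine k p∞ (funext fun d => (inv_coc pr0 (fun σ s1 s2 d a1 a2 a3 => ?_) _ d.2.1 d.2.2.1 d.2.2.2).trans
    (congrFun chi_none d).symm)
  by_contra e
  have k' : ∀ j, (fun d : CW0 => coc (σ • δ) d.1) ≠ chi j := fun j e => k (σ⁻¹ • j) (funext fun d => by
    have := congrFun e ⟨σ⁻¹⁻¹ • d.1, isCW_smul d.2.1 _, notMem_smul (inv_smul_eq_iff.2 s1.symm) d.2.2.1,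
      notMem_smul (inv_smul_eq_iff.2 s2.symm) d.2.2.2⟩
    rw [chi, ← smul_finset_singleton, coc_smul']
    rwa [coc_smul', show σ⁻¹ • σ⁻¹⁻¹ • d.1 = d.1 by simp] at this)
  have := card_le_finrank (fun d => b (eps d)) ⊤ (κ := Option {j : GolayPt // j ≠ p₀})
    (χ := fun i => i.elim (fun d => coc δ d.1) fun j => if j.1 = p∞ then fun d => coc (σ • δ) d.1 else chi j)
    (by
      have e' : (fun d : CW0 => coc (σ • δ) d.1) ≠ fun d => coc δ d.1 := fun a => e (congrFun a ⟨d, a1, a2, a3⟩)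
      rintro (_ | i) (_ | j) a <;> simp only [Option.elim] at a
      · rfl
      · split_ifs at a
        exacts [absurd a.symm e', absurd a (k _)]
      · split_ifs at a
        exacts [absurd a e', absurd a.symm (k _)]
      · split_ifs at a with c1 c2 c2
        exacts [congrArg _ (Subtype.ext (c1.trans c2.symm)), absurd a (k' _), absurd a.symm (k' _),
          congrArg _ (chi_inj' a)])
    (by
      rintro (_ | i) <;> simp only [Option.elim]
      · exact ⟨x, trivial, hx, h0⟩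
      · split_ifs with c
        · exact ⟨_, trivial, h.perm_wx (perm_mem s1 s2) hx, h.ne_zero (perm_mem s1 s2) h0⟩
        · obtain ⟨y, y1, y2⟩ := h.ex' c i.2
          exact ⟨y, trivial, y1, y2⟩)
  rw [finrank_top, Nat.card_eq_fintype_card, Fintype.card_option, card_ne_zero'] at this
  have := h.dim
  omega

theorem finrank_wx (j : GolayPt) : finrank F (wx b (chi j)) ≤ 1 := by
  have h1 := sum_finrank_le (fun d => b (eps d)) ⊤ chi_inj'
  rw [finrank_top, sum_congr rfl fun k _ => by rw [top_inf_eq]] at h1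
  have h2 : ∀ k : {j : GolayPt // j ≠ p₀}, k ≠ ⟨p∞, pr0⟩ → finrank F (ex (fun d => b (eps d)) (chi k)) =
      finrank F (wx b (chi p₁)) := fun k hk => by
    have k1 : k.1 ≠ p∞ := fun e => hk (Subtype.ext e)
    obtain ⟨σ, s1, s2, s3⟩ := exists_M22 k1 k.2 (k := p₁) (by decide) (by decide)
    obtain ⟨τ, t1, t2, t3⟩ := exists_M22 (j := p₁) (by decide) (by decide) k1 k.2
    exact le_antisymm (finrank_le_of_map (h.inj (perm_mem s1 s2)) fun x hx => s3 ▸ h.perm_chi (perm_mem s1 s2) hx)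
      (finrank_le_of_map (h.inj (perm_mem t1 t2)) fun x hx => t3 ▸ h.perm_chi (perm_mem t1 t2) hx)
  rw [← add_sum_erase _ _ (mem_univ ⟨p∞, pr0⟩), sum_congr rfl fun k hk => h2 k (mem_erase.1 hk).1, sum_const,
    card_erase_of_mem (mem_univ _), card_univ, card_ne_zero', smul_eq_mul] at h1
  have h3 := h.dim
  obtain ⟨x, x1, x2⟩ := h.ex' (k := p₁) (by decide) (by decide)
  have h4 : 0 < finrank F (wx b (chi p₁)) :=
    finrank_pos_iff_exists_ne_zero.2 ⟨⟨x, x1⟩, fun e => x2 (congrArg Subtype.val e)⟩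
  by_cases a : j = p∞ ∨ j = p₀
  · have : chi j = chi p∞ := by rcases a with rfl | rfl; exacts [rfl, chi_zero.trans chi_none.symm]
    exact this ▸ (by omega : finrank F (ex (fun d => b (eps d)) (chi (⟨_, pr0⟩ : {j // j ≠ p₀}))) ≤ 1)
  · have := h2 ⟨j, (not_or.1 a).2⟩ fun e => (not_or.1 a).1 (congrArg Subtype.val e)
    rw [wx, this]; omega

theorem line {j : GolayPt} {v x : W} (hv : v ∈ wx b (chi j)) (h0 : v ≠ 0) (hx : x ∈ wx b (chi j)) :
    ∃ μ : F, x = μ • v := exists_smul_of_finrank (h.finrank_wx j) hv h0 hx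

theorem perm_fix {S : Subgroup M24} (hS : S ≤ stabilizer M24 p∞ ⊓ stabilizer M24 p₀) (hp : ⁅S, S⁆ = S)
    {j : GolayPt} (hj : ∀ σ ∈ S, chi (σ • j) = chi j) {x : W} (hx : x ∈ wx b (chi j)) {σ : M24} (hσ : σ ∈ S) :
    b (permAut σ) x = x := by
  by_cases h0 : x = 0
  · rw [h0, map_zero]
  exact (h.comp permHom fun τ hτ => perm_mem (hS hτ).1 (hS hτ).2).fix_of_perfect le_rfl hp
    (fun τ hτ => h.line hx h0 (hj τ hτ ▸ h.perm_chi (perm_mem (hS hτ).1 (hS hτ).2) hx)) hσ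

theorem perm_D {x : W} (hx : x ∈ wx b (chi p∞)) {σ : M24} (s1 : σ • p∞ = p∞)
    (s2 : σ • p₀ = p₀) : b (permAut σ) x = x :=
  h.perm_fix le_rfl (perfect_stab2 pr0) (fun _ hτ => congrArg chi hτ.1) hx ⟨s1, s2⟩

theorem exists_e : ∃ e : GolayPt → W, ∀ j, j ≠ p∞ → j ≠ p₀ → e j ∈ wx b (chi j) ∧ e j ≠ 0 ∧
    ∀ σ : M24, σ • p∞ = p∞ → σ • p₀ = p₀ → b (permAut σ) (e j) = e (σ • j) := by
  obtain ⟨x, x1, x2⟩ := h.ex' (k := p₁) (by decide) (by decide)
  have k : ∀ j, ∃ σ : M24, σ • p∞ = p∞ ∧ σ • p₀ = p₀ ∧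
      (j ≠ p∞ → j ≠ p₀ → σ • p₁ = j) := fun j => by
    by_cases a : j ≠ p∞ ∧ j ≠ p₀
    · obtain ⟨σ, s1, s2, s3⟩ := exists_M22 (j := p₁) (by decide) (by decide) a.1 a.2
      exact ⟨σ, s1, s2, fun _ _ => s3⟩
    · exact ⟨1, rfl, rfl, fun a1 a2 => absurd ⟨a1, a2⟩ a⟩
  choose s s1 s2 s3 using k
  have m := fun j => perm_mem (s1 j) (s2 j)
  refine ⟨fun j => b (permAut (s j)) x, fun j j1 j2 => ⟨by simpa [s3 j j1 j2] using h.perm_chi (m j) x1,
    h.ne_zero (m j) x2, fun σ t1 t2 => ?_⟩⟩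
  have a1 : σ • j ≠ p∞ := fun e => j1 (smul_left_cancel σ (e.trans t1.symm))
  have a2 : σ • j ≠ p₀ := fun e => j2 (smul_left_cancel σ (e.trans t2.symm))
  have := h.perm_fix inf_le_left (perfect_stab3 (s := p₁) pr0 (by decide) (by decide))
    (fun _ hτ => congrArg chi hτ.2) x1 (σ := (s (σ • j))⁻¹ * (σ * s j)) (by
      simp only [Subgroup.mem_inf, mem_stabilizer_iff, mul_smul, inv_smul_eq_iff, s1, s2, t1, t2, s3 j j1 j2,
        s3 _ a1 a2, and_self])
  rw [permAut_mul, permAut_mul, permAut_inv, h.app (inv_mem (m _)) (mul_mem (perm_mem t1 t2) (m j)),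
    h.app (perm_mem t1 t2) (m j)] at this
  simpa [h.app_inv (m _)] using congrArg (b (permAut (s (σ • j)))) this

end WH

end CfsgLib.MonRep
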