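import Mathlib
import Cfsg.Agent.Lib.MonRep.W23

/-!
The module of dimension 23 for `Co₂`: uniqueness.
-/

set_option autoImplicit false

namespace CfsgLib.MonRep

open Module Cfsg CfsgLib.Mon CfsgLib.Mon.Mult CfsgLib.Leech CfsgLib.MType Finset MulAction
open scoped Pointwise

theorem gT_mem : gT ∈ LL := Subtype.ext (by rw [coe_gT_smul, funext_iff]; decide +kernel)

theorem gT_comm {d : Finset GolayPt} (hd : IsCW d) (h : ∀ i, (p1 i ∈ d ↔ i ∈ d) ∧ (p2 i ∈ d ↔ i ∈ d) ∧ (p3 i ∈ d ↔ i ∈ d)) :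
    gT * sgnAut d hd = sgnAut d hd * gT := by
  have : xi * sgnAut d hd = sgnAut d hd * xi := co0_ext fun v => Subtype.ext (funext fun i => by
    have h1 := two_mul_xi_smul (sgnAut d hd • v) i
    have h2 := two_mul_xi_smul v i
    simp only [mul_smul, sgnAut_smul_apply, h i] at h1 ⊢
    split_ifs at h1 ⊢ <;> linarith)
  rw [gT, mul_assoc, this, ← mul_assoc, ← mul_assoc, sgnAut_mul, sgnAut_mul]
  simp only [symmDiff_comm]

theorem gT_tet : gT • e8 p₁ = dlL p₁ p∞ + dlL p₂ p₀ ∧ dlL p₂ p∞ + dlL p₁ p₀ = gT • e8 p₁ ∧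
    gT • e8 p₂ = gT • e8 p₁ - (e8 p₁ + e8 p₂) ∧ gT • e8 p∞ = dlL p₂ p₁ + dlL p∞ p₀ ∧
    dlL p₁ p₂ + dlL p∞ p₀ = gT • -e8 p₀ := by
  simp only [Subtype.ext_iff, AddSubgroup.coe_add, AddSubgroup.coe_sub, coe_gT_smul, funext_iff]
  decide +kernel

/-- three octads covering the complement of the first tetrad -/
def oC (i : Fin 3) : CW0 := ⟨Golay.ofMask ([4415544, 2890176, 1351424].getD i 0), 
  isCW_ofMask (by revert i; decide +kernel), by revert i; simp only [Golay.mem_ofMask]; decide +kernel⟩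

theorem oC_comm (i : Fin 3) : gT * eps (oC i) = eps (oC i) * gT :=
  gT_comm _ (by revert i; simp only [oC, Golay.mem_ofMask]; decide +kernel)

theorem oC_cover : ∀ j, (∀ i, j ∉ (oC i).1) ↔ j = p∞ ∨ j = p₀ ∨ j = p₁ ∨ j = p₂ := by
  simp only [oC, Golay.mem_ofMask]; decide +kernel

/-- separating codewords -/
def sC (i : Fin 5) : CW0 := ⟨Golay.ofMask ([2076750, 8307000, 5207696, 2316478, 8077824].getD i 0), 
  isCW_ofMask (by revert i; decide +kernel), by revert i; simp only [Golay.mem_ofMask]; decide +kernel⟩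

theorem sC_even : ∀ i, p₁ ∈ (sC i).1 ↔ p₂ ∈ (sC i).1 := by simp only [sC, Golay.mem_ofMask]; decide +kernel

theorem sC_sep : ∀ j k, ¬(j = p∞ ∨ j = p₀ ∨ j = p₁ ∨ j = p₂) → (∀ i, j ∈ (sC i).1 ↔ k ∈ (sC i).1) → k = j := by
  simp only [sC, Golay.mem_ofMask]; decide +kernel

theorem exists_sep12 : (∃ d : CW0, p₁ ∈ d.1 ∧ p₂ ∉ d.1) ∧ ∃ d : CW0, p₂ ∈ d.1 ∧ p₁ ∉ d.1 := by
  obtain ⟨a, a1, -, a2, a3⟩ := Cov.exists_octad_sep {p₁} {p∞, p₀, p₂} (by decide) (by decide)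
  obtain ⟨b, b1, -, b2, b3⟩ := Cov.exists_octad_sep {p₂} {p∞, p₀, p₁} (by decide) (by decide)
  exact ⟨⟨⟨a, a1, a3 _ (by simp), a3 _ (by simp)⟩, a2 _ (by simp), a3 _ (by simp)⟩,
    ⟨⟨b, b1, b3 _ (by simp), b3 _ (by simp)⟩, b2 _ (by simp), b3 _ (by simp)⟩⟩

theorem coc_compl (j : GolayPt) (c : Finset GolayPt) : coc {j} (symmDiff c univ) = coc {j} c + 1 := by
  rw [coc_symmDiff', coc_singleton j univ, if_pos (mem_univ _)]

variable {F W W' : Type*} [Field F] [AddCommGroup W] [Module F W] [AddCommGroup W'] [Module F W']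
  {b : Co0 → End F W} {b' : Co0 → End F W'} [NeZero (2 : F)]

theorem indep3 {δ x y : W} (h0 : δ ∈ wx b (chi p∞)) (h1 : x ∈ wx b (chi p₁)) (h2 : y ∈ wx b (chi p₂))
    (e : δ + x + y = 0) : δ = 0 ∧ x = 0 ∧ y = 0 := by
  obtain ⟨⟨d, d1, d2⟩, d', d3, d4⟩ := exists_sep12
  have e1 := congrArg (b (eps d)) e
  have e2 := congrArg (b (eps d')) e
  rw [map_add, map_add, mem_wx.1 h0, mem_wx.1 h1, mem_wx.1 h2, chi_none] at e1 e2
  simp only [chi, coc_singleton, d1, d2, d3, d4, if_true, if_false, Pi.zero_apply, sF_zero, sF_one, one_smul,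
    neg_smul, map_zero] at e1 e2
  have k1 : x = 0 := eq_zero_of_neg F (by linear_combination (norm := abel_nf) e - e1)
  have k2 : y = 0 := eq_zero_of_neg F (by linear_combination (norm := abel_nf) e - e2)
  exact ⟨by simpa [k1, k2] using e, k1, k2⟩

variable [FiniteDimensional F W] [FiniteDimensional F W']

/-- the structure of the module -/
structure WS (b : Co0 → End F W) (e : GolayPt → W) : Prop extends WH b where
  pr : e p∞ = e p₀
  mem : ∀ j, e j ∈ wx b (chi j)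
  ne : ∀ j, e j ≠ 0
  mon : ∀ c hc σ, sgnAut c hc * permAut σ ∈ LL → ∀ j,
    b (sgnAut c hc * permAut σ) (e j) = sF F (coc {σ • j} c) • e (σ • j)
  gt : b gT (e p∞) = e p₂ - e p₁

namespace WH

variable (h : WH b)
include h

theorem le {P Q : Submodule F W} (h1 : ∀ d, ∀ x ∈ P, b (eps d) x ∈ P)
    (h2 : ∀ j, ∀ x ∈ P, x ∈ wx b (chi j) → x ≠ 0 → x ∈ Q) : P ≤ Q :=
  (h.ci.mono le_top h1).le fun _ x k1 k2 => by
    by_cases k : x = 0
    · exact k ▸ zero_mem _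
    · obtain ⟨j, rfl⟩ := h.wts k2 k
      exact h2 j x k1 k2 k

omit [NeZero (2 : F)] [FiniteDimensional F W] in
theorem eps_mem_ex {ι : Type*} {d : ι → CW0} {ψ : ι → ZMod 2} (c : CW0) {x : W}
    (hx : x ∈ ex (fun i => b (eps (d i))) ψ) : b (eps c) x ∈ ex (fun i => b (eps (d i))) ψ := fun i => by
  rw [h.ci.comm _ _ _ trivial, hx i, map_smul]

omit [NeZero (2 : F)] [FiniteDimensional F W] in
theorem gT_mem_ex {ι : Type*} {d : ι → Fin 3} {ψ : ι → ZMod 2} {x : W} :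
    b gT x ∈ ex (fun i => b (eps (oC (d i)))) ψ ↔ x ∈ ex (fun i => b (eps (oC (d i)))) ψ :=
  forall_congr' fun i => by
    rw [← h.app (eps_mem _) gT_mem, ← oC_comm, h.app gT_mem (eps_mem _), ← map_smul, (h.inj gT_mem).eq_iff]

theorem exists_ws : ∃ e, WS b e := by
  obtain ⟨e, he⟩ := h.exists_e
  obtain ⟨τ, t1, t2, t3, t4⟩ := exists_M24_four (a := p∞) (b := p₀) (c := p₁) (d := p₂) (a' := p∞) (b' := p₀)
    (c' := p₂) (d' := p₁) (by decide) (by decide)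
  have ht := perm_mem t1 t2
  have hg : gT⁻¹ * permAut τ * gT ∈ LL := mul_mem (mul_mem (inv_mem gT_mem) ht) gT_mem
  obtain ⟨g1, g1', g2, g3, g3'⟩ := gT_tet
  have f1 : permAut τ • gT • e8 p₁ = gT • e8 p₁ := by
    rw [g1, smul_add, Cov.perm_dlL _ (by decide), Cov.perm_dlL _ (by decide), t1, t2, t3, t4, g1', g1]
  have k1 : (gT⁻¹ * permAut τ * gT) • e8 p₁ = e8 p₁ := by rw [mul_smul, mul_smul, f1, inv_smul_smul]
  have k2 : (gT⁻¹ * permAut τ * gT) • e8 p₂ = e8 p₂ := by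
    rw [mul_smul, mul_smul, inv_smul_eq_iff, g2, smul_sub, smul_add, f1, permAut_smul_e8, permAut_smul_e8, t3, t4,
      add_comm (e8 p₂)]
  have k3 : (gT⁻¹ * permAut τ * gT) • e8 p∞ = -e8 p₀ := by
    rw [mul_smul, mul_smul, inv_smul_eq_iff, g3, smul_add, Cov.perm_dlL _ (by decide), ht, t3, t4, g3']
  obtain ⟨c, hc, σ, hσ⟩ := mem_monoGrp_of_smul_e8 _ (Or.inl k1)
  have rel : ∀ x, b (permAut τ) (b gT x) = b gT (b (sgnAut c hc * permAut σ) x) := fun x => hσ ▸ h.conj' gT_mem ht x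
  rw [hσ] at hg
  rw [hσ, mono_smul_e8] at k1 k2 k3
  have s1 : σ • p₁ = p₁ ∧ p₁ ∉ c := by
    split_ifs at k1 with a
    exacts [absurd k1.symm (e8_ne_neg' _ _), ⟨e8_inj k1, e8_inj k1 ▸ a⟩]
  have s2 : σ • p₂ = p₂ ∧ p₂ ∉ c := by
    split_ifs at k2 with a
    exacts [absurd k2.symm (e8_ne_neg' _ _), ⟨e8_inj k2, e8_inj k2 ▸ a⟩]
  obtain ⟨s3, s4, s5, s6⟩ := (mono_cases pr0 hg).resolve_left fun a => by
    rw [a.1, if_neg a.2.2.1] at k3; exact e8_ne_neg' _ _ k3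
  have dec : ∀ c hc (σ : M24) (a : p∞ ∈ c) (a' : p₀ ∈ c), sgnAut c hc * permAut σ =
      eps ⟨_, hc.symmDiff isCW_univ, by simp [mem_symmDiff, a], by simp [mem_symmDiff, a']⟩ *
        (sgnAut _ isCW_univ * permAut σ) := fun c hc σ a a' => by
    rw [← mul_assoc, eps, sgnAut_mul]; simp only [symmDiff_symmDiff_cancel_right]
  have hg0 : sgnAut _ isCW_univ * permAut σ ∈ LL := (LL.mul_mem_cancel_left (eps_mem _)).1 (dec c hc σ s5 s6 ▸ hg)
  obtain ⟨a1, a2, a3⟩ := he p₁ (by decide) (by decide)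
  obtain ⟨b1, b2, b3⟩ := he p₂ (by decide) (by decide)
  obtain ⟨l, hl⟩ := h.line a1 a2 (s1.1 ▸ h.map_chi hg0 a1)
  have sw : ∀ (ρ : M24), ρ • p∞ = p∞ → ρ • p₀ = p₀ → (σ * ρ * σ⁻¹) • p∞ = p∞ ∧ (σ * ρ * σ⁻¹) • p₀ = p₀ :=
    fun ρ r1 r2 => by
      rw [mul_smul, mul_smul, mul_smul, mul_smul, inv_smul_eq_iff.2 s4.symm, inv_smul_eq_iff.2 s3.symm, r1, r2]
      exact ⟨s4, s3⟩
  have hl' : ∀ j, j ≠ p∞ → j ≠ p₀ → b (sgnAut _ isCW_univ * permAut σ) (e j) = l • e (σ • j) := fun j j1 j2 => by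
    obtain ⟨ρ, r1, r2, rfl⟩ := exists_M22 (j := p₁) (by decide) (by decide) j1 j2
    rw [← a3 ρ r1 r2, h.conj hg0 (perm_mem r1 r2), hl, map_smul, show _ * permAut ρ * _ = permAut (σ * ρ * σ⁻¹) from ?_,
      a3 _ (sw ρ r1 r2).1 (sw ρ r1 r2).2, mul_smul, mul_smul, inv_smul_eq_iff.2 s1.1.symm]
    rw [permAut_mul, permAut_mul, permAut_inv, show sgnAut _ isCW_univ = negAut from rfl, mul_inv_rev,
      ← mul_assoc, mul_assoc negAut, mul_assoc negAut, ← Subgroup.mem_center_iff.1 negAut_mem_center,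
      mul_inv_cancel_right]
  have ga : b (sgnAut c hc * permAut σ) (e p₁) = -l • e p₁ ∧ b (sgnAut c hc * permAut σ) (e p₂) = -l • e p₂ := by
    simp only [dec c hc σ s5 s6, h.app (eps_mem _) hg0, hl' p₁ (by decide) (by decide),
      hl' p₂ (by decide) (by decide), s1.1, s2.1, map_smul, mem_wx.1 a1, mem_wx.1 b1, chi, coc_compl]
    simp [coc_singleton, s1.2, s2.2]
  let B := ex (fun i => b (eps (oC (id i)))) 0
  have hB : ∀ x ∈ B, ∃ δ ∈ wx b (chi p∞), ∃ α β : F, x = δ + α • e p₁ + β • e p₂ := fun x hx => by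
    have := h.le (P := B) (Q := wx b (chi p∞) ⊔ F ∙ e p₁ ⊔ F ∙ e p₂) (fun d _ => h.eps_mem_ex d)
      (fun j x x1 x2 x3 => by
        rcases (oC_cover j).1 fun i hi => by
          simpa [chi, coc_singleton, hi] using eq_of_sF_smul x3 ((x1 i).symm.trans (x2 (oC i)))
          with rfl | rfl | rfl | rfl
        · exact Submodule.mem_sup_left (Submodule.mem_sup_left x2)
        · exact Submodule.mem_sup_left (Submodule.mem_sup_left (by rwa [chi_zero, ← chi_none] at x2))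
        · obtain ⟨μ, rfl⟩ := h.line a1 a2 x2
          exact Submodule.mem_sup_left (Submodule.mem_sup_right (Submodule.mem_span_singleton.2 ⟨μ, rfl⟩))
        · obtain ⟨μ, rfl⟩ := h.line b1 b2 x2
          exact Submodule.mem_sup_right (Submodule.mem_span_singleton.2 ⟨μ, rfl⟩)) hx
    simp only [Submodule.mem_sup, Submodule.mem_span_singleton] at this
    obtain ⟨_, ⟨δ, h1, _, ⟨α, rfl⟩, rfl⟩, _, ⟨β, rfl⟩, rfl⟩ := this
    exact ⟨δ, h1, α, β, rfl⟩
  have mB : ∀ j x, x ∈ wx b (chi j) → j = p₁ ∨ j = p₂ → x ∈ B := fun j x hx hj i => by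
    exact (mem_wx.1 hx _).trans (by rw [chi, coc_singleton, if_neg ((oC_cover j).2 (Or.inr (Or.inr hj)) _)]; rfl)
  have sm := fun (j) (μ : F) {x} => (wx b (chi j)).smul_mem μ (x := x)
  obtain rfl : l = -1 := by
    by_contra hl1
    have key : ∀ x ∈ B, b (sgnAut c hc * permAut σ) x = -l • x → ∃ α : F, b gT x = α • (e p₁ - l • e p₂) := by
      intro x x1 x2
      obtain ⟨δ, d1, α, β, d2⟩ := hB _ (h.gT_mem_ex.2 x1)
      have := rel x
      rw [x2, map_smul, d2, map_add, map_add, map_smul, map_smul, h.perm_D d1 t1 t2, a3 τ t1 t2, b3 τ t1 t2,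
        t3, t4] at this
      obtain ⟨c1, c2, -⟩ := indep3 (sm _ (1 + l) d1) (sm _ (β + l * α) a1) (sm _ (α + l * β) b1)
        (by linear_combination (norm := module) this)
      rw [smul_eq_zero] at c1 c2
      refine ⟨α, ?_⟩
      rw [d2, c1.resolve_left fun a => hl1 (by linear_combination a),
        show β = -(l * α) by linear_combination c2.resolve_right a2]
      module
    obtain ⟨α, c1⟩ := key _ (mB _ _ a1 (Or.inl rfl)) ga.1
    obtain ⟨β, c2⟩ := key _ (mB _ _ b1 (Or.inr rfl)) ga.2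
    have := (indep3 (zero_mem _) (sm _ β a1) (sm _ (-α) b1) (h.inj gT_mem (by
      rw [map_add, map_add, map_smul, map_smul, c1, c2, map_zero]; module))).2.2
    rw [neg_eq_zero.1 ((smul_eq_zero.1 this).resolve_right b2), zero_smul] at c1
    exact h.ne_zero gT_mem a2 c1
  simp only [neg_neg, one_smul] at ga
  have c0 : b gT (b gT⁻¹ (e p₂ - e p₁)) = e p₂ - e p₁ := h.app_inv gT_mem _
  generalize b gT⁻¹ (e p₂ - e p₁) = d at c0
  have c1 : b (sgnAut c hc * permAut σ) d = -d := h.inj gT_mem (by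
    rw [← rel, map_neg, c0, map_sub, a3 τ t1 t2, b3 τ t1 t2, t3, t4, neg_sub])
  have c2 : d ∈ wx b (chi p∞) := by
    obtain ⟨δ, d1, α, β, rfl⟩ := hB d (h.gT_mem_ex.1 (c0 ▸ sub_mem (mB _ _ b1 (Or.inr rfl)) (mB _ _ a1 (Or.inl rfl))))
    have d2 := h.map_chi hg d1
    rw [s3, chi_zero, ← chi_none] at d2
    rw [map_add, map_add, map_smul, map_smul, ga.1, ga.2] at c1
    obtain ⟨-, c2, c3⟩ := indep3 (add_mem d2 d1) (sm _ (2 * α) a1) (sm _ (2 * β) b1)
      (by linear_combination (norm := module) c1)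
    rw [mul_smul, smul_eq_zero_iff_right two_ne_zero] at c2 c3
    rwa [c2, c3, add_zero, add_zero]
  have c3 : d ≠ 0 := fun a => b2 (indep3 (zero_mem _) (neg_mem a1) b1 (by
    rw [zero_add, neg_add_eq_sub, ← c0, a, map_zero])).2.2
  have c4 : b (sgnAut _ isCW_univ * permAut σ) d = -d := h.inj (eps_mem _) (by
    rw [← h.app (eps_mem _) hg0, ← dec c hc σ s5 s6, c1, map_neg, mem_wx.1 c2, chi_none]; simp)
  have k0 : ∀ j, (if j = p∞ ∨ j = p₀ then d else e j) ∈ wx b (chi j) := fun j => by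
    split_ifs with a
    · rcases a with rfl | rfl
      exacts [c2, by rwa [chi_zero, ← chi_none]]
    · exact (he j (not_or.1 a).1 (not_or.1 a).2).1
  have k4 : ∀ ρ : M24, ρ • p∞ = p∞ → ρ • p₀ = p₀ → ∀ j, b (permAut ρ) (if j = p∞ ∨ j = p₀ then d else e j) =
      if ρ • j = p∞ ∨ ρ • j = p₀ then d else e (ρ • j) := fun ρ r1 r2 j => by
    simp only [smul_eq_iff_eq_inv_smul, inv_smul_eq_iff.2 r1.symm, inv_smul_eq_iff.2 r2.symm]
    split_ifs with a
    exacts [h.perm_D c2 r1 r2, (he j (not_or.1 a).1 (not_or.1 a).2).2.2 ρ r1 r2]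
  have k5 : ∀ j, b (sgnAut _ isCW_univ * permAut σ) (if j = p∞ ∨ j = p₀ then d else e j) =
      -if σ • j = p∞ ∨ σ • j = p₀ then d else e (σ • j) := fun j => by
    simp only [smul_eq_iff_eq_inv_smul, inv_smul_eq_iff.2 s3.symm, inv_smul_eq_iff.2 s4.symm, or_comm (a := j = p₀)]
    split_ifs with a
    exacts [c4, by rw [hl' j (not_or.1 a).1 (not_or.1 a).2, neg_one_smul]]
  refine ⟨fun j => if j = p∞ ∨ j = p₀ then d else e j, h, by simp, k0, fun j => ?_, fun c' hc' ρ hρ j => ?_,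
    c0⟩
  · split_ifs with a
    exacts [c3, (he j (not_or.1 a).1 (not_or.1 a).2).2.1]
  · rcases mono_cases pr0 hρ with ⟨r1, r2, r3, r4⟩ | ⟨r1, r2, r3, r4⟩
    · rw [show sgnAut c' hc' = eps ⟨c', hc', r3, r4⟩ from rfl, h.app (eps_mem _) (perm_mem r1 r2), k4 ρ r1 r2,
        mem_wx.1 (k0 _)]
      rfl
    · have r5 : (ρ * σ⁻¹) • p∞ = p∞ := by rw [mul_smul, inv_smul_eq_iff.2 s4.symm, r2]
      have r6 : (ρ * σ⁻¹) • p₀ = p₀ := by rw [mul_smul, inv_smul_eq_iff.2 s3.symm, r1]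
      have r7 : sgnAut _ isCW_univ * permAut ρ = permAut (ρ * σ⁻¹) * (sgnAut _ isCW_univ * permAut σ) := by
        rw [show sgnAut _ isCW_univ = negAut from rfl, ← mul_assoc, Subgroup.mem_center_iff.1 negAut_mem_center,
          mul_assoc, ← permAut_mul, inv_mul_cancel_right]
      rw [dec c' hc' ρ r3 r4, r7, h.app (eps_mem _) (mul_mem (perm_mem r5 r6) hg0), h.app (perm_mem r5 r6) hg0, k5,
        map_neg, k4 _ r5 r6, map_neg, mem_wx.1 (k0 _), chi, coc_compl, sF_add, mul_smul, smul_smul (ρ * σ⁻¹),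
        inv_mul_cancel_right, sF_one, neg_one_smul, smul_neg, neg_neg]

end WH

theorem gT_notMem : gT ∉ monoGrp := fun h => by
  have := (act_w0_iff (κ := k0)).2 h
  rw [gT_w0, aT_eq, w0_k0] at this
  revert this; decide

theorem gT_aT' : k0.act gT (aT + w0 k0) = w0 k0 := by
  rw [map_add, gT_w0, gT_aT, add_right_comm, ww_add_self, zero_add]

theorem eps_aT (d : CW0) : k0.act (eps d) aT =
    aT + ((if p₁ ∈ d.1 then w0 k0 else 0) + if p₂ ∈ d.1 then w0 k0 else 0) := by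
  rw [aT, map_add, eps, act_sgn_pair, act_sgn_pair, if_neg d.2.2.1, if_neg d.2.2.2]; abel

theorem conj_mono {g : Co0} (h1 : g ∈ monoGrp) (h2 : k0.act g aT = aT) : gT * g * gT⁻¹ ∈ monoGrp :=
  (act_w0_iff (κ := k0)).1 (by
    rw [k0.act_mul, k0.act_mul, ← gT_aT', k0.act_inv_act, map_add, h2, act_w0_iff.2 h1])

namespace WS

variable {e : GolayPt → W} {e' : GolayPt → W'} (h : WS b e)
include h

theorem line' {j : GolayPt} {x : W} (hx : x ∈ wx b (chi j)) : ∃ μ : F, x = μ • e j := h.line (h.mem j) (h.ne j) hx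

theorem top_le {P : Submodule F W} (hP : ∀ j, e j ∈ P) : ⊤ ≤ P :=
  h.le (fun _ _ _ => trivial) fun j _ _ hx _ => let ⟨μ, e⟩ := h.line' hx; e ▸ P.smul_mem μ (hP j)

/-- the basis -/
noncomputable def basis : Basis {j : GolayPt // j ≠ p₀} F W :=
  Basis.mk (((indep_ex _).comp chi_inj').linearIndependent _ (fun j => h.mem j) fun j => h.ne j)
    (h.top_le fun j => Submodule.subset_span (by
      by_cases a : j = p₀
      exacts [⟨⟨_, pr0⟩, a ▸ h.pr⟩, ⟨⟨j, a⟩, rfl⟩]))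

theorem finrank_eq : finrank F W = 23 := by rw [finrank_eq_card_basis h.basis, card_ne_zero']

omit [NeZero (2 : F)] [FiniteDimensional F W] in
theorem perm {σ : M24} (hσ : permAut σ ∈ LL) (j : GolayPt) : b (permAut σ) (e j) = e (σ • j) := by
  rw [perm_eq] at hσ ⊢
  rw [h.mon _ _ _ hσ, coc_comm, coc_zero_left, sF_zero, one_smul]

theorem exists_hom (h' : WS b' e') : ∃ θ : W →ₗ[F] W', (∀ j, θ (e j) = e' j) ∧ ∀ g ∈ LL, Eqv θ (b g) (b' g) := by
  obtain ⟨θ, hθ⟩ : ∃ θ : W →ₗ[F] W', ∀ j, θ (e j) = e' j := ⟨h.basis.constr F fun j => e' j, fun j => by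
    have := fun j => h.basis.constr_basis F (fun j => e' j) j
    simp only [basis, Basis.mk_apply] at this
    by_cases a : j = p₀
    exacts [by rw [a, ← h.pr, ← h'.pr]; exact this ⟨_, pr0⟩, this ⟨j, a⟩]⟩
  have hN : ∀ g ∈ LL, g ∈ monoGrp → Eqv θ (b g) (b' g) := by
    rintro _ hg ⟨c, hc, σ, rfl⟩ x
    exact h.top_le (P := LinearMap.eqLocus (θ ∘ₗ b _) (b' _ ∘ₗ θ)) (fun j => show θ (b _ (e j)) = b' _ (θ (e j)) by
      rw [h.mon _ _ _ hg, map_smul, hθ, hθ, h'.mon _ _ _ hg]) trivial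
  refine ⟨θ, hθ, fun g hg => (stab_le pr0 (H := h.eqv h'.toRp θ) (fun _ a => a.1) (fun g a => ⟨a.1, hN g a.1 a.2⟩)
    ⟨gT_mem, fun x => ?_⟩ gT_notMem hg).2⟩
  obtain ⟨⟨d, d1, d2⟩, -⟩ := exists_sep12
  have m1 := mul_mem (mul_mem gT_mem (eps_mem d)) gT_mem
  have m2 : gT * eps d * gT ∈ monoGrp := (act_w0_iff (κ := k0)).1 (by
    rw [k0.act_mul, k0.act_mul, gT_w0, eps_aT, if_pos d1, if_neg d2, add_zero, gT_aT'])
  have q1 := hN _ (eps_mem d) (sgnAut_mem_monoGrp _ _)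
  have q2 := hN _ m1 m2
  have q3 := hN _ (mul_mem (mul_mem gT_mem gT_mem) gT_mem) ((act_w0_iff (κ := k0)).1 (by
    rw [k0.act_mul, k0.act_mul, gT_w0, gT_aT, gT_aT']))
  rw [h.mul _ (mul_mem gT_mem (eps_mem d)) _ gT_mem, h.mul _ gT_mem _ (eps_mem d),
    h'.mul _ (mul_mem gT_mem (eps_mem d)) _ gT_mem, h'.mul _ gT_mem _ (eps_mem d)] at q2
  rw [h.mul _ (mul_mem gT_mem gT_mem) _ gT_mem, h.mul _ gT_mem _ gT_mem,
    h'.mul _ (mul_mem gT_mem gT_mem) _ gT_mem, h'.mul _ gT_mem _ gT_mem] at q3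
  let S := LinearMap.eqLocus (θ ∘ₗ b gT) (b' gT ∘ₗ θ)
  have s0 : e p∞ ∈ S := show θ (b gT _) = b' gT (θ _) by rw [h.gt, map_sub, hθ, hθ, hθ, h'.gt]
  have a1 : b (eps d) (b gT (e p∞)) = e p₂ + e p₁ := by
    simp [h.gt, mem_wx.1 (h.mem _), chi, coc_singleton, d1, d2]
  have s1 : e p₂ + e p₁ ∈ S := a1 ▸ braid_one q1 q2 s0
  obtain ⟨a, a2⟩ : ∃ a, b gT (e p₂ + e p₁) = sF F a • e p∞ := by
    obtain ⟨c, hc, σ, k⟩ := m2
    rw [← a1, ← h.app (eps_mem d) gT_mem, ← h.app gT_mem (mul_mem (eps_mem d) gT_mem), ← mul_assoc, k,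
      h.mon _ _ _ (k ▸ m1)]
    rcases mono_cases pr0 (k ▸ m1) with l | l
    exacts [⟨_, by rw [l.1]⟩, ⟨_, by rw [l.1, h.pr]⟩]
  have s2 : e p₂ - e p₁ ∈ S := by
    have : b gT (b gT (e p₂ + e p₁)) ∈ S := braid_two q3 s1 (a2 ▸ S.smul_mem _ s0 : b gT _ ∈ S)
    rwa [a2, map_smul, h.gt, S.smul_mem_iff (sF_ne_zero a)] at this
  have s3 : e p₂ ∈ S := half_add (F := F) (e p₂) (e p₁) ▸ add_mem (S.smul_mem _ s1) (S.smul_mem _ s2)
  let U := Submodule.span F (e '' {j | ¬(j = p∞ ∨ j = p₀ ∨ j = p₁ ∨ j = p₂)})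
  have hJ : ∀ g ∈ LL, g ∈ monoGrp → k0.act g aT = aT → ∀ x,
      b' gT⁻¹ (θ (b gT (b g x))) = b' g (b' gT⁻¹ (θ (b gT x))) := fun g g1 g2 g3 x => by
    rw [h.conj gT_mem g1, hN _ (mul_mem (mul_mem gT_mem g1) (inv_mem gT_mem)) (conj_mono g2 g3),
      h'.conj' (inv_mem gT_mem) g1, inv_inv]
  obtain ⟨μ, hμ⟩ : ∃ μ : F, b' gT⁻¹ (θ (b gT (e (some 3)))) = μ • e' (some 3) := by
    have := h'.le (P := ex (fun i => b' (eps (sC i))) fun i => chi (some 3) (sC i)) (Q := F ∙ e' (some 3))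
      (fun d _ => h'.eps_mem_ex d) (fun j x x1 x2 x3 => by
        obtain ⟨μ, k⟩ := h'.line' x2
        obtain rfl := sC_sep (some 3) j (by decide) fun i => by
          have := eq_of_sF_smul x3 ((x1 i).symm.trans (x2 (sC i)))
          simp only [chi, coc_singleton] at this
          split_ifs at this <;> simp_all
        exact Submodule.mem_span_singleton.2 ⟨μ, k.symm⟩) (x := b' gT⁻¹ (θ (b gT (e (some 3))))) fun i => by
      rw [← hJ _ (eps_mem _) (sgnAut_mem_monoGrp _ _) (by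
        rw [eps_aT]; simp only [sC_even i, ww_add_self, add_zero]), mem_wx.1 (h.mem _), map_smul, map_smul, map_smul]
    exact (Submodule.mem_span_singleton.1 this).imp fun _ => Eq.symm
  have s4 : ∀ x ∈ U, x ∈ S := fun x => braid_smul q1 q2 q3 (h'.inj gT_mem) (h'.inj (eps_mem d)) (μ := μ) (U := U)
    (fun x hx => Submodule.span_le (p := U.comap (b gT)).2 (by
      rintro _ ⟨j, hj, rfl⟩
      obtain ⟨i, hi⟩ := not_forall.1 (mt (oC_cover j).1 hj)
      refine h.le (P := ex (fun _ : Unit => b (eps (oC i))) fun _ => 1) (Q := U) (fun d _ => h.eps_mem_ex d)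
        (fun k x x1 x2 x3 => ?_) (h.gT_mem_ex.2 fun _ => (mem_wx.1 (h.mem j) _).trans (by
          rw [chi, coc_singleton, if_pos (not_not.1 hi)]))
      obtain ⟨μ, rfl⟩ := h.line' x2
      refine U.smul_mem _ (Submodule.subset_span ⟨k, fun a => ?_, rfl⟩)
      simpa [chi, coc_singleton, (oC_cover k).2 a i] using eq_of_sF_smul x3 ((x1 ()).symm.trans (x2 (oC i)))) hx)
    (fun x hx => Submodule.span_le (p := U.comap (b (eps d))).2 (by
      rintro _ ⟨j, hj, rfl⟩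
      exact (mem_wx.1 (h.mem j) d ▸ U.smul_mem _ (Submodule.subset_span ⟨j, hj, rfl⟩) : b _ _ ∈ U)) hx)
    fun x hx => Submodule.span_le (p := LinearMap.eqLocus (θ ∘ₗ b gT) (μ • b' gT ∘ₗ θ)).2 (by
      rintro _ ⟨j, hj, rfl⟩
      simp only [Set.mem_ofPred_eq, not_or] at hj
      obtain ⟨σ, t1, t2, t3, t4, rfl⟩ := exists_M24_five (a := p∞) (b := p₀) (c := p₁) (d := p₂) (e := some 3)
        (a' := p∞) (b' := p₀) (c' := p₁) (d' := p₂) (e' := j) (by decide) (by simp [hj, eq_comm]; decide)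
      have := hJ _ (perm_mem t1 t2) (permAut_mem_monoGrp _) (by
        simp only [aT, map_add, act_perm_lam, t1, t2, t3, t4]) (e (some 3))
      rw [h.perm (perm_mem t1 t2), hμ, map_smul, h'.perm (perm_mem t1 t2)] at this
      show θ (b gT _) = μ • b' gT (θ _)
      rw [hθ, ← map_smul, ← this, h'.app_inv gT_mem]) hx
  refine h.top_le (P := S) (fun j => ?_) trivial
  by_cases a : j = p∞ ∨ j = p₀ ∨ j = p₁ ∨ j = p₂
  · rcases a with rfl | rfl | rfl | rfl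
    exacts [s0, h.pr ▸ s0, by simpa using sub_mem s3 s2, s3]
  · exact s4 _ (Submodule.subset_span ⟨j, a, rfl⟩)

end WS

end CfsgLib.MonRep
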