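import Mathlib
import Cfsg.Agent.Lib.MonRep.W23b
import Cfsg.Agent.Lib.MonRep.MinM

/-!
Modules of dimension at most 4371 for the amalgam of the Baby Monster: weights of the `Z`-part.
-/

set_option autoImplicit false

namespace CfsgLib.MonRep

open Module Cfsg CfsgLib.Mon CfsgLib.Mon.Mult CfsgLib.Leech CfsgLib.MType Finset MulAction Matrix
open scoped Pointwise

/-- the class under `t` -/
scoped notation "uK" => ub k0 p∞ p₀

theorem CK_eq : CK = Cq k0 uK := by rw [← φ_ub]; exact C1_eq _ _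

theorem memK {c : C k0} : c ∈ CK ↔ cε c uK = 0 ∧ cact c uK = uK := by rw [CK_eq, mem_Cq]

theorem q_memK {e : ZMod 2} {v : V24} : q k0 e v ∈ CK ↔ om v uK = 0 := by rw [CK_eq, q_mem_Cq]

theorem om_fst {n : V24} (h : n.1 = 0) (v : V24) : om v n = n.2 ⬝ᵥ v.1 := by simp [om, bet, h]

theorem uK_fst : (uK).1 = 0 := ub_fst std_k0

theorem om_uK_zero {n : V24} (h : n.1 = 0) : om n uK = 0 := by rw [om_fst uK_fst, h, dotProduct_zero]

theorem qz_memK (e : ZMod 2) {n : V24} (h : n.1 = 0) : q k0 e n ∈ CK := q_memK.2 (om_uK_zero h)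

theorem z_memK : z k0 ∈ CK := qz_memK 1 rfl

theorem w0_memK (e : ZMod 2) : q k0 e (w0 k0) ∈ CK := qz_memK e std_k0.w0_fst

theorem om_memK {c : C k0} (h : c ∈ CK) (v : V24) : om (cact c v) uK = om v uK := by
  conv_lhs => rw [← (memK.1 h).2, om_cact]

theorem E_memK {x : Chat k0} (h : IsE x) {σ : M24} (e : x.g = permAut σ)
    (k : σ • p∞ = p∞ ∧ σ • p₀ = p₀ ∨ σ • p∞ = p₀ ∧ σ • p₀ = p∞) : mk k0 x ∈ CK := by
  obtain ⟨_, -, h1, -⟩ := h
  refine memK.2 ⟨by rw [cε_mk, Cov.ε_of_eb_zero h1 uK_fst], ?_⟩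
  rw [cact_mk, e, ub, map_add, act_perm_lam, act_perm_lam]
  rcases k with k | k <;> rw [k.1, k.2]
  exact add_comm _ _

theorem conj_qq (e e' : ZMod 2) (v n : V24) : (q k0 e v)⁻¹ * q k0 e' n * q k0 e v = q k0 (e' + om v n) n := by
  have := conj_q (q k0 e v)⁻¹ e' n
  rwa [inv_inv, q_inv, cε_q, cact_q, ← q_inv] at this

/-- the even indices -/
abbrev EK : Type := {k : W12 // (uK).2 ⬝ᵥ k = 0 ∧ (w0 k0).2 ⬝ᵥ k = 0}

theorem uK_add_w0 : uK + w0 k0 = k0.φ (dpL p∞ p₀) := (φ_dpL _ _).symm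

theorem card_EK : Nat.card EK = 1024 := by
  have h := card_ker_omL_two (ub_ne_zero (κ := k0) pr0) (w0_ne_zero (κ := k0))
    (uK_add_w0 ▸ φ_ne_zero (by rw [sqNorm_dpL pr0]; norm_num) (by rw [sqNorm_dpL pr0]; norm_num))
  have e : ((omL uK).prod (omL (w0 k0))).ker ≃ EK × W12 :=
    ((Equiv.refl V24).subtypeEquiv fun v => by
      simp [AddMonoidHom.mem_ker, omL_apply, om_fst uK_fst, om_fst std_k0.w0_fst]).trans
      (Equiv.prodSubtypeFstEquivSubtypeProd (p := fun k : W12 => (uK).2 ⬝ᵥ k = 0 ∧ (w0 k0).2 ⬝ᵥ k = 0))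
  rw [Nat.card_congr e, Nat.card_prod, Nat.card_eq_fintype_card (α := W12), card_W12] at h
  exact Nat.eq_of_mul_eq_mul_right (by norm_num : 0 < 4096) (h.trans (by norm_num))

theorem uK_kk {d : Finset GolayPt} (hd : IsCW d) :
    (uK).2 ⬝ᵥ kk k0 d = (if p∞ ∈ d then 1 else 0) + if p₀ ∈ d then 1 else 0 := by
  rw [← std_k0.xv_fst, ← om_fst uK_fst, ub, om_add_right, om_xv_lam hd, om_xv_lam hd]

theorem uK_kk0 (d : CW0) : (uK).2 ⬝ᵥ kk k0 d.1 = 0 := by rw [uK_kk d.2.1, if_neg d.2.2.1, if_neg d.2.2.2, add_zero]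

theorem exists_CW0 {k : W12} (h1 : (uK).2 ⬝ᵥ k = 0) (h2 : (w0 k0).2 ⬝ᵥ k = 0) : ∃ d : CW0, kk k0 d.1 = k := by
  obtain ⟨d, hd, rfl⟩ := std_k0.exists_kk h2
  rw [uK_kk hd] at h1
  by_cases a : p∞ ∈ d <;> by_cases b : p₀ ∈ d <;> simp only [a, b, if_true, if_false] at h1
  · exact ⟨⟨_, hd.symmDiff isCW_univ, by simp [mem_symmDiff, a], by simp [mem_symmDiff, b]⟩, by
      rw [std_k0.kk_symmDiff hd isCW_univ, std_k0.kk_univ, add_zero]⟩
  · exact absurd h1 (by decide)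
  · exact absurd h1 (by decide)
  · exact ⟨⟨d, hd, a, b⟩, rfl⟩

theorem perpZ {n : V24} (h : n.1 = 0) (k : ∀ d : CW0, n.2 ⬝ᵥ kk k0 d.1 = 0) :
    n = 0 ∨ n = uK ∨ n = w0 k0 ∨ n = w0 k0 + uK :=
  perp2 (l := lam k0 p∞) (by rw [ub, om_add_right, om_lam_lam, om_lam_lam, add_zero]) (om_lam_w0 _) fun v a b => by
    obtain ⟨d, e⟩ := exists_CW0 (om_fst uK_fst v ▸ a) (om_fst std_k0.w0_fst v ▸ b)
    rw [om_comm, om_fst h, ← e, k]

variable {F V : Type*} [Field F] [AddCommGroup V] [Module F V] {A : C k0 → End F V} {T : End F V}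

/-- the relations of the amalgam of the Baby Monster, without the triangle relation -/
structure BR (A : C k0 → End F V) (T : End F V) : Prop extends Rp CK A where
  gam : ∀ a b, a ∈ CK → (a, b) ∈ Gam k0 → ∀ x, A a (T x) = T (A b x)
  cube : ∀ x, T (T (T x)) = x
  inv : ∀ x, T (A sT (T x)) = A sT x
  tk : ∀ x, A (q k0 0 uK) x = x

/-- the weight spaces of the `Z`-part -/
noncomputable def zw (A : C k0 → End F V) (a : ZMod 2) (k : W12) : Submodule F V :=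
  ex (fun p : ZMod 2 × W12 => A (q k0 p.1 (0, p.2))) fun p => a * p.1 + p.2 ⬝ᵥ k

theorem mem_zw {a : ZMod 2} {k : W12} {x : V} :
    x ∈ zw A a k ↔ ∀ e n, n.1 = 0 → A (q k0 e n) x = sF F (a * e + n.2 ⬝ᵥ k) • x :=
  ⟨fun h e n hn => by rw [show n = (0, n.2) from Prod.ext hn rfl]; exact h (e, n.2), fun h p => h _ _ rfl⟩

theorem zw_z {a : ZMod 2} {k : W12} {x : V} (h : x ∈ zw A a k) : A (z k0) x = sF F a • x := by
  simpa [z] using mem_zw.1 h 1 0 rfl

theorem zw_inj : Function.Injective fun (t : ZMod 2 × W12) (p : ZMod 2 × W12) => t.1 * p.1 + p.2 ⬝ᵥ t.2 :=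
  fun s t e => Prod.ext (by simpa using congrFun e (1, 0)) (funext fun i => by simpa using congrFun e (0, Pi.single i 1))

namespace BR

variable (h : BR A T)
include h

theorem T_inj : Function.Injective T := Function.LeftInverse.injective (g := fun x => T (T x)) h.cube

theorem T_ne {x : V} (hx : x ≠ 0) : T x ≠ 0 := fun e => hx (h.T_inj (e.trans (map_zero _).symm))

theorem app_eg {c : C k0} (hc : c ∈ CK) {a : ZMod 2} {x : V} (hx : x ∈ eg (A (z k0)) a) : A c x ∈ eg (A (z k0)) a :=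
  mem_eg.2 (by rw [← h.app z_memK hc, ← z_comm, h.app hc z_memK, mem_eg.1 hx, map_smul])

theorem qq {e e' : ZMod 2} {v w : V24} (hv : om v uK = 0) (hw : om w uK = 0) (x : V) :
    A (q k0 e v) (A (q k0 e' w) x) = A (q k0 (e + e' + bet v w) (v + w)) x := by
  rw [← h.app (q_memK.2 hv) (q_memK.2 hw), q_mul]

theorem qz {e e' : ZMod 2} {v w : V24} (hv : v.1 = 0) (hw : w.1 = 0) (x : V) :
    A (q k0 e v) (A (q k0 e' w) x) = A (q k0 (e + e') (v + w)) x := by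
  rw [h.qq (om_uK_zero hv) (om_uK_zero hw), bet, hw, dotProduct_zero, add_zero]

theorem ci_z : CI (fun p : ZMod 2 × W12 => A (q k0 p.1 (0, p.2))) ⊤ :=
  ⟨fun _ _ _ => trivial, fun p x _ => by rw [h.qz rfl rfl, z2_add_self, ww_add_self, q_zero, h.one_app],
    fun p p' x _ => by rw [h.qz rfl rfl, h.qz rfl rfl, add_comm, add_comm (0, p.2)]⟩

theorem q_zw {a : ZMod 2} {k : W12} {x : V} (hx : x ∈ zw A a k) (e : ZMod 2) {v : V24} (hv : om v uK = 0) :
    A (q k0 e v) x ∈ zw A a (k + a • v.1) := mem_zw.2 fun e' n hn => by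
  rw [h.conj' (q_memK.2 hv) (qz_memK e' hn), conj_qq, mem_zw.1 hx _ _ hn, map_smul, om_fst hn, dotProduct_add,
    dotProduct_smul, smul_eq_mul]
  congr 2; ring

theorem T_zw {a : ZMod 2} {k : W12} {x : V} (hx : x ∈ zw A a k) :
    T x ∈ zw A (a + (w0 k0).2 ⬝ᵥ k) (k + (a + (w0 k0).2 ⬝ᵥ k) • a0 k0) := mem_zw.2 fun e n hn => by
  have s := std_k0
  have h1 : ∀ n : V24, n.1 = 0 → n.2 ⬝ᵥ a0 k0 = 0 → A (q k0 0 n) (T x) = sF F (n.2 ⬝ᵥ k) • T x := fun n h1 h2 => by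
    rw [h.gam _ _ (qz_memK 0 h1) (gam_E (isE_qh.2 ⟨rfl, h1, h2⟩)), mk_qh, mem_zw.1 hx _ _ h1, map_smul, mul_zero, zero_add]
  have h2 : A (q k0 0 n) (T x) = sF F (n.2 ⬝ᵥ (k + (a + (w0 k0).2 ⬝ᵥ k) • a0 k0)) • T x := by
    rw [dotProduct_add, dotProduct_smul]
    rcases z2_cases (n.2 ⬝ᵥ a0 k0) with c | c
    · rw [h1 n hn c, c, smul_zero, add_zero]
    · have := h.qz (e := 0) (e' := 0) s.w0_fst (w := w0 k0 + n) (by simp [hn, s.w0_fst]) (T x)
      rw [h1 _ (by simp [hn, s.w0_fst]) (by rw [Prod.snd_add, add_dotProduct, c, s.w0_dot_a0, z2_add_self]), map_smul,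
        h.gam _ _ (w0_memK 0) s.gam_z'', zw_z hx, map_smul, ← add_assoc, ww_add_self, zero_add, zero_add, smul_smul,
        ← sF_add] at this
      rw [← this, c, Prod.snd_add, add_dotProduct, smul_eq_mul]
      congr 2; ring
  rcases z2_cases e with rfl | rfl
  · rw [h2, mul_zero, zero_add]
  · rw [← zero_add n, ← add_zero 1, ← h.qz rfl hn, h2, map_smul, q_one_zero, h.gam _ _ z_memK s.gam_z,
      mem_zw.1 hx _ _ s.w0_fst, map_smul, smul_smul, ← sF_add, zero_add, add_zero, mul_one, mul_one, add_comm]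

variable [NeZero (2 : F)]

theorem exists_zw {ψ : ZMod 2 × W12 → ZMod 2} {x : V} (hx : x ∈ ex (fun p : ZMod 2 × W12 => A (q k0 p.1 (0, p.2))) ψ)
    (h0 : x ≠ 0) : ∃ a k, ψ = fun p => a * p.1 + p.2 ⬝ᵥ k := by
  have h1 : ∀ p p', ψ (p + p') = ψ p + ψ p' := fun p p' => eq_of_sF_smul (F := F) h0 (by
    rw [← hx, sF_add, mul_comm, mul_smul, ← hx p, ← map_smul, ← hx p', h.qz rfl rfl]; simp)
  obtain ⟨u, hu⟩ := exists_om_eq (AddMonoidHom.mk' (fun v : V24 => ψ (0, v.2)) fun a b => by rw [← h1]; simp)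
  refine ⟨ψ (1, 0), u.1, funext fun p => ?_⟩
  have h2 : ψ (0, p.2) = p.2 ⬝ᵥ u.1 := (hu (0, p.2)).trans (by rw [om_comm, om_fst rfl])
  rw [← h2]
  rcases p with ⟨e, b⟩
  rcases z2_cases e with rfl | rfl
  · simp
  · simp [← h1]

theorem zw_dot {a : ZMod 2} {k : W12} {x : V} (hx : x ∈ zw A a k) (h0 : x ≠ 0) : (uK).2 ⬝ᵥ k = 0 :=
  eq_of_sF_smul (F := F) h0 (by simpa [h.tk] using (mem_zw.1 hx 0 _ uK_fst).symm)

theorem le_zw {P Q : Submodule F V} (h1 : ∀ e n, n.1 = 0 → ∀ x ∈ P, A (q k0 e n) x ∈ P)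
    (h2 : ∀ a k, ∀ x ∈ P, x ∈ zw A a k → x ≠ 0 → x ∈ Q) : P ≤ Q :=
  (h.ci_z.mono le_top fun _ => h1 _ _ rfl).le fun _ x k1 k2 => by
    by_cases h0 : x = 0
    · exact h0 ▸ zero_mem _
    · obtain ⟨a, k, rfl⟩ := h.exists_zw k2 h0
      exact h2 a k x k1 k2 h0

variable [FiniteDimensional F V]

omit [NeZero (2 : F)] in
theorem finrank_one {k : W12} (hk : (uK).2 ⬝ᵥ k = 0) : finrank F (zw A 1 k) = finrank F (zw A 1 0) := by
  have hv : om ((k, 0) : V24) uK = 0 := by rw [om_fst uK_fst, hk]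
  exact le_antisymm (finrank_le_of_map (h.inj (q_memK (e := 0).2 hv)) fun x hx => by
    simpa [w_add_self] using h.q_zw hx 0 hv) (finrank_le_of_map (h.inj (q_memK (e := 0).2 hv)) fun x hx => by
    simpa using h.q_zw hx 0 hv)

omit [NeZero (2 : F)] in
theorem finrank_odd' {k : W12} (hk : (uK).2 ⬝ᵥ k = 0) (h1 : (w0 k0).2 ⬝ᵥ k = 1) :
    finrank F (zw A 0 k) = finrank F (zw A 1 0) :=
  le_antisymm ((finrank_le_of_map h.T_inj fun x hx => by simpa [h1] using h.T_zw hx).trans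
    (h.finrank_one (k := k + a0 k0) (by rw [dotProduct_add, hk, ub_dot_a0 std_k0, add_zero])).le)
    ((h.finrank_one hk).ge.trans (finrank_le_of_map h.T_inj fun x hx => by simpa [h1, z2_add_self] using h.T_zw hx))

end BR

/-- a small faithful module -/
structure BS (A : C k0 → End F V) (T : End F V) : Prop extends BR A T where
  ne : A (z k0) ≠ 1
  dim : finrank F V ≤ 4371

namespace BS

variable [NeZero (2 : F)] [FiniteDimensional F V] (h : BS A T)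
include h

theorem finrank_zero : finrank F (zw A 1 0) = 1 := by
  have s := std_k0
  have h1 := sum_finrank_le (fun p : ZMod 2 × W12 => A (q k0 p.1 (0, p.2))) ⊤ (κ := EK × Fin 3) (zw_inj.comp
    (f := fun t : EK × Fin 3 => ![(1, t.1.1), (1, t.1.1 + a0 k0), (0, t.1.1 + a0 k0)] t.2) (by
      rintro ⟨⟨k, k1, k2⟩, i⟩ ⟨⟨l, l1, l2⟩, j⟩ e
      have a := congrArg (fun t => (t.1, (w0 k0).2 ⬝ᵥ t.2)) e
      fin_cases i <;> fin_cases j <;> simp [k2, l2, s.w0_dot_a0] at a e ⊢ <;> exact e))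
  rw [sum_congr rfl (g := fun _ => finrank F (zw A 1 0)) (by
    rintro ⟨⟨k, k1, k2⟩, i⟩ -
    have k3 : (uK).2 ⬝ᵥ (k + a0 k0) = 0 := by rw [dotProduct_add, k1, ub_dot_a0 s, add_zero]
    rw [top_inf_eq]
    fin_cases i
    exacts [h.finrank_one k1, h.finrank_one k3, h.finrank_odd' (k := k + a0 k0) k3 (by rw [dotProduct_add, k2, s.w0_dot_a0, zero_add])]),
    sum_const, card_univ, Fintype.card_prod, ← Nat.card_eq_fintype_card, card_EK, finrank_top, Fintype.card_fin, smul_eq_mul] at h1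
  have h2 := h.dim
  have h3 : finrank F (zw A 1 0) ≠ 0 := fun e => h.ne (LinearMap.ext fun x => (h.le_zw (P := ⊤)
    (Q := eg (A (z k0)) 0) (fun _ _ _ _ _ => trivial) (fun a k x _ hx h0 => by
      rcases z2_cases a with rfl | rfl
      · exact mem_eg.2 (zw_z hx)
      · rw [← h.finrank_one (h.zw_dot hx h0), Submodule.finrank_eq_zero] at e
        exact absurd (e.le hx) h0) trivial ()).trans (by simp))
  omega

theorem finrank_m {k : W12} (hk : (uK).2 ⬝ᵥ k = 0) : finrank F (zw A 1 k) = 1 :=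
  (h.finrank_one hk).trans h.finrank_zero

theorem finrank_p {k : W12} (hk : (uK).2 ⬝ᵥ k = 0) (h1 : (w0 k0).2 ⬝ᵥ k = 1) : finrank F (zw A 0 k) = 1 :=
  (h.finrank_odd' hk h1).trans h.finrank_zero

theorem finrank_Vm : finrank F (eg (A (z k0)) 1) = 2048 := by
  have h1 := card_dot (a := (uK).2) (fun e => ub_ne_zero pr0 (Prod.ext uK_fst e)) 0
  rw [(h.ci_z.mono le_top fun p x => h.app_eg (qz_memK _ rfl)).finrank_eq_sum
    (κ := {k : W12 // (uK).2 ⬝ᵥ k = 0}) (zw_inj.comp (f := fun k => (1, k.1)) fun a b e => Subtype.ext (Prod.ext_iff.1 e).2)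
    fun ψ x k1 k2 k3 => by
      obtain ⟨a, k, rfl⟩ := h.exists_zw k2 k3
      obtain rfl : a = 1 := eq_of_sF_smul k3 ((zw_z k2).symm.trans (mem_eg.1 k1))
      exact ⟨⟨k, h.zw_dot k2 k3⟩, rfl⟩, sum_congr rfl (g := fun _ => 1) fun k _ => by
      rw [← h.finrank_m k.2]
      exact congrArg (fun P : Submodule F V => finrank F P) (inf_eq_right.2 fun x hx => mem_eg.2 (zw_z hx)),
    sum_const, card_univ, ← Nat.card_eq_fintype_card, smul_eq_mul, mul_one]
  exact Nat.eq_of_mul_eq_mul_left two_pos (h1.trans (by norm_num))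

end BS

end CfsgLib.MonRep
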