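import Mathlib
import Cfsg.Agent.Lib.MonRep.BA

/-!
Modules of dimension at most 4371 for the amalgam of the Baby Monster: weights of `2^(2+22)`.
-/

set_option autoImplicit false

namespace CfsgLib.MonRep

open Module Cfsg CfsgLib.Mon CfsgLib.Mon.Mult CfsgLib.Leech CfsgLib.MType Finset MulAction Matrix
open scoped Pointwise

theorem exists_liftK {g : Co0} (hg : g ∈ LL) : ∃ x : Chat k0, mk k0 x ∈ CK ∧ x.g = g :=
  mem_img.1 (CK_eq ▸ (mem_img_Cq (ub_ne_zero pr0)).2 (act_ub hg))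

theorem Y_memK {f : ZMod 2} {d : Finset GolayPt} {y : Chat k0} (h : IsY f d y) (e : p∞ ∈ d ↔ p₀ ∈ d) :
    mk k0 (xq k0 f d) ∈ CK ∧ mk k0 y ∈ CK := by
  have : mk k0 (xq k0 f d) ∈ CK := q_memK.2 (by
    rw [om_fst uK_fst, std_k0.xv_fst, uK_kk h.isCW]; simp only [e, z2_add_self])
  exact ⟨this, (gam_CK (gam_Y h)).2 this⟩

theorem CW0.iff (d : CW0) : p∞ ∈ d.1 ↔ p₀ ∈ d.1 := iff_of_false d.2.2.1 d.2.2.2

theorem om_lam_uK (i : GolayPt) : om (lam k0 i) uK = 0 := by rw [ub, om_add_right, om_lam_lam, om_lam_lam, add_zero]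

theorem su_lam0 : SU k0 p∞ p₀ (lam k0 p∞) :=
  ⟨⟨_, sqNorm_lamL _, rfl⟩, by rw [ub, ← add_assoc, ww_add_self, zero_add]; exact ⟨_, sqNorm_lamL _, rfl⟩⟩

theorem SU.exists_LL {w w' : V24} (h : SU k0 p∞ p₀ w) (h' : SU k0 p∞ p₀ w') : ∃ g ∈ LL, k0.act g w = w' := by
  obtain ⟨v, v1, rfl, v2⟩ := h.exists_rep pr0
  obtain ⟨v', k1, rfl, k2⟩ := h'.exists_rep pr0
  obtain ⟨g, g1, g2⟩ := exists_pair_min (sqNorm_dlL pr0) v1 (sqNorm_dlL pr0) k1 (by rw [dot_dl, dot_dl, v2, k2])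
  exact ⟨g, g1, by rw [k0.act_φ, g2]⟩

theorem SU.exists_CK {w w' : V24} (h : SU k0 p∞ p₀ w) (h' : SU k0 p∞ p₀ w') : ∃ c ∈ CK, cact c w = w' := by
  obtain ⟨g, h1, h2⟩ := h.exists_LL h'
  obtain ⟨x, h3, rfl⟩ := exists_liftK h1
  exact ⟨_, h3, (cact_mk x w).trans h2⟩

theorem SU.cact {w : V24} (h : SU k0 p∞ p₀ w) {c : C k0} (hc : c ∈ CK) : SU k0 p∞ p₀ (cact c w) := by
  obtain ⟨x, rfl, h1, -⟩ := exists_fix pr0 hc
  exact cact_mk x w ▸ h.act h1

theorem SU.ne {w : V24} (h : SU k0 p∞ p₀ w) : w ≠ 0 ∧ w ≠ uK ∧ w ≠ w0 k0 ∧ w ≠ w0 k0 + uK := by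
  have h0 : ¬ IsShort k0 0 := fun ⟨v, h1, h2⟩ => φ_ne_zero (by omega) (by omega) h2
  refine ⟨?_, ?_, ?_, ?_⟩ <;> rintro rfl
  exacts [h0 h.1, h0 (ww_add_self uK ▸ h.2), not_short_w0 h.1, not_short_w0 (by simpa only [add_ub_ub] using h.2)]

theorem exists_odd_conj {w : V24} (h : om w uK = 0) (h0 : w ≠ 0) (h1 : w ≠ uK) :
    ∃ g ∈ LL, om (k0.act g w) (w0 k0) = 1 := by
  by_contra! k
  have s := std_k0
  have k1 : ∀ x : leechLattice, sqNorm x.1 = 32 → x.1 p∞ = x.1 p₀ → om (k0.φ x) w = 0 := fun x a b => by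
    obtain ⟨g, g1, g2⟩ := exists_pair_min (sqNorm_dlL pr0) a (sqNorm_dlL pr0) (sqNorm_dpL pr0) (by
      rw [dot_dl, dot_dl, b]; simp [dpL_apply])
    have := (z2_cases _).resolve_right (k g g1)
    rw [← k0.om_act g, k0.act_φ, g2, ← uK_add_w0, om_add_left, om_comm (w0 k0), this, ← act_ub g1, k0.om_act, om_comm, h,
      add_zero]
  have k2 : (w0 k0).2 ⬝ᵥ w.1 = 0 := by simpa [s.om_w0_eq] using (z2_cases _).resolve_right (k 1 (one_mem _))
  obtain ⟨e, he⟩ := exists_CW0 (om_fst uK_fst w ▸ h) k2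
  have k3 : ∀ i j, i ≠ p∞ → i ≠ p₀ → j ≠ p∞ → j ≠ p₀ → i ∈ e.1 → j ∈ e.1 := fun i j a b c d f => by
    by_contra g
    have := k1 (dlL i j) (sqNorm_dlL (by rintro rfl; exact g f)) (by simp [dlL_apply, a.symm, b.symm, c.symm, d.symm])
    rw [om_comm, om_fst (Cov.φ_dlL_fst s i j), ← he, ← s.xv_fst, ← om_fst (Cov.φ_dlL_fst s i j), φ_dlL, om_add_right,
      om_xv_lam e.2.1, om_xv_lam e.2.1, if_pos f, if_neg g] at this
    exact absurd this (by decide)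
  have k4 : e.1 = ∅ := by
    by_contra a
    obtain ⟨i, hi⟩ := nonempty_iff_ne_empty.2 a
    have : e.1 = univ \ {p∞, p₀} := Finset.ext fun j => by
      simp only [mem_sdiff, mem_univ, true_and, mem_insert, mem_singleton, not_or]
      exact ⟨fun b => ⟨by rintro rfl; exact e.2.2.1 b, by rintro rfl; exact e.2.2.2 b⟩, fun b =>
        k3 i j (by rintro rfl; exact e.2.2.1 hi) (by rintro rfl; exact e.2.2.2 hi) b.1 b.2 hi⟩
    have h4 := card_mod_four e.2.1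
    rw [this] at h4
    exact absurd h4 (by decide)
  rw [k4, kk_empty] at he
  have k5 : ∀ d : CW0, w.2 ⬝ᵥ (a0 k0 + kk k0 d.1) = 0 := fun d => by
    rw [← s.act_sgn_lam d.2.1 p₁, ← om_fst he.symm, lam, k0.act_φ]
    exact k1 _ (by rw [sqNorm_smul, sqNorm_lamL]) (by simp [sgnAut_smul_apply, d.2.2.1, d.2.2.2, lamL_apply]; decide)
  have k6 : w.2 ⬝ᵥ a0 k0 = 0 := by simpa [kk_empty] using k5 ⟨∅, isCW_empty, by simp, by simp⟩
  rcases perpZ he.symm fun d => by simpa [k6] using k5 d with e | e | e | e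
  exacts [h0 e, h1 e, by simp [e, s.w0_dot_a0] at k6, by simp [e, s.w0_dot_a0, ub_dot_a0 s] at k6]

theorem gT_five : (gT • (lamL p∞ + e8 p∞)).1 p∞ ∈ ({1, -1} : Finset ℤ) ∧ (gT • (lamL p∞ + e8 p∞)).1 p₀ ∈ ({3, -3} : Finset ℤ) ∧
    sqNorm (lamL p∞ + e8 p∞).1 = 48 ∧ sqNorm (lamL p∞ + e8 p∞ - dlL p∞ p₀).1 = 48 ∧
    (lamL p∞ + e8 p∞).1 p∞ = 5 ∧ (lamL p∞ + e8 p∞ - dlL p∞ p₀).1 p₀ = 5 := by
  simp only [AddSubgroup.coe_add, AddSubgroup.coe_sub, coe_gT_smul]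
  decide +kernel

variable {F V : Type*} [Field F] [AddCommGroup V] [Module F V] {A : C k0 → End F V} {T : End F V}

/-- the weight spaces of `2^(2+22)` -/
noncomputable def Wt (A : C k0 → End F V) (w : V24) : Submodule F V :=
  ex (fun p : ZMod 2 × {v : V24 // om v uK = 0} => A (q k0 p.1 p.2)) fun p => om p.2.1 w

/-- the weights -/
def Has (A : C k0 → End F V) (w : V24) : Prop := ∃ x ∈ Wt A w, x ≠ 0

theorem mem_Wt {w : V24} {x : V} : x ∈ Wt A w ↔ ∀ e v, om v uK = 0 → A (q k0 e v) x = sF F (om v w) • x :=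
  ⟨fun h e v hv => h (e, ⟨v, hv⟩), fun h p => h _ _ p.2.2⟩

theorem Wt_add (w : V24) : Wt A (w + uK) = Wt A w := Submodule.ext fun x => by
  simp only [mem_Wt]
  exact forall₃_congr fun e v hv => by rw [om_add_right, hv, add_zero]

theorem Wt_or {w w' : V24} (h : w' = w ∨ w' = w + uK) : Wt A w' = Wt A w := by
  rcases h with rfl | rfl
  exacts [rfl, Wt_add _]

theorem Wt_zw {w : V24} {x : V} (h : x ∈ Wt A w) : x ∈ zw A 0 w.1 := mem_zw.2 fun e n hn => by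
  rw [mem_Wt.1 h e n (om_uK_zero hn), om_comm, om_fst hn, zero_mul, zero_add]

theorem zw_eg {a : ZMod 2} {k : W12} {x : V} (h : x ∈ zw A a k) : x ∈ eg (A (z k0)) a := mem_eg.2 (zw_z h)

theorem Has.add {w : V24} (h : Has A w) : Has A (w + uK) := by rwa [Has, Wt_add]

theorem or_of_om {w w' : V24} (h : (fun p : ZMod 2 × {v : V24 // om v uK = 0} => om p.2.1 w) = fun p => om p.2.1 w') :
    w' = w ∨ w' = w + uK :=
  (perp1 (m := w + w') fun v hv => by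
    rw [om_comm, om_add_right, show om v w = om v w' from congrFun h (0, ⟨v, hv⟩), z2_add_self]).imp
    (fun e => (eq_add_of e).trans (add_zero _)) eq_add_of

theorem eq_of_Wt [NeZero (2 : F)] {w w' : V24} {x : V} (h : x ∈ Wt A w) (h' : x ∈ Wt A w') (h0 : x ≠ 0) :
    w' = w ∨ w' = w + uK := or_of_om (eq_of_mem_ex h h' h0)

namespace BR

variable (h : BR A T)
include h

theorem app_Wt {c : C k0} (hc : c ∈ CK) {w : V24} {x : V} (hx : x ∈ Wt A w) : A c x ∈ Wt A (cact c w) :=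
  mem_Wt.2 fun e v hv => by
    have := conj_q c⁻¹ e v
    rw [inv_inv] at this
    rw [h.conj' hc (q_memK.2 hv), this, mem_Wt.1 hx _ _ (by rwa [om_memK (inv_mem hc)]), map_smul, ← om_cact c,
      cact_cact_inv]

theorem has_act {c : C k0} (hc : c ∈ CK) {w : V24} (hw : Has A w) : Has A (cact c w) :=
  let ⟨_, h1, h2⟩ := hw; ⟨_, h.app_Wt hc h1, h.ne_zero hc h2⟩

theorem has_LL {g : Co0} (hg : g ∈ LL) {w : V24} (hw : Has A w) : Has A (k0.act g w) := by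
  obtain ⟨x, h1, rfl⟩ := exists_liftK hg
  exact cact_mk x w ▸ h.has_act h1 hw

theorem q_p {x : V} (hx : x ∈ eg (A (z k0)) 0) (e e' : ZMod 2) {v : V24} (hv : om v uK = 0) :
    A (q k0 e v) x = A (q k0 e' v) x := by
  rcases q_eq_or (κ := k0) (e := e') (e' := e) v with h1 | h1 <;> rw [h1]
  rw [h.app (q_memK.2 hv) z_memK, mem_eg.1 hx, sF_zero, one_smul]

theorem ci_p {P : Submodule F V} (h0 : P ≤ eg (A (z k0)) 0) (h1 : ∀ e v, om v uK = 0 → ∀ x ∈ P, A (q k0 e v) x ∈ P) :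
    CI (fun p : ZMod 2 × {v : V24 // om v uK = 0} => A (q k0 p.1 p.2)) P :=
  ⟨fun p => h1 _ _ p.2.2, fun p x hx => by
    rw [h.qq p.2.2 p.2.2, ww_add_self, h.q_p (h0 hx) _ 0 (om_zero_left _), q_zero, h.one_app], fun p p' x hx => by
    rw [h.qq p.2.2 p'.2.2, h.qq p'.2.2 p.2.2, add_comm p.2.1]
    exact h.q_p (h0 hx) _ _ (by rw [om_add_left, p.2.2, p'.2.2, add_zero])⟩

variable [NeZero (2 : F)]

theorem exists_Wt {ψ : ZMod 2 × {v : V24 // om v uK = 0} → ZMod 2} {x : V} (h1 : x ∈ eg (A (z k0)) 0)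
    (hx : x ∈ ex (fun p : ZMod 2 × {v : V24 // om v uK = 0} => A (q k0 p.1 p.2)) ψ) (h0 : x ≠ 0) :
    ∃ w, ψ = fun p => om p.2.1 w := by
  obtain ⟨w, hw⟩ := AddOn.exists_om (u := uK) (f := fun v => if k : om v uK = 0 then ψ (0, ⟨v, k⟩) else 0)
    fun v w hv hw => eq_of_sF_smul (F := F) h0 (by
      have k : om (v + w) uK = 0 := by rw [om_add_left, hv, hw, add_zero]
      simp only [dif_pos hv, dif_pos hw, dif_pos k]
      rw [← hx, sF_add, mul_comm, mul_smul, ← hx (0, ⟨v, hv⟩), ← map_smul, ← hx,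
        h.qq hv hw]
      exact h.q_p h1 _ _ k)
  refine ⟨w, funext fun p => eq_of_sF_smul (F := F) h0 ?_⟩
  rw [← hw _ p.2.2, dif_pos p.2.2, ← hx, ← hx]
  exact h.q_p h1 _ _ p.2.2

theorem le_Wt {P Q : Submodule F V} (h0 : P ≤ eg (A (z k0)) 0) (h1 : ∀ e v, om v uK = 0 → ∀ x ∈ P, A (q k0 e v) x ∈ P)
    (h2 : ∀ w, ∀ x ∈ P, x ∈ Wt A w → x ≠ 0 → x ∈ Q) : P ≤ Q :=
  (h.ci_p h0 h1).le fun _ x k1 k2 => by
    by_cases k0 : x = 0
    · exact k0 ▸ zero_mem _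
    · obtain ⟨w, rfl⟩ := h.exists_Wt (h0 k1) k2 k0
      exact h2 w x k1 k2 k0

theorem has_om {w : V24} (hw : Has A w) : om w uK = 0 :=
  let ⟨_, h1, h2⟩ := hw; (om_fst uK_fst w).trans (h.zw_dot (Wt_zw h1) h2)

omit h in
theorem Wt_fst {w : V24} {k : W12} {x : V} (h1 : x ∈ Wt A w) (h2 : x ∈ zw A 0 k) (h0 : x ≠ 0) : w.1 = k :=
  (Prod.ext_iff.1 (zw_inj (a₁ := (0, w.1)) (a₂ := (0, k)) (eq_of_mem_ex (Wt_zw h1) h2 h0))).2

theorem zw_le {k : W12} {Q : Submodule F V} (h2 : ∀ w, w.1 = k → ∀ x ∈ Wt A w, x ≠ 0 → x ∈ Q) : zw A 0 k ≤ Q :=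
  h.le_Wt (fun _ => zw_eg) (fun e v hv x hx => by simpa using h.q_zw hx e hv) fun w x k1 k2 k3 =>
    h2 w (Wt_fst k2 k1 k3) x k2 k3

end BR

namespace BS

variable [NeZero (2 : F)] [FiniteDimensional F V] (h : BS A T)
include h

theorem exists_odd {k : W12} (hk : (uK).2 ⬝ᵥ k = 0) (h1 : (w0 k0).2 ⬝ᵥ k = 1) : ∃ w, w.1 = k ∧ Has A w := by
  by_contra! e
  have := h.finrank_p hk h1
  rw [le_bot_iff.1 (h.zw_le fun w a x b c => absurd ⟨x, b, c⟩ (e w a)), finrank_bot] at this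
  exact zero_ne_one this

theorem zw_le_Wt {w : V24} (hw : Has A w) (h1 : om w (w0 k0) = 1) : zw A 0 w.1 ≤ Wt A w := fun x hx => by
  have k := h.has_om hw
  obtain ⟨y, y1, y2⟩ := hw
  obtain ⟨μ, rfl⟩ := exists_smul_of_finrank (h.finrank_p (om_fst uK_fst w ▸ k) (std_k0.om_w0_eq w ▸ h1)).le
    (Wt_zw y1) y2 hx
  exact Submodule.smul_mem _ _ y1

theorem odd_uniq {w w' : V24} (hw : Has A w) (hw' : Has A w') (h1 : om w (w0 k0) = 1) (e : w'.1 = w.1) :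
    w' = w ∨ w' = w + uK :=
  let ⟨_, y1, y2⟩ := hw'; eq_of_Wt (h.zw_le_Wt hw h1 (e ▸ Wt_zw y1)) y1 y2

theorem odd_orbit {c : ZMod 2} (hc : Has A (lam k0 p∞ + c • w0 k0)) {w : V24} (hw : Has A w) (h1 : om w (w0 k0) = 1) :
    ∃ d : CW0, w = k0.act (eps d) (lam k0 p∞) + c • w0 k0 ∨ w = k0.act (eps d) (lam k0 p∞) + c • w0 k0 + uK := by
  have s := std_k0
  obtain ⟨d, hd⟩ := exists_CW0 (k := a0 k0 + w.1) (by rw [dotProduct_add, ub_dot_a0 s, ← om_fst uK_fst, h.has_om hw, add_zero])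
    (by rw [dotProduct_add, s.w0_dot_a0, ← s.om_w0_eq, h1, z2_add_self])
  have e1 : k0.act (eps d) (c • w0 k0) = c • w0 k0 := by
    rcases z2_cases c with rfl | rfl <;> simp [act_w0_iff.2 (sgnAut_mem_monoGrp _ d.2.1), eps]
  have e2 := h.has_LL (eps_mem d) hc
  rw [map_add, e1] at e2
  have e3 : w.1 = (k0.act (eps d) (lam k0 p∞) + c • w0 k0).1 := by
    rw [Prod.fst_add, eps, s.act_sgn_lam, hd, Prod.smul_fst, s.w0_fst, smul_zero, add_zero, ← add_assoc, w_add_self, zero_add]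
  exact ⟨d, h.odd_uniq e2 hw (by rw [s.om_w0_eq, ← e3, ← s.om_w0_eq, h1]) e3⟩

theorem has_lam : Has A (lam k0 p∞) := by
  have s := std_k0
  obtain ⟨w, h1, h2⟩ := h.exists_odd (ub_dot_a0 s) s.w0_dot_a0
  have h3 : (lam k0 p∞ + w).1 = 0 := by rw [Prod.fst_add, h1, s.lam_fst, w_add_self]
  obtain ⟨δ, -, h4⟩ := exists_coc (fun d => (lam k0 p∞ + w).2 ⬝ᵥ kk k0 d) fun d e hd he => by
    rw [s.kk_symmDiff hd he, dotProduct_add]
  have h5 := perpZ h3 fun d => (h4 _ d.2.1).trans (inv_coc pr0 (fun σ a b d hd c e => by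
    obtain ⟨x, x1, x2⟩ := s.exists_E σ
    have k := h.has_act (E_memK x1 x2 (Or.inl ⟨a, b⟩)) h2
    rw [cact_mk, x2] at k
    have k1 : k0.act (permAut σ) (lam k0 p∞ + w) = lam k0 p∞ + k0.act (permAut σ) w := by rw [map_add, act_perm_lam, a]
    have k2 := s.act_fst (permAut_mem_monoGrp σ) h3
    have k3 := h.odd_uniq h2 k (by rw [s.om_w0_eq, h1, s.w0_dot_a0]) (by
      rw [k1, Prod.fst_add, s.lam_fst] at k2; rw [h1, ← add_right_inj (a0 k0), k2, w_add_self])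
    rw [coc_smul', ← h4 _ hd, ← h4 _ (isCW_smul hd _), kk, kk, ← om_fst h3, ← om_fst h3, ← k0.om_act (permAut σ), k0.act_φ,
      perm_tw σ (isCW_smul hd _), smul_inv_smul, k1]
    rcases k3 with k3 | k3 <;> rw [k3]
    rw [← add_assoc, om_add_right _ _ uK, om_fst uK_fst, ← kk, uK_kk0 ⟨d, hd, c, e⟩, add_zero]) _ d.2.1 d.2.2.1 d.2.2.2)
  have h6 : Has A (lam k0 p∞) ∨ Has A (lam k0 p∞ + w0 k0) := by
    rcases h5 with e | e | e | e <;> rw [eq_add_of e] at h2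
    exacts [Or.inl (add_zero (lam k0 p∞) ▸ h2), Or.inl (by simpa only [add_ub_ub] using h2.add), Or.inr h2,
      Or.inr (by simpa only [← add_assoc, add_ub_ub] using h2.add)]
  refine h6.resolve_right fun k => ?_
  obtain ⟨g1, g2, g3, g4, g5, g6⟩ := gT_five
  have e1 : lam k0 p∞ + w0 k0 = k0.φ (lamL p∞ + e8 p∞) := (map_add _ _ _).symm
  have k1 := h.has_LL gT_mem k
  rw [e1, k0.act_φ] at k1
  obtain ⟨d, hd⟩ := h.odd_orbit (c := 1) (by rwa [one_smul]) k1 (by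
    rw [om_w0 _ p∞]; rcases mem_insert.1 g1 with e | e <;> simp_all)
  rw [one_smul, ← act_w0_iff.2 (sgnAut_mem_monoGrp _ d.2.1), ← act_ub (κ := k0) (eps_mem d), eps, ← map_add, ← map_add, e1,
    ← φ_ub, ← k0.φ_neg (dlL _ _), ← map_add, k0.act_φ, k0.act_φ, ← sub_eq_add_neg, k0.φ_eq_iff, k0.φ_eq_iff] at hd
  rcases hd with hd | hd <;>
  rcases hd.short (by rw [sqNorm_smul]; omega) (by rw [sqNorm_smul]; omega) with e | e | e
  all_goals first
    | (rw [sqNorm_smul] at e; omega)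
    | (have a := congrFun (congrArg Subtype.val e) p∞
       have b := congrFun (congrArg Subtype.val e) p₀
       simp only [sgnAut_smul_apply, d.2.2.1, d.2.2.2, if_false, g5, g6, AddSubgroup.coe_neg, Pi.neg_apply, mem_insert,
         mem_singleton] at a b g1 g2
       omega)

theorem has_SU {w : V24} (hw : Has A w) : w = 0 ∨ w = uK ∨ SU k0 p∞ p₀ w := by
  by_contra! k
  obtain ⟨g, g1, g2⟩ := exists_odd_conj (h.has_om hw) k.1 k.2.1
  obtain ⟨d, hd⟩ := h.odd_orbit (c := 0) (by simpa using h.has_lam) (h.has_LL g1 hw) g2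
  have : SU k0 p∞ p₀ (k0.act g w) := by
    rcases hd with e | e <;> rw [e, zero_smul, add_zero]
    exacts [su_lam0.act (eps_mem d), (su_lam0.act (eps_mem d)).add]
  exact k.2.2 (by simpa using this.act (inv_mem g1))

theorem has_of_SU {w : V24} (hw : SU k0 p∞ p₀ w) : Has A w :=
  let ⟨_, h1, h2⟩ := su_lam0.exists_LL hw; h2 ▸ h.has_LL h1 h.has_lam

theorem Wt_lam : Wt A (lam k0 p∞) = zw A 0 (a0 k0) :=
  le_antisymm (fun _ => Wt_zw) (h.zw_le_Wt h.has_lam (om_lam_w0 _))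

theorem finrank_Wt {w : V24} (hw : SU k0 p∞ p₀ w) : finrank F (Wt A w) = 1 := by
  obtain ⟨c, h1, rfl⟩ := su_lam0.exists_CK hw
  rw [← h.finrank_p (ub_dot_a0 std_k0) std_k0.w0_dot_a0, ← h.Wt_lam]
  exact le_antisymm (finrank_le_of_map (h.inj (inv_mem h1)) fun x hx => by simpa using h.app_Wt (inv_mem h1) hx)
    (finrank_le_of_map (h.inj h1) fun x => h.app_Wt h1)

theorem le_p {P Q : Submodule F V} (h0 : P ≤ eg (A (z k0)) 0) (h1 : ∀ e v, om v uK = 0 → ∀ x ∈ P, A (q k0 e v) x ∈ P)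
    (h2 : ∀ x ∈ P, x ∈ Wt A 0 → x ∈ Q) (h3 : ∀ w, SU k0 p∞ p₀ w → ∀ x ∈ P, x ∈ Wt A w → x ≠ 0 → x ∈ Q) : P ≤ Q :=
  h.le_Wt h0 h1 fun w x a b c => by
    rcases h.has_SU ⟨x, b, c⟩ with rfl | rfl | e
    exacts [h2 x a b, h2 x a (by rwa [← Wt_add, zero_add]), h3 w e x a b c]

theorem finrank_eq : finrank F V = finrank F (Wt A 0) + 4348 := by
  classical
  obtain ⟨y, hy⟩ := exists_om_one (ub_ne_zero (κ := k0) pr0)
  rw [om_comm] at hy
  have h1 := ncard_half (S := {w | SU k0 p∞ p₀ w}) (fun w => SU.add) hy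
  rw [ncard_SU pr0] at h1
  have h2 := finrank_eq_add (g := A (z k0)) (W := ⊤) (fun _ _ => trivial) fun x _ => by
    rw [← h.app z_memK z_memK, z_mul_self, h.one_app]
  have h3 : ∀ w, eg (A (z k0)) 0 ⊓ Wt A w = Wt A w := fun w => inf_eq_right.2 fun x hx => zw_eg (Wt_zw hx)
  rw [finrank_top, top_inf_eq, top_inf_eq, h.finrank_Vm, (h.ci_p le_rfl fun e v hv x => h.app_eg (q_memK.2 hv)).finrank_eq_sum
    (κ := {w : V24 // om w y = 0}) (χ := fun w p => om p.2.1 w.1) (fun w w' e => Subtype.ext ((or_of_om e.symm).resolve_right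
      fun k => by have := w.2; rw [k, om_add_left, w'.2, hy] at this; exact absurd this (by decide)))
    (fun ψ x a b c => by
      obtain ⟨w, rfl⟩ := h.exists_Wt a b c
      rcases z2_cases (om w y) with e | e
      · exact ⟨⟨w, e⟩, rfl⟩
      · exact ⟨⟨w + uK, by rw [om_add_left, e, hy, z2_add_self]⟩, funext fun p => by
          rw [om_add_right, p.2.2, add_zero]⟩)] at h2
  have h5 := sum_eq_add (m := fun w : {w : V24 // om w y = 0} => finrank F ↥(eg (A (z k0)) 0 ⊓ Wt A w)) (a := ⟨0, om_zero_left _⟩)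
      (p := fun w => SU k0 p∞ p₀ w) (c := 1) (fun e => e.ne.1 rfl) (fun w e => by rw [h3, h.finrank_Wt e]) (fun w a b => by
        rw [h3, Submodule.finrank_eq_zero, Submodule.eq_bot_iff]
        intro x c
        by_contra d
        rcases h.has_SU ⟨x, c, d⟩ with e | e | e
        exacts [a (Subtype.ext e), by have := w.2; rw [e, hy] at this; exact absurd this (by decide), b e])
  rw [h3, Nat.card_congr (Equiv.subtypeSubtypeEquivSubtypeInter _ _)] at h5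
  have h4 : Nat.card {w : V24 // om w y = 0 ∧ SU k0 p∞ p₀ w} = {w | w ∈ {w | SU k0 p∞ p₀ w} ∧ om w y = 0}.ncard :=
    Nat.card_congr (Equiv.subtypeEquivRight fun _ => and_comm)
  exact h2.trans ((congrArg (· + 2048) h5).trans (by simp only [h4]; omega))

end BS

end CfsgLib.MonRep
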