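import Mathlib
import Cfsg.Agent.Lib.MonRep.BW

/-!
Modules of dimension at most 4371 for the amalgam of the Baby Monster: the part of dimension 23.
-/

set_option autoImplicit false

namespace CfsgLib.MonRep

open Module Cfsg CfsgLib.Mon CfsgLib.Mon.Mult CfsgLib.Leech CfsgLib.MType Finset MulAction Matrix
open scoped Pointwise

/-- the element `y_d` -/
noncomputable def yd (d : CW0) : Chat k0 := (std_k0.exists_Y 0 d.2.1).choose

theorem isY_yd (d : CW0) : IsY 0 d.1 (yd d) := (std_k0.exists_Y 0 d.2.1).choose_spec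

theorem yd_g (d : CW0) : (yd d).g = eps d := (isY_yd d).g_eq

theorem xd_mem (d : CW0) : q k0 0 (xv k0 d.1) ∈ CK := (Y_memK (isY_yd d) d.iff).1

theorem yd_mem (d : CW0) : Mon.mk k0 (yd d) ∈ CK := (Y_memK (isY_yd d) d.iff).2

theorem om_xd (d : CW0) : om (xv k0 d.1) uK = 0 := q_memK.1 (xd_mem d)

open _root_.Classical in
/-- lifts of the elements of `Co₂` -/
noncomputable def lf (g : Co0) : Chat k0 := if h : g ∈ LL then (exists_liftK h).choose else 1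

theorem lf_mem (g : Co0) : Mon.mk k0 (lf g) ∈ CK := by
  rw [lf]; split_ifs with h
  exacts [(exists_liftK h).choose_spec.1, by simp]

theorem lf_g {g : Co0} (h : g ∈ LL) : (lf g).g = g := by rw [lf, dif_pos h]; exact (exists_liftK h).choose_spec.2

theorem sT_lam : sT = q k0 0 (lam k0 p∞) := by rw [sT_eq, lam_k0_none]

theorem ov_fst {o δ : Finset GolayPt} (ho : IsCW o) (h : δ ∈ evs o) : (k0.φ (ov o δ)).1 = kk k0 o := by
  rw [std_k0.fst_of_even (even_ov ho h), cw_ov ho h]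

theorem su_chi {w : V24} (h : SU k0 p∞ p₀ w) (h0 : w.1 = 0) :
    ∃ j, j ≠ p∞ ∧ j ≠ p₀ ∧ ∀ d : CW0, om (xv k0 d.1) w = chi j d := by
  obtain ⟨w', h1, h2⟩ := h.cases pr0
  have h3 : w'.1 = 0 := by rcases h1 with rfl | rfl <;> simpa [uK_fst] using h0
  rcases h2 with ⟨j, a, b, c⟩ | ⟨o, δ, a, b, c, -, -, -, rfl⟩ | ⟨a, -⟩
  · refine ⟨j, a, b, fun d => ?_⟩
    rcases h1 with rfl | rfl <;> rcases c with rfl | rfl <;>
      simp [om_add_right, om_xd, om_xv_w0, om_xv_lam d.2.1, d.2.2.1, chi, coc_singleton]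
  · rw [ov_fst a c] at h3
    rcases std_k0.kk_eq_zero a h3 with rfl | rfl <;> exact absurd b (by decide)
  · have := std_k0.OS_odd a
    rw [h3, dotProduct_zero] at this
    exact absurd this zero_ne_one

theorem chi_ne {j : GolayPt} (h1 : j ≠ p∞) (h2 : j ≠ p₀) : chi j ≠ 0 := fun e => h1 (chi_inj (e.trans chi_none.symm) h1 h2)

theorem chi_add {j k l : GolayPt} (j1 : j ≠ p∞) (j2 : j ≠ p₀) (k1 : k ≠ p∞) (k2 : k ≠ p₀) (l1 : l ≠ p∞) (l2 : l ≠ p₀) :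
    chi j + chi k ≠ chi l := fun e => by
  have h1 := sub_pair pr0 (s := symmDiff (symmDiff {j} {k}) {l}) (((card_le_card symmDiff_subset_union).trans
    (card_union_le _ _)).trans (by
      have := (card_le_card (symmDiff_subset_union (s := {j}) (t := {k}))).trans (card_union_le _ _)
      simp only [card_singleton] at this ⊢; omega)) fun d a b c => by
      rw [coc_symmDiff, coc_symmDiff]
      exact (congrArg (· + coc {l} d) (congrFun e ⟨d, a, b, c⟩)).trans (z2_add_self _)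
  have h2 : ∀ i ∈ symmDiff (symmDiff {j} {k}) ({l} : Finset GolayPt), i = p∞ ∨ i = p₀ := fun i hi => by simpa using h1 hi
  have a := h2 j
  have b := h2 k
  have c := h2 l
  simp only [mem_symmDiff, mem_singleton] at a b c
  grind

variable {F V : Type*} [Field F] [AddCommGroup V] [Module F V] {A : C k0 → End F V} {T : End F V}

/-- the action of the `x_d` -/
noncomputable def XX (A : C k0 → End F V) (d : CW0) : End F V := A (q k0 0 (xv k0 d.1))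

/-- the action of the `y_d` -/
noncomputable def YX (A : C k0 → End F V) (d : CW0) : End F V := A (Mon.mk k0 (yd d))

namespace BR

variable (h : BR A T)
include h

theorem W_mem {c : C k0} (hc : c ∈ CK) : ∀ x ∈ Wt A 0, A c x ∈ Wt A 0 := fun x hx => by simpa using h.app_Wt hc hx

theorem W_eq {x y : Chat k0} (hx : Mon.mk k0 x ∈ CK) (hy : Mon.mk k0 y ∈ CK) (e : x.g = y.g) {v : V} (hv : v ∈ Wt A 0) :
    A (Mon.mk k0 x) v = A (Mon.mk k0 y) v := by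
  obtain ⟨a, n, k⟩ := Chat.eq_qh (x := x⁻¹ * y) (by rw [Chat.mul_g, Chat.inv_g, e, inv_mul_cancel])
  have k1 := mul_mem (inv_mem hx) hy
  rw [← map_inv, ← map_mul, k] at k1
  rw [inv_mul_eq_iff_eq_mul.1 k, map_mul, h.app hx k1, mk_qh, mem_Wt.1 hv _ _ (q_memK.1 k1)]; simp

/-- the action of `Co₂` -/
noncomputable def bW (g : Co0) : End F (Wt A 0) := (A (Mon.mk k0 (lf g))).restrict (h.W_mem (lf_mem g))

theorem bW_apply {x : Chat k0} (hx : Mon.mk k0 x ∈ CK) (hg : x.g ∈ LL) (v : Wt A 0) : (h.bW x.g v).1 = A (Mon.mk k0 x) v :=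
  h.W_eq (lf_mem _) hx (lf_g hg) v.2

theorem rp_bW : Rp LL h.bW :=
  ⟨LinearMap.ext fun v => Subtype.ext ((h.bW_apply (x := 1) (by simp) (one_mem _) v).trans (by rw [map_one, h.one_app]; rfl)),
    fun x hx y hy => LinearMap.ext fun v => Subtype.ext (by
      have e : (lf x * lf y).g = x * y := by rw [Chat.mul_g, lf_g hx, lf_g hy]
      rw [← e, h.bW_apply (map_mul (Mon.mk k0) _ _ ▸ mul_mem (lf_mem x) (lf_mem y)) (e ▸ mul_mem hx hy), map_mul,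
        h.app (lf_mem x) (lf_mem y)]; rfl)⟩

theorem mem_wx_bW {ψ : CW0 → ZMod 2} {v : Wt A 0} : v ∈ wx h.bW ψ ↔ v.1 ∈ ex (YX A) ψ :=
  mem_wx.trans (forall_congr' fun d => by
    rw [Subtype.ext_iff, ← yd_g, h.bW_apply (yd_mem d) (yd_g d ▸ eps_mem d)]; rfl)

theorem T_M0 {x : V} (hx : x ∈ zw A 0 0) : T x ∈ zw A 0 0 := by simpa using h.T_zw hx

theorem q_zw0 {k : W12} {x : V} (hx : x ∈ zw A 0 k) (e : ZMod 2) {v : V24} (hv : om v uK = 0) :
    A (q k0 e v) x ∈ zw A 0 k := by simpa using h.q_zw hx e hv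

theorem YX_T (d : CW0) (x : V) : YX A d (T x) = T (XX A d x) := h.gam _ _ (yd_mem d) (gam_Y (isY_yd d)) x

theorem YX_eq (d : CW0) (x : V) : YX A d x = T (XX A d (T (T x))) := by rw [← h.YX_T, h.cube]

theorem T_xy {α β : CW0 → ZMod 2} {x : V} (h1 : x ∈ ex (XX A) α) (h2 : x ∈ ex (YX A) β) :
    T x ∈ ex (XX A) (α + β) ∧ T x ∈ ex (YX A) α :=
  ⟨fun d => by
    have k := mul_mem (xd_mem d) (yd_mem d)
    have : A (q k0 0 (xv k0 d.1) * Mon.mk k0 (yd d)) (sF F ((α + β) d) • x) = x := by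
      rw [map_smul, h.app (xd_mem d) (yd_mem d), show A (Mon.mk k0 (yd d)) x = _ from h2 d, map_smul,
        show A (q k0 0 (xv k0 d.1)) x = _ from h1 d, smul_smul (sF F (β d)), ← sF_add, add_comm (β d)]
      exact sF_smul_smul _ _
    rw [XX, h.gam _ _ (xd_mem d) (gam_X (isY_yd d)), map_inv, map_mul, ← map_smul]
    conv_lhs => rw [← this]
    exact congrArg T (h.inv_app k _), fun d => by rw [h.YX_T, h1 d, map_smul]⟩

theorem YX_M0 (d : CW0) {x : V} (hx : x ∈ zw A 0 0) : YX A d x ∈ zw A 0 0 :=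
  h.YX_eq d x ▸ h.T_M0 (h.q_zw0 (h.T_M0 (h.T_M0 hx)) 0 (om_xd d))

theorem ci_X : CI (XX A) (zw A 0 0) :=
  let k := h.ci_p (P := zw A 0 0) (fun _ => zw_eg) fun e _ hv _ hx => h.q_zw0 hx e hv
  ⟨fun d => k.mem (0, ⟨_, om_xd d⟩), fun d => k.sq (0, ⟨_, om_xd d⟩), fun d e => k.comm (0, ⟨_, om_xd d⟩) (0, ⟨_, om_xd e⟩)⟩

theorem ci_Y (α : CW0 → ZMod 2) : CI (YX A) (zw A 0 0 ⊓ ex (XX A) α) := by
  refine ⟨fun d x hx => ⟨h.YX_M0 d hx.1, fun e => ?_⟩, fun d x hx => ?_, fun d e x hx => ?_⟩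
  · have k : (k0.act (yd d).g (xv k0 e.1) + xv k0 e.1).1 = 0 := by
      rw [Prod.fst_add, std_k0.xv_fst, xv, map_add, map_nsmul, act_w0_iff.2 (isY_yd d).mono, Prod.fst_add, (isY_yd d).g_eq,
        std_k0.act_sgn_tw _ e.2.1, Prod.smul_fst, std_k0.w0_fst, smul_zero, add_zero, w_add_self]
    have k1 := mem_zw.1 (h.YX_M0 d hx.1) 0 _ k
    have k2 := congrArg (XX A e) k1
    rw [XX, h.qq (om_xd e) (om_uK_zero k), add_comm (k0.act _ _), ← add_assoc, ww_add_self, zero_add (k0.act _ _),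
      h.q_p (zw_eg (h.YX_M0 d hx.1)) _ (0 + (yd d).ε (xv k0 e.1)) (by rw [← cact_mk, om_memK (yd_mem d), om_xd]),
      ← mk_conj_q, YX, ← h.conj (yd_mem d) (q_memK.2 (om_xd e)), show A (q k0 0 _) x = _ from hx.2 e] at k2
    simpa [XX, YX] using k2.symm
  · rw [h.YX_eq d x, h.YX_T, h.ci_X.sq d _ (h.T_M0 (h.T_M0 hx.1)), h.cube]
  · rw [h.YX_eq e x, h.YX_T, h.ci_X.comm d e _ (h.T_M0 (h.T_M0 hx.1)), ← h.YX_T, ← h.YX_eq]

end BR

namespace BS

variable [NeZero (2 : F)] [FiniteDimensional F V] (h : BS A T)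
include h

theorem le_X {α : CW0 → ZMod 2} (k : ∀ j, j ≠ p∞ → j ≠ p₀ → α ≠ chi j) : zw A 0 0 ⊓ ex (XX A) α ≤ Wt A 0 :=
  h.le_p (fun _ hx => zw_eg hx.1) (fun e v hv x hx => ⟨h.q_zw0 hx.1 e hv, fun d => by
    rw [← map_smul, ← hx.2 d]
    exact (h.ci_p (P := zw A 0 0) (fun _ => zw_eg) fun e _ hv _ hx => h.q_zw0 hx e hv).comm (0, ⟨_, om_xd d⟩)
      (e, ⟨v, hv⟩) x hx.1⟩) (fun _ _ a => a) fun w hw x a b c => by
    obtain ⟨j, j1, j2, j3⟩ := su_chi hw (BR.Wt_fst b a.1 c)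
    exact absurd (funext fun d => eq_of_sF_smul c ((a.2 d).symm.trans (j3 d ▸ mem_Wt.1 b 0 _ (om_xd d)))) (k j j1 j2)

theorem mem_W {x : V} (h1 : x ∈ zw A 0 0) (h2 : x ∈ ex (XX A) 0) : x ∈ Wt A 0 :=
  h.le_X (fun _ a b => (chi_ne a b).symm) ⟨h1, h2⟩

omit h [NeZero (2 : F)] [FiniteDimensional F V] in
theorem W_X {x : V} (h1 : x ∈ Wt A 0) : x ∈ ex (XX A) 0 := fun d => by simpa [XX] using mem_Wt.1 h1 0 _ (om_xd d)

theorem xchar {α : CW0 → ZMod 2} {x : V} (h1 : x ∈ zw A 0 0) (h2 : x ∈ ex (XX A) α) (h0 : x ≠ 0) :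
    α = 0 ∨ ∃ j, j ≠ p∞ ∧ j ≠ p₀ ∧ α = chi j := by
  by_contra! k
  exact k.1 (eq_of_mem_ex h2 (W_X (h.le_X k.2 ⟨h1, h2⟩)) h0)

theorem tri {α β : CW0 → ZMod 2} {x : V} (h1 : x ∈ zw A 0 0) (h2 : x ∈ ex (XX A) α) (h3 : x ∈ ex (YX A) β) (h0 : x ≠ 0) :
    α = 0 ∨ α + β = 0 ∨ α + β + α = 0 := by
  by_contra! k
  have a := h.T_xy h2 h3
  obtain ⟨i, i1, i2, i3⟩ := (h.xchar h1 h2 h0).resolve_left k.1
  obtain ⟨j, j1, j2, j3⟩ := (h.xchar (h.T_M0 h1) a.1 (h.T_ne h0)).resolve_left k.2.1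
  obtain ⟨l, l1, l2, l3⟩ := (h.xchar (h.T_M0 (h.T_M0 h1)) (h.T_xy a.1 a.2).1 (h.T_ne (h.T_ne h0))).resolve_left k.2.2
  exact chi_add j1 j2 i1 i2 l1 l2 (by rw [← l3, ← j3, ← i3])

theorem le_M0 {Q : Submodule F V} (h1 : Wt A 0 ≤ Q) (h2 : ∀ x ∈ Q, T x ∈ Q) : zw A 0 0 ≤ Q :=
  h.ci_X.le fun α x a b => (h.ci_Y α).le (fun β x a b => by
    by_cases h0 : x = 0
    · exact h0 ▸ zero_mem _
    have k := h.T_xy a.2 b
    rcases h.tri a.1 a.2 b h0 with e | e | e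
    · exact h1 (h.mem_W a.1 (e ▸ a.2))
    · exact h.cube x ▸ h2 _ (h2 _ (h1 (h.mem_W (h.T_M0 a.1) (e ▸ k.1))))
    · exact h.cube x ▸ h2 _ (h1 (h.mem_W (h.T_M0 (h.T_M0 a.1)) (e ▸ (h.T_xy k.1 k.2).1)))) ⟨a, b⟩

theorem wh : WH h.bW := by
  refine ⟨h.rp_bW, by have := h.finrank_eq; have := h.dim; omega, ?_⟩
  have k := su_lam (κ := k0) pr0 (j := p₁) (by decide) (by decide)
  have k0 : (lam k0 p∞ + lam k0 p₁).1 = 0 := φ_dlL (κ := k0) p∞ p₁ ▸ Cov.φ_dlL_fst std_k0 _ _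
  obtain ⟨y, y1, y2⟩ := h.has_of_SU k
  obtain ⟨j, j1, j2, j3⟩ := su_chi k k0
  obtain ⟨β, x, a, b, c⟩ := (h.ci_Y (chi j)).exists_ex ((Submodule.ne_bot_iff _).2
    ⟨y, ⟨k0 ▸ Wt_zw y1, fun d => j3 d ▸ mem_Wt.1 y1 0 _ (om_xd d)⟩, y2⟩)
  have t := h.T_xy a.2 b
  have t' := h.T_xy t.1 t.2
  rcases h.tri a.1 a.2 b c with e | e | e
  · exact absurd e (chi_ne j1 j2)
  · exact ⟨j, j1, j2, ⟨_, h.mem_W (h.T_M0 a.1) (e ▸ t.1)⟩, h.mem_wx_bW.2 t.2, fun e => h.T_ne c (congrArg Subtype.val e)⟩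
  · refine ⟨j, j1, j2, ⟨_, h.mem_W (h.T_M0 (h.T_M0 a.1)) (e ▸ t'.1)⟩, h.mem_wx_bW.2 ?_,
      fun e => h.T_ne (h.T_ne c) (congrArg Subtype.val e)⟩
    have e' : chi j + β = chi j := funext fun d => by
      have := congrFun e d; revert this; simp only [Pi.add_apply, Pi.zero_apply]; generalize chi j d = s, β d = t
      revert s t; decide
    simpa only [e'] using t'.2

theorem finrank_V : finrank F V = 4371 := by
  obtain ⟨e, k⟩ := h.wh.exists_ws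
  rw [h.finrank_eq, k.finrank_eq]

theorem T_D {x : V} (h1 : x ∈ Wt A 0) (h2 : x ∈ ex (YX A) 0) : T x = x := by
  by_cases h0 : x = 0
  · rw [h0, map_zero]
  have t := h.T_xy (W_X h1) h2
  rw [add_zero] at t
  obtain ⟨μ, e⟩ := h.wh.line (j := p∞) (v := ⟨x, h1⟩) (x := ⟨T x, h.mem_W (h.T_M0 (Wt_zw (w := 0) h1)) t.1⟩)
    (h.mem_wx_bW.2 (by rwa [chi_none])) (fun e => h0 (congrArg Subtype.val e)) (h.mem_wx_bW.2 (by rw [chi_none]; exact t.2))
  replace e : T x = μ • x := congrArg Subtype.val e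
  have s : A sT x = x := by simpa [sT_lam] using mem_Wt.1 h1 0 _ (om_lam_uK p∞)
  have a := h.inv x
  have b := h.cube x
  have c : T (T x) = x := by rwa [e, map_smul, s, ← e] at a
  rwa [c] at b

end BS

end CfsgLib.MonRep
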