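import Mathlib
import Cfsg.Agent.Lib.MonRep.BV
import Cfsg.Agent.Lib.Mon.Ym

/-!
The subgroup `2².U₆(2)` of `Fi₂₃` inside `2^(3+20).U₆(2)`; the stabilizer of a weight is perfect modulo `Q`.
-/

set_option autoImplicit false

namespace CfsgLib.MonRep

open Cfsg Cfsg.Spor CfsgLib.Mon CfsgLib.Mon.Y CfsgLib.Mon.Cov CfsgLib.Leech CfsgLib.Fischer CfsgLib.FiTool Subgroup
open scoped commutatorElement

theorem perfect_Pf : Group.IsPerfect Pf := by
  have hq := m23_fi.quasisimple_two cl_pair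
  rw [← (m23_fi.cent_two cl_pair).1] at hq
  exact hq.1

theorem exists_jPf : ∃ j : Pf →* C k0, Function.Injective j ∧ j.range ≤ DD k0 p∞ p₀ p₁ ∧
    Nat.card (j.range ⊓ Q k0 : Subgroup (C k0)) ≤ 4 ∧ img (DD k0 p∞ p₀ p₁) ≤ img j.range := by
  obtain ⟨m, e⟩ := exists_res ((Ym.ym mam_MU).gen433_le MonK.ms_MU)
  have h := (Ym.ym mam_MU).ky MonK.ms_MU e
  obtain ⟨k, hk, ek⟩ := exists_conj_d (h.ys.toYC.mono (P' := 3) (Q' := 0) (by norm_num) (by norm_num) le_rfl)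
  replace hk := gen_mono le_rfl (Nat.zero_le 3) le_rfl hk
  obtain ⟨φ, φ1, φ2⟩ := exists_Pf h.ys432 h.mul_ne
  have ex := fun a : Pf => h.exists_DD (g := k * φ a * k⁻¹) (mem_centralizer_singleton_iff.2 (by
    rw [← h.e1]
    exact (comm_f1 h.ys (by norm_num) le_rfl le_rfl (mul_mem (mul_mem hk (gen_mono le_rfl le_rfl (by norm_num) (φ2 a).1))
      (inv_mem hk))).symm)) (ek ▸ Commute.conj (φ2 a).2 k)
  choose j0 j1 j2 using ex
  let j : Pf →* C k0 := CK.subtype.comp (MonoidHom.mk' j0 fun a b => h.inj (by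
    rw [map_mul, j2, j2, j2, map_mul]; group))
  have ji : Function.Injective j := (injective_iff_map_eq_one _).2 fun a e => φ1 (by
    have := j2 a
    rw [show j0 a = 1 from Subtype.ext e, map_one, eq_comm, conj_eq_one_iff] at this
    rw [this, map_one])
  have cP : Nat.card j.range = 4 * 9196830720 := by
    rw [← card_Pf]; exact (Nat.card_congr (MonoidHom.ofInjective ji).toEquiv).symm
  have h3 : j.range ≤ DD k0 p∞ p₀ p₁ := by rintro _ ⟨a, rfl⟩; exact ⟨(j0 a).2, j1 a⟩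
  have hQ : Nat.card (j.range ⊓ Q k0 : Subgroup (C k0)) ≤ 4 := by
    rw [← map_comap_eq, card_map_of_injective ji]
    refine (normal_Pf _ (normal_Q.comap j)).resolve_left fun e => ?_
    have := card_le_of_le (show j.range ≤ Q k0 by rintro _ ⟨a, rfl⟩; exact (e ▸ mem_top a : a ∈ (Q k0).comap j))
    rw [cP, card_Q] at this
    omega
  refine ⟨j, ji, h3, hQ, ?_⟩
  have du := sqNorm_dlL pr0
  have dv := sqNorm_dlL (show p∞ ≠ p₁ by decide)
  have uv := dot_dlL pr0 (show p∞ ≠ p₁ by decide) (by decide)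
  rw [DD, C1_eq, C1_eq] at h3 ⊢
  have c1 := card_Cq_pair (κ := k0) du dv uv
  rw [card_Cq_two (φ_ne_zero (by rw [du]; norm_num) (by rw [du]; norm_num))
    (φ_ne_zero (by rw [dv]; norm_num) (by rw [dv]; norm_num)) (φ_add_ne_zero du dv uv)] at c1
  have c2 := two_mul_card j.range
  have c3 := Nat.mul_le_mul_right (Nat.card (img j.range)) hQ
  exact (Subgroup.eq_of_le_of_card_ge (img_mono h3) (by omega)).ge

/-- the stabilizer of a class -/
def St (w : V24) : Subgroup (C k0) where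
  carrier := {c | c ∈ CK ∧ cact c w = w}
  one_mem' := ⟨one_mem _, cact_one _⟩
  mul_mem' {a b} ha hb := ⟨mul_mem ha.1 hb.1, by rw [cact_mul, hb.2, ha.2]⟩
  inv_mem' {a} ha := ⟨inv_mem ha.1, by conv_lhs => rw [← ha.2, cact_inv_cact]⟩

theorem St_le {w : V24} (hw : SU k0 p∞ p₀ w) : St w ≤ (CK ⊓ Q k0) ⊔ ⁅St w, St w⁆ := by
  have k : ∀ w, CK ⊓ Q k0 ≤ St w := fun w c hc => ⟨hc.1, mem_Q_iff_cact.1 hc.2 w⟩
  have h1 : St (ub k0 p∞ p₁) ≤ (CK ⊓ Q k0) ⊔ ⁅St (ub k0 p∞ p₁), St (ub k0 p∞ p₁)⁆ := by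
    obtain ⟨j, -, j1, -, j2⟩ := exists_jPf
    have j3 : j.range ≤ St (ub k0 p∞ p₁) := fun c hc => ⟨(j1 hc).1, by
      have := (j1 hc).2
      rw [C1_eq, φ_ub] at this
      exact (mem_Cq.1 this).2⟩
    have j4 : j.range ≤ ⁅St (ub k0 p∞ p₁), St (ub k0 p∞ p₁)⁆ := by
      refine le_trans ?_ (commutator_mono j3 j3)
      rw [MonoidHom.range_eq_map, ← map_commutator, ← commutator_def, perfect_Pf.commutator_eq_top]
    refine le_of_img (sup_le (k _) (commutator_le_self _)) ((inf_le_inf_right _ fun _ a => a.1).trans le_sup_left)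
      (le_trans ?_ (j2.trans (img_mono (j4.trans le_sup_right))))
    rintro _ ⟨x, hx, rfl⟩
    rw [DD, C1_eq, C1_eq, φ_ub, φ_ub, mem_img_Cq_two (ub_ne_zero pr0) (ub_ne_zero (by decide))
      (φ_ub (κ := k0) ▸ φ_ub (κ := k0) ▸ φ_add_ne_zero (sqNorm_dlL pr0) (sqNorm_dlL (by decide))
        (dot_dlL pr0 (by decide) (by decide)))]
    exact ⟨(cact_mk x _).symm.trans (memK.1 hx.1).2, (cact_mk x _).symm.trans hx.2⟩
  obtain ⟨c, hc, rfl⟩ := SU.exists_CK (su_lam pr0 (j := p₁) (by decide) (by decide)) hw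
  intro g hg
  have h2 := mem_map_of_mem (MulAut.conj c).toMonoidHom (h1 (x := c⁻¹ * g * c) ⟨mul_mem (mul_mem (inv_mem hc) hg.1) hc, by
    rw [cact_mul, cact_mul, ub, hg.2, cact_inv_cact]⟩)
  have h3 : (St (ub k0 p∞ p₁)).map (MulAut.conj c).toMonoidHom ≤ St (cact c (lam k0 p∞ + lam k0 p₁)) := by
    rintro _ ⟨a, ha, rfl⟩
    exact ⟨mul_mem (mul_mem hc ha.1) (inv_mem hc), by
      rw [MulEquiv.coe_toMonoidHom, MulAut.conj_apply, cact_mul, cact_mul, cact_inv_cact]; exact congrArg _ ha.2⟩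
  rw [Subgroup.map_sup, map_commutator] at h2
  refine sup_le_sup ?_ (commutator_mono h3 h3) (by simpa [mul_assoc] using h2)
  rintro _ ⟨a, ha, rfl⟩
  exact ⟨CK.mul_mem (CK.mul_mem hc ha.1) (CK.inv_mem hc), normal_Q.conj_mem a ha.2 c⟩

end CfsgLib.MonRep
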