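import Mathlib
import Cfsg.Agent.Lib.MonRep.U62

/-!
Modules of dimension 4371 for the amalgam of the Baby Monster: homomorphisms for the centralizer.
-/

set_option autoImplicit false

namespace CfsgLib.MonRep

open Module Cfsg CfsgLib.Mon CfsgLib.Mon.Mult CfsgLib.Leech CfsgLib.MType Finset MulAction Matrix
open scoped Pointwise

variable {F V V' : Type*} [Field F] [AddCommGroup V] [Module F V] [AddCommGroup V'] [Module F V']

theorem exists_rank1 [NeZero (2 : F)] {ι : Type*} {f : ι → End F V} {χ : ι → ZMod 2} {v : V} (hv : v ∈ ex f χ)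
    (h0 : v ≠ 0) (v' : V') :
    ∃ φ : V →ₗ[F] V', φ v = v' ∧ ∀ ψ, ψ ≠ χ → ∀ x ∈ ex f ψ, φ x = 0 := by
  obtain ⟨l, h1, h2⟩ := Submodule.exists_le_ker_of_notMem fun k => h0 (Submodule.disjoint_def.1 (indep_ex f χ) v hv k)
  exact ⟨(l v)⁻¹ • l.smulRight v', by simp [smul_smul, h1], fun ψ a x b => by
    simp [show l x = 0 from h2 (Submodule.mem_iSup_of_mem ψ (Submodule.mem_iSup_of_mem a b))]⟩

theorem ex_map {ι : Type*} {f : ι → End F V} {f' : ι → End F V'} {θ : V →ₗ[F] V'} (h : ∀ i, Eqv θ (f i) (f' i))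
    {χ : ι → ZMod 2} {x : V} (hx : x ∈ ex f χ) : θ x ∈ ex f' χ := fun i => by rw [← h i, hx i, map_smul]

theorem Rp.exists_ind {G : Type*} [Group G] {K : Subgroup G} [Finite K] {b : G → End F V} {b' : G → End F V'} (h : Rp K b)
    (h' : Rp K b') (φ : V →ₗ[F] V') (v : V) {U : Submodule F V} (hU : ∀ g ∈ K, ∀ x ∈ U, b g x ∈ U)
    (h0 : ∀ x ∈ U, φ x = 0) (h1 : ∀ g ∈ K, Eqv φ (b g) (b' g) ∨ φ (b g⁻¹ v) = 0) :
    ∃ θ : V →ₗ[F] V', θ v = φ v ∧ (∀ x ∈ U, θ x = 0) ∧ ∀ g ∈ K, Eqv θ (b g) (b' g) := by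
  obtain ⟨θ, k1, k2⟩ := (h.hom h').orbit_sum (S := h.eqv h' φ) (v := φ) fun s a b => (h.hm_eq a).2 b.2
  refine ⟨θ, sub_eq_zero.1 (k2 (LinearMap.ker (LinearMap.applyₗ v)) fun g a c => ?_), fun x hx => ?_,
    fun g hg => (h.hm_eq hg).1 (k1 g hg)⟩
  · exact (hm_apply b b' g φ v).trans (by rw [(h1 g a).resolve_left fun e => c ⟨a, e⟩, map_zero])
  · have : θ x - φ x = 0 := k2 (LinearMap.ker (LinearMap.applyₗ x)) fun g a _ =>
      (hm_apply b b' g φ x).trans (by rw [h0 _ (hU _ (inv_mem a) x hx), map_zero])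
    rwa [h0 x hx, sub_zero] at this

variable {A : C k0 → End F V} {T : End F V} {A' : C k0 → End F V'} {T' : End F V'} [NeZero (2 : F)]

theorem exists_phi {a : ZMod 2} {k : W12} {v : V} (hv : v ∈ zw A a k) (h0 : v ≠ 0) (v' : V') :
    ∃ φ : V →ₗ[F] V', φ v = v' ∧ ∀ a' k', ¬(a' = a ∧ k' = k) → ∀ x ∈ zw A a' k', φ x = 0 :=
  let ⟨φ, h1, h2⟩ := exists_rank1 hv h0 v'
  ⟨φ, h1, fun a' k' e => h2 _ fun c => e (Prod.ext_iff.1 (zw_inj (a₁ := (a', k')) (a₂ := (a, k)) c))⟩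

theorem BR.eg_le (h : BR A T) {a : ZMod 2} {Q : Submodule F V} (h1 : ∀ k, ∀ x ∈ zw A a k, x ≠ 0 → x ∈ Q) :
    eg (A (z k0)) a ≤ Q := h.le_zw (fun e _ hn _ => h.app_eg (qz_memK e hn)) fun a' k x b c d => by
  obtain rfl : a' = a := eq_of_sF_smul d ((zw_z c).symm.trans (mem_eg.1 b))
  exact h1 k x c d

namespace BS

variable [FiniteDimensional F V] [FiniteDimensional F V'] (h : BS A T)
include h

omit [FiniteDimensional F V'] in
theorem top_le {Q : Submodule F V} (h1 : eg (A (z k0)) 1 ≤ Q) (h2 : Wt A 0 ≤ Q)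
    (h3 : ∀ w, SU k0 p∞ p₀ w → ∀ x ∈ Wt A w, x ≠ 0 → x ∈ Q) (x : V) : x ∈ Q :=
  h.le_zw (P := ⊤) (fun _ _ _ _ _ => trivial) (fun a k x _ b _ => by
    rcases z2_cases a with rfl | rfl
    exacts [h.le_p le_rfl (fun e v hv _ => h.app_eg (q_memK.2 hv)) (fun _ _ c => h2 c) (fun w c x _ => h3 w c x) (zw_eg b),
      h1 (zw_eg b)]) trivial

omit [FiniteDimensional F V'] in
theorem eqv_of {θ : V →ₗ[F] V'} {a : End F V} {a' : End F V'} (h1 : ∀ x ∈ eg (A (z k0)) 1, θ (a x) = a' (θ x))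
    (h2 : ∀ x ∈ Wt A 0, θ (a x) = a' (θ x)) (h3 : ∀ w, SU k0 p∞ p₀ w → ∀ x ∈ Wt A w, x ≠ 0 → θ (a x) = a' (θ x)) :
    Eqv θ a a' := h.top_le (Q := LinearMap.eqLocus (θ ∘ₗ a) (a' ∘ₗ θ)) h1 h2 h3

theorem Vm_le {v : V} (hv : v ∈ zw A 1 0) (h0 : v ≠ 0) {Q : Submodule F V} (h1 : v ∈ Q)
    (h2 : ∀ e n, om n uK = 0 → ∀ x ∈ Q, A (q k0 e n) x ∈ Q) : eg (A (z k0)) 1 ≤ Q := h.eg_le fun k x a b => by
  have hk : om ((k, 0) : V24) uK = 0 := by rw [om_fst uK_fst, h.zw_dot a b]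
  obtain ⟨μ, rfl⟩ := exists_smul_of_finrank (h.finrank_m (h.zw_dot a b)).le (by simpa using h.q_zw hv 0 hk)
    (h.ne_zero (q_memK.2 hk) h0) a
  exact Q.smul_mem _ (h2 _ _ hk _ h1)

theorem exists_homT (h' : BS A' T') {v : V} {v' : V'} (hv : v ∈ zw A 1 0) (h0 : v ≠ 0) (hv' : v' ∈ zw A' 1 0) (h0' : v' ≠ 0) :
    ∃ θ : V →ₗ[F] V', θ v = v' ∧ (∀ x ∈ eg (A (z k0)) 0, θ x = 0) ∧ ∀ c ∈ CK, Eqv θ (A c) (A' c) := by
  obtain ⟨φ, p1, p2⟩ := exists_phi hv h0 v'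
  have r := h.toRp.mono (inf_le_left (b := Q k0))
  have r' := h'.toRp.mono (inf_le_left (b := Q k0))
  obtain ⟨θ, k1, k2, k3⟩ := r.exists_ind r' φ v (U := eg (A (z k0)) 0) (fun g a _ => h.app_eg a.1)
    (h.eg_le (Q := LinearMap.ker φ) fun k x a _ => p2 _ _ (by simp) x a) (by
      rintro _ ⟨a, e, n, rfl⟩
      by_cases hn : n.1 = 0
      · refine Or.inl fun x => h.le_zw (P := ⊤) (Q := LinearMap.eqLocus (φ ∘ₗ A (q k0 e n)) (A' (q k0 e n) ∘ₗ φ))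
          (fun _ _ _ _ _ => trivial) (fun a k x _ b _ => ?_) trivial
        change φ (A _ x) = A' _ (φ x)
        rw [mem_zw.1 b e n hn, map_smul]
        by_cases c : a = 1 ∧ k = 0
        · obtain ⟨rfl, rfl⟩ := c
          obtain ⟨μ, rfl⟩ := exists_smul_of_finrank h.finrank_zero.le hv h0 b
          rw [map_smul, p1, map_smul, mem_zw.1 hv' e n hn, smul_comm]
        · simp [p2 a k c x b]
      · exact Or.inr (p2 _ _ (by simpa using hn) _ (q_inv e n ▸ h.q_zw hv _ (q_memK.1 a))))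
  refine ⟨θ, k1.trans p1, k2, fun c hc => (h.hm_eq hc).1 ((h.hom h'.toRp).fix_of_perfect le_rfl
    (Subgroup.isPerfect_iff.1 CK_facts.1) (fun g hg => ?_) hc)⟩
  have e1 : ∀ e n, om n uK = 0 → Eqv (hm A A' g θ) (A (q k0 e n)) (A' (q k0 e n)) := fun e n hn =>
    (h.hm_eq (q_memK.2 hn)).1 (by
      have k := mul_mem (mul_mem (inv_mem hg) (q_memK.2 hn : q k0 e n ∈ CK)) hg
      rw [(h.hom h'.toRp).conj' hg (q_memK.2 hn), (h.hm_eq k).2 (k3 _ ⟨k, normal_Q.conj_mem' _ (q_mem_Q e n) g⟩)])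
  obtain ⟨μ, e2⟩ := exists_smul_of_finrank h'.finrank_zero.le hv' h0' (ex_map (fun p => e1 _ _ (om_uK_zero rfl)) hv)
  refine ⟨μ, LinearMap.ext fun x => h.le_zw (P := ⊤) (Q := LinearMap.eqLocus (hm A A' g θ) (μ • θ))
    (fun _ _ _ _ _ => trivial) (fun a k x _ b _ => ?_) trivial⟩
  rcases z2_cases a with rfl | rfl
  · change hm A A' g θ x = μ • θ x
    rw [hm_apply, k2 x (zw_eg b), k2 _ (h.app_eg (inv_mem hg) (zw_eg b)), map_zero, smul_zero]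
  · refine h.Vm_le hv h0 (e2.trans (by rw [← p1, ← k1]; rfl)) (fun e n hn x a => ?_) (zw_eg b)
    change hm A A' g θ (A _ x) = μ • θ (A _ x)
    rw [e1 e n hn, k3 _ ⟨q_memK.2 hn, q_mem_Q e n⟩, ← map_smul]
    exact congrArg _ a

theorem exists_homX (h' : BS A' T') {v : V} {v' : V'} (hv : v ∈ Wt A (lam k0 p∞)) (h0 : v ≠ 0) (hv' : v' ∈ Wt A' (lam k0 p∞))
    {c : C k0} (hc : c ∈ CK) (c1 : cact c (lam k0 p∞) = lam k0 p∞ + uK) {μ : F} (c2 : A c v = μ • v) (c3 : A' c v' = μ • v') :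
    ∃ θ : V →ₗ[F] V', θ v = v' ∧ (∀ x ∈ eg (A (z k0)) 1 ⊔ Wt A 0, θ x = 0) ∧ ∀ c ∈ CK, Eqv θ (A c) (A' c) := by
  obtain ⟨φ, p1, p2⟩ := exists_phi (Wt_zw hv) h0 v'
  have p3 : ∀ w, ¬(w = lam k0 p∞ ∨ w = lam k0 p∞ + uK) → ∀ x ∈ Wt A w, φ x = 0 := fun w a x b => by
    by_cases c : x = 0
    · rw [c, map_zero]
    exact p2 _ _ (fun e => a (h.odd_uniq h.has_lam ⟨x, b, c⟩ (om_lam_w0 _) e.2)) x (Wt_zw b)
  have p4 : ∀ x ∈ eg (A (z k0)) 1, φ x = 0 := h.eg_le (Q := LinearMap.ker φ) fun k x a _ => p2 _ _ (by simp) x a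
  have p5 : ∀ x ∈ Wt A 0, φ x = 0 := p3 0 fun e => e.elim su_lam0.ne.1.symm su_lam0.add.ne.1.symm
  have ln : ∀ x ∈ Wt A (lam k0 p∞), ∃ μ : F, x = μ • v := fun x => exists_smul_of_finrank (h.finrank_Wt su_lam0).le hv h0
  have L : ∀ c ∈ CK, ∀ μ : F, A c v = μ • v → A' c v' = μ • v' → c ∈ h.eqv h'.toRp φ := fun c hc μ a b =>
    ⟨hc, h.eqv_of (fun x d => by rw [p4 x d, p4 _ (h.app_eg hc d), map_zero])
      (fun x d => by rw [p5 x d, p5 _ (h.W_mem hc x d), map_zero]) fun w _ x d e => by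
      by_cases k : w = lam k0 p∞ ∨ w = lam k0 p∞ + uK
      · obtain ⟨ν, rfl⟩ := ln x (by rwa [Wt_or k] at d)
        simp only [map_smul, a, b, p1]
      · rw [p3 w k x d, map_zero, p3 _ (fun k' => k ?_) _ (h.app_Wt hc d)]
        obtain ⟨ν, f⟩ := ln _ (by simpa only [Wt_or k'] using h.app_Wt hc d)
        have g : μ ≠ 0 := fun g => h.ne_zero hc h0 (by rw [a, g, zero_smul])
        rw [← inv_smul_smul₀ g v, ← a, ← map_smul, ← map_smul, (h.inj hc).eq_iff] at f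
        exact eq_of_Wt (f ▸ Submodule.smul_mem _ _ (Submodule.smul_mem _ _ hv)) d e⟩
  have S : St (lam k0 p∞) ≤ h.eqv h'.toRp φ := (St_le su_lam0).trans (sup_le (by
    rintro _ ⟨a, e, n, rfl⟩
    exact L _ a _ (mem_Wt.1 hv e n (q_memK.1 a)) (mem_Wt.1 hv' e n (q_memK.1 a))) fun g hg => by
    have a := h.comm_le_fix (S := St _) (fun _ a => a.1) (fun g a => ln _ (by simpa only [a.2] using h.app_Wt a.1 hv)) hg
    refine L g a.1 1 (by rw [one_smul, a.2]) ?_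
    by_cases b : v' = 0
    · simp [b]
    · rw [one_smul, (h'.comm_le_fix (S := St _) (fun _ a => a.1) (fun g a => exists_smul_of_finrank
        (h'.finrank_Wt su_lam0).le hv' b (by simpa only [a.2] using h'.app_Wt a.1 hv')) hg).2])
  obtain ⟨θ, k1, k2⟩ := h.exists_ind h'.toRp φ v (U := eg (A (z k0)) 1 ⊔ Wt A 0)
    (fun g a x b => by
      obtain ⟨y, c, w, d, rfl⟩ := Submodule.mem_sup.1 b
      exact map_add (A g) y w ▸ Submodule.add_mem_sup (h.app_eg a c) (h.W_mem a w d)) (sup_le (c := LinearMap.ker φ) p4 p5) fun g a => by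
      by_cases k : cact g⁻¹ (lam k0 p∞) = lam k0 p∞ ∨ cact g⁻¹ (lam k0 p∞) = lam k0 p∞ + uK
      · refine Or.inl (inv_mem_iff.1 (k.elim (fun k => S ⟨inv_mem a, k⟩) fun k => ?_) : g ∈ h.eqv h'.toRp φ).2
        exact (mul_mem_cancel_left (inv_mem (L c hc μ c2 c3))).1 (S ⟨mul_mem (inv_mem hc) (inv_mem a), by
          rw [cact_mul, k, ← c1, cact_inv_cact]⟩)
      · exact Or.inr (p3 _ k _ (h.app_Wt (inv_mem a) hv))
  exact ⟨θ, k1.trans p1, k2⟩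

theorem exists_homW (h' : BS A' T') {e : GolayPt → Wt A 0} {e' : GolayPt → Wt A' 0} (k : WS h.bW e) (k' : WS h'.bW e') :
    ∃ θ : V →ₗ[F] V', (∀ j, θ (e j) = e' j) ∧ (∀ x ∈ eg (A (z k0)) 1, θ x = 0) ∧
      (∀ w, SU k0 p∞ p₀ w → ∀ x ∈ Wt A w, θ x = 0) ∧ ∀ c ∈ CK, Eqv θ (A c) (A' c) := by
  obtain ⟨θ, k1, k2⟩ := k.exists_hom k'
  obtain ⟨π, p1, p2, p3⟩ := (h.toRp.mono (inf_le_left (b := Q k0))).exists_proj (χ := 0) (fun e => by
    obtain ⟨m, hm⟩ := Subgroup.card_dvd_of_le (inf_le_right (a := CK) (b := Q k0))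
    have := congrArg (Nat.cast : ℕ → F) hm
    rw [card_Q, Nat.cast_mul, e, zero_mul, Nat.cast_pow] at this
    exact pow_ne_zero _ (NeZero.ne (2 : F)) this) (by simp)
  have p0 : ∀ x, π x ∈ Wt A 0 := fun x => mem_Wt.2 fun e n hn => by simpa using p1 _ ⟨q_memK.2 hn, q_mem_Q e n⟩ x
  have p4 : ∀ x ∈ Wt A 0, π x = x := fun x a => p3 x (by
    rintro _ ⟨b, e, n, rfl⟩; simpa using mem_Wt.1 a e n (q_memK.1 b))
  have p5 : ∀ g ∈ CK ⊓ Q k0, ∀ x, A g x = sF F 1 • x → π x = 0 := fun g a x b =>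
    eq_zero_of_neg F (by simpa [b] using (p2 g a x).symm)
  have p6 : ∀ x ∈ eg (A (z k0)) 1, π x = 0 := fun x a => p5 _ ⟨z_memK, z_mem_Q⟩ x (mem_eg.1 a)
  have p7 : ∀ w, SU k0 p∞ p₀ w → ∀ x ∈ Wt A w, π x = 0 := fun w a x b => by
    obtain ⟨n, n1, n2⟩ := exists_om_two (ub_ne_zero pr0) a.ne.1 (add_comm w _ ▸ a.add.ne.1) 0 1
    exact p5 _ ⟨q_memK.2 n1, q_mem_Q 0 n⟩ x (n2 ▸ mem_Wt.1 b 0 n n1)
  let θ' := (Wt A' 0).subtype ∘ₗ θ ∘ₗ π.codRestrict _ p0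
  have t1 : ∀ x, π x = 0 → θ' x = 0 := fun x a => by
    simp [θ', show π.codRestrict _ p0 x = 0 from Subtype.ext a]
  have t2 : ∀ x : Wt A 0, θ' x = θ x := fun x => by
    simp [θ', show π.codRestrict _ p0 x = x from Subtype.ext (p4 _ x.2)]
  refine ⟨θ', fun j => by rw [t2, k1], fun x a => t1 x (p6 x a), fun w a x b => t1 x (p7 w a x b), fun c hc =>
    h.eqv_of (fun x a => by rw [t1 x (p6 x a), t1 _ (p6 _ (h.app_eg hc a)), map_zero]) (fun x a => ?_)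
    fun w a x b _ => by rw [t1 x (p7 w a x b), t1 _ (p7 _ (a.cact hc) _ (h.app_Wt hc b)), map_zero]⟩
  obtain ⟨y, rfl, y1, -⟩ := exists_fix pr0 hc
  rw [← h.bW_apply hc y1 ⟨x, a⟩, t2, k2 _ y1, h'.bW_apply hc y1, t2 ⟨x, a⟩]

end BS

end CfsgLib.MonRep
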