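import Mathlib
import Cfsg.Agent.Lib.MonRep.BH

/-!
Modules of dimension 4371 for the amalgam of the Baby Monster: gluing the homomorphisms.
-/

set_option autoImplicit false

namespace CfsgLib.MonRep

open Module Cfsg CfsgLib.Mon CfsgLib.Mon.Mult CfsgLib.Leech CfsgLib.MType Finset MulAction Matrix
open scoped Pointwise

theorem not_short_ov {o δ : Finset GolayPt} (ho : IsCW o) (h8 : o.card = 8) (h : δ ∈ evs o) {i : GolayPt} (hi : i ∈ o) :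
    ¬ IsShort k0 (k0.φ (ov o δ) + w0 k0) := fun ⟨v, h1, h2⟩ => by
  have a := sqNorm_ov ho h8 h
  have b := ov_apply ho h i
  have c : sqNorm (ov o δ + e8 i).1 = 64 ∨ sqNorm (ov o δ + -e8 i).1 = 64 := by
    rw [← sub_eq_add_neg, AddSubgroup.coe_add, AddSubgroup.coe_sub, sqNorm_add, sqNorm_sub, dotInt_e8, sqNorm_e8, a, b]
    split_ifs <;> simp
  rcases c with c | c
  · have := (k0.φ_eq_iff.1 (h2.trans (by rw [← φ_e8 i, map_add]))).sqNorm_eq (by omega) c.le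
    omega
  · have := (k0.φ_eq_iff.1 (h2.trans (by rw [← φ_e8 i, ← k0.φ_neg (e8 i), map_add]))).sqNorm_eq (by omega) c.le
    omega

theorem su_oct {w : V24} (h : SU k0 p∞ p₀ w) (h0 : w.1 ≠ 0) (h1 : (w0 k0).2 ⬝ᵥ w.1 ≠ 1) :
    ∃ o δ, IsCW o ∧ o.card = 8 ∧ δ ∈ evs o ∧ p∞ ∈ o ∧ p₀ ∈ o ∧ ¬(p∞ ∈ δ ↔ p₀ ∈ δ) ∧
      (w = k0.φ (ov o δ) ∨ w = k0.φ (ov o δ) + uK) ∧ w.1 = kk k0 o := by
  obtain ⟨w', h2, h3⟩ := h.cases pr0
  have h4 : w.1 = w'.1 := by rcases h2 with rfl | rfl <;> simp [uK_fst]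
  rcases h3 with ⟨j, -, -, c⟩ | ⟨o, δ, a, b, c, d, e, f, rfl⟩ | ⟨a, -⟩
  · rcases c with rfl | rfl <;> simp [h4, std_k0.lam_fst, std_k0.w0_fst, w_add_self] at h0
  · exact ⟨o, δ, a, b, c, d, e, f, h2, h4.trans (ov_fst a c)⟩
  · exact absurd (h4 ▸ std_k0.OS_odd a) h1

variable {F V V' : Type*} [Field F] [AddCommGroup V] [Module F V] [AddCommGroup V'] [Module F V']
  {A : C k0 → End F V} {T : End F V} {A' : C k0 → End F V'} {T' : End F V'} {θ : V →ₗ[F] V'}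

/-- the vectors on which a map commutes with the triality -/
def GS (θ : V →ₗ[F] V') (T : End F V) (T' : End F V') : Submodule F V :=
  LinearMap.eqLocus (θ ∘ₗ T) (T' ∘ₗ θ) ⊓ LinearMap.eqLocus (θ ∘ₗ T ∘ₗ T) (T' ∘ₗ T' ∘ₗ θ)

theorem mem_GS {x : V} : x ∈ GS θ T T' ↔ θ (T x) = T' (θ x) ∧ θ (T (T x)) = T' (T' (θ x)) := Iff.rfl

theorem exists_gamK {n : C k0} (h1 : n ∈ CK) (h2 : n ∈ Nxyz k0) : ∃ n' ∈ CK, n' ∈ Nxyz k0 ∧ (n', n) ∈ Gam k0 :=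
  let ⟨n', h⟩ := std_k0.exists_gam' h2; ⟨n', (gam_CK h).2 h1, (std_k0.Gam_le h).1, h⟩

theorem map_Wt (hθ : ∀ c ∈ CK, Eqv θ (A c) (A' c)) {w : V24} {x : V} (hx : x ∈ Wt A w) : θ x ∈ Wt A' w :=
  ex_map (fun p => hθ _ (q_memK.2 p.2.2)) hx

theorem map_zw (hθ : ∀ c ∈ CK, Eqv θ (A c) (A' c)) {a : ZMod 2} {k : W12} {x : V} (hx : x ∈ zw A a k) : θ x ∈ zw A' a k :=
  ex_map (fun _ => hθ _ (qz_memK _ rfl)) hx

namespace BR

variable (h : BR A T)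
include h

theorem T_s (x : V) : T (A sT x) = A sT (T (T x)) := by rw [← h.inv (T (T x)), h.cube]

theorem ss (x : V) : A sT (A sT x) = x := by rw [← h.app sT_mem_CK sT_mem_CK, sT_mul_self, h.one_app]

variable (h' : BR A' T') (hθ : ∀ c ∈ CK, Eqv θ (A c) (A' c))
include h'

theorem GS_T {x : V} (hx : x ∈ GS θ T T') : T x ∈ GS θ T T' :=
  ⟨hx.2.trans (congrArg T' hx.1.symm), by
    change θ (T (T (T x))) = T' (T' (θ (T x)))
    rw [h.cube, (mem_GS.1 hx).1, h'.cube]⟩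

include hθ

theorem GS_N {n : C k0} (h1 : n ∈ CK) (h2 : n ∈ Nxyz k0) {x : V} (hx : x ∈ GS θ T T') : A n x ∈ GS θ T T' := by
  obtain ⟨a, a1, a2, a3⟩ := exists_gamK h1 h2
  obtain ⟨b, b1, -, b3⟩ := exists_gamK a1 a2
  rw [mem_GS] at hx ⊢
  rw [← h.gam _ _ a1 a3, ← h.gam _ _ b1 b3, hθ a a1, hθ b b1, hθ n h1, hx.1, hx.2, h'.gam _ _ b1 b3, h'.gam _ _ a1 a3]
  exact ⟨rfl, rfl⟩

theorem GS_s {x : V} (hx : x ∈ GS θ T T') : A sT x ∈ GS θ T T' := by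
  rw [mem_GS] at hx ⊢
  rw [h.T_s, h.inv, hθ _ sT_mem_CK, hθ _ sT_mem_CK, hθ _ sT_mem_CK, hx.1, hx.2, h'.T_s, h'.inv]
  exact ⟨rfl, rfl⟩

theorem GS_q (e : ZMod 2) {n : V24} (hn : om n uK = 0) {x : V} (hx : x ∈ GS θ T T') : A (q k0 e n) x ∈ GS θ T T' := by
  rcases mem_or_of_mem_Nx0 (Q_le_Nx0 (q_mem_Q e n)) (xI_mem_Nx0 p∞) (xI_notMem_Nxyz _) with k | k
  · exact h.GS_N h' hθ (q_memK.2 hn) k hx
  · have k1 := mul_mem (q_memK.2 hn : q k0 e n ∈ CK) sT_mem_CK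
    have := h.GS_N h' hθ k1 k (h.GS_s h' hθ hx)
    rwa [h.app (q_memK.2 hn) sT_mem_CK, h.ss] at this

theorem GS_of_s {x : V} (hx : A sT x = x) (h1 : θ (T x) = T' (θ x) ∨ θ (T (T x)) = T' (T' (θ x))) : x ∈ GS θ T T' := by
  have a : θ (T x) = A' sT (θ (T (T x))) := by rw [← hθ _ sT_mem_CK, ← h.T_s, hx]
  have b : T' (θ x) = A' sT (T' (T' (θ x))) := by rw [← h'.T_s, ← hθ _ sT_mem_CK, hx]
  rcases h1 with k | k
  exacts [⟨k, h'.inj sT_mem_CK (a.symm.trans (k.trans b))⟩, ⟨a.trans ((congrArg _ k).trans b.symm), k⟩]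

end BR

namespace BS

variable [NeZero (2 : F)] [FiniteDimensional F V] [FiniteDimensional F V'] (h : BS A T) (h' : BS A' T')
include h h'

theorem GS_oct (hθ : ∀ c ∈ CK, Eqv θ (A c) (A' c)) {v : V} (hv : v ∈ Wt A (lam k0 p∞)) (h0 : θ v ≠ 0) {w : V24}
    (hw : SU k0 p∞ p₀ w) (w1 : w.1 ≠ 0) (w2 : (w0 k0).2 ⬝ᵥ w.1 ≠ 1) : zw A 0 w.1 ≤ GS θ T T' := by
  obtain ⟨o, δ, o1, o2, o3, o4, o5, o6, -, o7⟩ := su_oct hw w1 w2
  have su := su_ov (κ := k0) pr0 o1 o2 o3 o4 o5 o6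
  obtain ⟨c, c1, c2⟩ := su_lam0.exists_CK su
  have x1 := h.app_Wt c1 hv
  rw [c2] at x1
  have x2 : θ (A c v) ≠ 0 := by rw [hθ c c1 v]; exact h'.ne_zero c1 h0
  have x3 : A c v ≠ 0 := fun e => x2 (by rw [e, map_zero])
  generalize A c v = x at x1 x2 x3
  have hT : ∀ x ∈ zw A 0 w.1, T x ∈ zw A 0 w.1 := fun x a => by simpa [(z2_cases _).resolve_right w2] using h.T_zw a
  have hT' : ∀ x ∈ zw A' 0 w.1, T' x ∈ zw A' 0 w.1 := fun x a => by simpa [(z2_cases _).resolve_right w2] using h'.T_zw a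
  let ψ := T' ∘ₗ T' ∘ₗ θ ∘ₗ T
  have p1 : ∀ n ∈ CK, n ∈ Nxyz k0 → Eqv ψ (A n) (A' n) := fun n a b x => by
    obtain ⟨m, m1, -, m3⟩ := exists_gamK a b
    refine h'.T_inj ?_
    change T' (T' (T' (θ (T (A n x))))) = T' (A' n (T' (T' (θ (T x)))))
    rw [h'.cube, ← h.gam _ _ m1 m3, hθ m m1, ← h'.gam _ _ m1 m3, h'.cube]
  have x4 : x ∈ zw A 0 w.1 := by rw [o7, ← ov_fst o1 o3]; exact Wt_zw x1
  have p2 : ψ x ∈ Wt A' (k0.φ (ov o δ)) := by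
    let f := fun n : {n : V24 // om n uK = 0 ∧ om n (w0 k0) = 0} => A' (q k0 0 n)
    refine h'.le_Wt (P := zw A' 0 w.1 ⊓ ex f fun n => om n.1 (k0.φ (ov o δ))) (fun _ a => zw_eg a.1)
      (fun e n hn y a => ⟨h'.q_zw0 a.1 e hn, fun m => ?_⟩) (fun w' y a b c => ?_)
      ⟨hT' _ (hT' _ (map_zw hθ (hT x x4))), fun n => by
        rw [← map_smul, ← mem_Wt.1 x1 0 _ n.2.1]; exact (p1 _ (q_memK.2 n.2.1) (q_mem_Nxyz.2 n.2.2) x).symm⟩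
    · rw [← map_smul, ← a.2 m]
      exact (h'.ci_p (P := zw A' 0 w.1) (fun _ => zw_eg) fun e _ hv _ hx => h'.q_zw0 hx e hv).comm (0, ⟨_, m.2.1⟩)
        (e, ⟨n, hn⟩) y a.1
    · have k := perp2 (m := k0.φ (ov o δ) + w') (om_lam_uK p∞) (om_lam_w0 _) fun n n1 n2 => by
        rw [om_comm, om_add_right, show om n (k0.φ (ov o δ)) = om n w' from
          eq_of_sF_smul c ((a.2 ⟨n, n1, n2⟩).symm.trans (mem_Wt.1 b 0 n n1)), z2_add_self]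
      have k1 : SU k0 p∞ p₀ w' := ((h'.has_SU ⟨y, b, c⟩).resolve_left fun e => w1 (by
        rw [← BR.Wt_fst b a.1 c, e]; rfl)).resolve_left fun e => w1 (by rw [← BR.Wt_fst b a.1 c, e, uK_fst])
      rcases k with k | k | k | k <;> rw [eq_add_of k] at b k1
      exacts [by rwa [add_zero] at b, by rwa [Wt_add] at b, absurd k1.1 (not_short_ov o1 o2 o3 o4),
        absurd (by simpa only [← add_assoc, add_ub_ub] using k1.2) (not_short_ov o1 o2 o3 o4)]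
  obtain ⟨μ, p3⟩ := exists_smul_of_finrank (h'.finrank_Wt su).le (map_Wt hθ x1) x2 p2
  have p4 : zw A 0 w.1 ≤ LinearMap.eqLocus ψ (μ • θ) := h.zw_le fun w' a y b c => by
    have k1 : SU k0 p∞ p₀ w' := ((h.has_SU ⟨y, b, c⟩).resolve_left fun e => w1 (by
      rw [← a, e]; rfl)).resolve_left fun e => w1 (by rw [← a, e, uK_fst])
    obtain ⟨o', δ', q1, q2, q3, q4, q5, q6, q7, q8⟩ := su_oct k1 (by rwa [a]) (by rwa [a])
    obtain rfl : o' = o := by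
      rcases std_k0.kk_eq_zero (q1.symmDiff o1) (by rw [std_k0.kk_symmDiff q1 o1, ← q8, ← o7, a, w_add_self]) with e | e
      exacts [symmDiff_eq_bot.1 e, by simpa [mem_symmDiff, q4, o4] using Finset.ext_iff.1 e p∞]
    obtain ⟨d, d1, d2⟩ := exists_inter o1 o2 (symmDiff_mem_evs o3 q3)
    obtain ⟨s, hs⟩ := std_k0.exists_Y 0 d1
    have s1 := (Y_memK hs (by
      have a := Finset.ext_iff.1 d2 p∞
      have b := Finset.ext_iff.1 d2 p₀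
      simp only [mem_inter, mem_symmDiff, o4, o5, and_true] at a b
      grind)).2
    have s2 := h.app_Wt s1 x1
    rw [cact_mk, hs.g_eq, k0.act_φ, sgn_ov _ o1 o3, d2, symmDiff_symmDiff_cancel_left, ← Wt_or q7] at s2
    obtain ⟨ν, rfl⟩ := exists_smul_of_finrank (h.finrank_Wt k1).le s2 (h.ne_zero s1 x3) b
    refine Submodule.smul_mem _ _ ?_
    change ψ _ = μ • θ _
    rw [p1 _ s1 (std_k0.isY_mem_Nxyz hs), p3, hθ _ s1, map_smul]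
  have p5 : ∀ x ∈ zw A 0 w.1, θ (T x) = T' (θ x) := fun x => braid_smul (hθ _ sT_mem_CK)
    (fun y => (congrArg θ (h.inv y)).trans ((hθ _ sT_mem_CK y).trans (h'.inv _).symm))
    (fun y => (congrArg θ (h.cube y)).trans (h'.cube _).symm) h'.T_inj (h'.inj sT_mem_CK) hT
    (fun y a => by rw [sT_lam]; exact h.q_zw0 a 0 (om_lam_uK _)) fun y a => by
      rw [← map_smul, ← h'.cube (θ _)]; exact congrArg T' (p4 a)
  exact fun x a => ⟨p5 x a, (p5 _ (hT x a)).trans (congrArg T' (p5 x a))⟩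

theorem exists_hom : ∃ θ : V →ₗ[F] V', θ ≠ 0 ∧ (∀ c ∈ CK, Eqv θ (A c) (A' c)) ∧ Eqv θ T T' := by
  have s := std_k0
  obtain ⟨v, v1, v2⟩ := h.has_lam
  obtain ⟨v', k1, k2⟩ := h'.has_lam
  have v3 : T v ∈ zw A 1 0 := by simpa [s.lam_fst, s.w0_dot_a0, w_add_self] using h.T_zw (Wt_zw v1)
  obtain ⟨θ1, a1, a2, a3⟩ := h.exists_homT h' v3 (h.T_ne v2)
    (by simpa [s.lam_fst, s.w0_dot_a0, w_add_self] using h'.T_zw (Wt_zw k1)) (h'.T_ne k2)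
  obtain ⟨σ, s1, s2⟩ := exists_M24_two pr0 pr0.symm
  obtain ⟨y, y1, y2⟩ := s.exists_E σ
  have y3 := E_memK y1 y2 (Or.inr ⟨s1, s2⟩)
  have y4 : cact (Mon.mk k0 y) (lam k0 p∞) = lam k0 p∞ + uK := by
    rw [cact_mk, y2, act_perm_lam, s1, ub, ← add_assoc, ww_add_self, zero_add]
  obtain ⟨μ, y5⟩ := exists_smul_of_finrank (h.finrank_Wt su_lam0).le v1 v2 (by
    simpa only [y4, Wt_add] using h.app_Wt y3 v1)
  obtain ⟨θ2, b1, b2, b3⟩ := h.exists_homX h' v1 v2 k1 y3 y4 y5 (h'.T_inj (by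
    rw [← h'.gam _ _ y3 (gam_E y1), ← a1, ← a3 _ y3, h.gam _ _ y3 (gam_E y1), y5, map_smul, map_smul, map_smul, a1]))
  obtain ⟨e, he⟩ := h.wh.exists_ws
  obtain ⟨e', he'⟩ := h'.wh.exists_ws
  obtain ⟨θ3, c1, c2, c3, c4⟩ := h.exists_homW h' he he'
  have e0 : ∀ j, (e j).1 ∈ zw A 0 0 := fun j => Wt_zw (w := 0) (e j).2
  have e1 := h.T_xy (W_X (e p₁).2) (h.mem_wx_bW.1 (he.mem p₁))
  have e2 := h.T_xy e1.1 e1.2
  have e3 := h'.T_xy (ex_map (fun d => b3 _ (xd_mem d)) e2.1) (ex_map (fun d => b3 _ (yd_mem d)) e2.2)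
  rw [zero_add, add_zero, show chi p₁ + chi p₁ = 0 from funext fun _ => z2_add_self _] at e3
  obtain ⟨ν, e4⟩ := he'.line' (x := ⟨_, h'.mem_W (h'.T_M0 (map_zw b3 (h.T_M0 (h.T_M0 (e0 p₁))))) e3.1⟩)
    (h'.mem_wx_bW.2 e3.2)
  replace e4 : T' (θ2 (T (T (e p₁)))) = ν • (e' p₁).1 := congrArg Subtype.val e4
  have hθ : ∀ c ∈ CK, Eqv (θ1 + θ2 + ν • θ3) (A c) (A' c) := fun c hc x => by
    simp only [LinearMap.add_apply, LinearMap.smul_apply, map_add, map_smul, a3 c hc x, b3 c hc x, c4 c hc x]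
  have t1 : (θ1 + θ2 + ν • θ3) v = v' := by simp [a2 v (zw_eg (Wt_zw v1)), b1, c3 _ su_lam0 v v1]
  have t2 : ∀ j, (θ1 + θ2 + ν • θ3) (e j) = ν • (e' j).1 := fun j => by
    simp [a2 _ (zw_eg (e0 j)), b2 _ (Submodule.mem_sup_right (e j).2), c1]
  have t3 : (θ1 + θ2 + ν • θ3) (T v) = T' v' := by
    simp [a1, b2 _ (Submodule.mem_sup_left (zw_eg v3)), c2 _ (zw_eg v3)]
  have t4 : (θ1 + θ2 + ν • θ3) (T (T (e p₁))) = θ2 (T (T (e p₁))) := by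
    have : θ3 (T (T (e p₁))) = 0 := by_contra fun a => chi_ne (j := p₁) (by decide) (by decide) (by
      simpa using eq_of_mem_ex (ex_map (fun d => c4 _ (xd_mem d)) e2.1) (W_X (h.top_le (Q := (Wt A' 0).comap θ3)
        (fun x b => by simp [c2 x b]) (fun x => map_Wt c4) (fun w b x c _ => by simp [c3 w b x c]) _)) a)
    simp [this, a2 _ (zw_eg (h.T_M0 (h.T_M0 (e0 p₁))))]
  generalize θ1 + θ2 + ν • θ3 = θ at hθ t1 t2 t3 t4
  have sW : ∀ {w x}, x ∈ Wt A w → om (lam k0 p∞) w = 0 → A sT x = x := fun a b => by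
    simpa [sT_lam, b] using mem_Wt.1 a 0 _ (om_lam_uK p∞)
  have g1 : eg (A (z k0)) 1 ≤ GS θ T T' := h.Vm_le v3 (h.T_ne v2) (h.GS_T h'.toBR (h.GS_of_s h'.toBR hθ
    (sW v1 (om_self _)) (Or.inl (t1 ▸ t3)))) fun e n hn x => h.GS_q h'.toBR hθ e hn
  have g2 : (e p₁).1 ∈ GS θ T T' := h.GS_of_s h'.toBR hθ (sW (e _).2 (om_zero_right _))
    (Or.inr (by rw [t4, t2, ← e4, h'.cube]))
  have g3 : (e p∞).1 ∈ GS θ T T' := by
    have a := h.mem_wx_bW.1 (he.mem p∞)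
    rw [chi_none] at a
    have b := h'.T_D (map_Wt hθ (e p∞).2) (ex_map (fun d => hθ _ (yd_mem d)) a)
    rw [mem_GS, h.T_D (e p∞).2 a, h.T_D (e p∞).2 a, b, b]
    exact ⟨rfl, rfl⟩
  have g4 : Wt A 0 ≤ GS θ T T' := fun x a => he.top_le (P := (GS θ T T').comap (Wt A 0).subtype) (fun j => by
    by_cases j1 : j = p∞
    · exact j1 ▸ g3
    by_cases j2 : j = p₀
    · exact j2 ▸ he.pr ▸ g3
    obtain ⟨σ, s1, s2, rfl⟩ := exists_M22 (j := p₁) (by decide) (by decide) j1 j2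
    obtain ⟨y, y1, y2⟩ := s.exists_E σ
    have y3 := E_memK y1 y2 (Or.inl ⟨s1, s2⟩)
    change (e _).1 ∈ GS θ T T'
    rw [← he.perm (perm_mem s1 s2), ← y2, h.bW_apply y3 (y2 ▸ perm_mem s1 s2)]
    exact h.GS_N h'.toBR hθ y3 (s.isE_mem_Nxyz y1) g2) (x := ⟨x, a⟩) trivial
  refine ⟨θ, fun a => k2 (by rw [← t1, a]; rfl), hθ, fun x => (h.top_le g1 g4 (fun w a x b _ => ?_) x).1⟩
  by_cases w1 : w.1 = 0
  · exact h.le_M0 g4 (fun _ => h.GS_T h'.toBR) (w1 ▸ Wt_zw b)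
  by_cases w2 : (w0 k0).2 ⬝ᵥ w.1 = 1
  · exact h.cube x ▸ h.GS_T h'.toBR (h.GS_T h'.toBR (g1 (by simpa [w2] using zw_eg (h.T_zw (Wt_zw b)))))
  · exact h.GS_oct h' hθ v1 (t1 ▸ k2) a w1 w2 (Wt_zw b)

end BS

end CfsgLib.MonRep
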