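import Mathlib
import Cfsg.Agent.Lib.MonRep.BG
import Cfsg.Agent.Lib.MonRep.BRep

/-!
The Baby Monster has a unique faithful representation of degree 4371 in odd characteristic and characteristic zero.
-/

set_option autoImplicit false

namespace CfsgLib.MonRep

open Module Cfsg CfsgLib.Mon Matrix

variable {F G V V' : Type*} [Field F] [Group G] [AddCommGroup V] [Module F V] [AddCommGroup V'] [Module F V']
  {π : CK →* G} {τ : G}

theorem rp_rep (σ : Representation F G V) : Rp ⊤ σ := ⟨map_one σ, fun x _ y _ => map_mul σ x y⟩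

theorem br_of_rep (h : KAm π τ) (ht : π tKK = 1) (σ : Representation F G V) : BR (xt (σ.comp π)) (σ τ) where
  toRp := rp_xt _
  gam a b ha e x := by
    rw [xt_apply _ ha, xt_apply _ ((Mult.gam_CK e).1 ha)]
    exact (rep_mul σ _ _ x).symm.trans ((congrArg (σ · x) (h.gam ⟨a, ha⟩ ⟨b, _⟩ e)).trans (rep_mul σ _ _ x))
  cube x := by simpa [pow_three] using congrArg (σ · x) h.cube
  inv x := by rw [xt_apply _ sT_mem_CK]; simpa using congrArg (σ · x) h.inv
  tk x := by rw [← tK_eq', xt_apply _ (g := tK) tKK.2]; exact (congrArg (σ · x) ht).trans (by simp)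

theorem bs_of_rep (h : KAm π τ) (ht : π tKK = 1) {σ : Representation F G V} (hz : σ (π zK) ≠ 1)
    (hd : finrank F V ≤ 4371) : BS (xt (σ.comp π)) (σ τ) :=
  ⟨br_of_rep h ht σ, by rwa [xt_apply _ z_memK], hd⟩

variable [NeZero (2 : F)] [FiniteDimensional F V] [FiniteDimensional F V']

theorem irr_B (h : KAm π τ) (ht : π tKK = 1) {σ : Representation F G V} (hz : σ (π zK) ≠ 1) (hd : finrank F V ≤ 4371)
    (p : Submodule F V) (hp : ∀ g, p ≤ p.comap (σ g)) : p = ⊥ ∨ p = ⊤ := by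
  by_contra! k
  have e1 := p.finrank_quotient_add_finrank
  have e2 := Submodule.finrank_lt k.2
  have e3 : finrank F p ≠ 0 := fun e => k.1 (Submodule.finrank_eq_zero.1 e)
  have a : σ.subrepresentation p hp (π zK) = 1 := by_contra fun a => by
    have := (bs_of_rep h ht a (by omega)).finrank_V; omega
  have b : σ.quotient p hp (π zK) = 1 := by_contra fun a => by
    have := (bs_of_rep h ht a (by omega)).finrank_V; omega
  refine hz (LinearMap.ext fun w => sub_eq_zero.1 (eq_zero_of_neg F ?_))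
  have hw : σ (π zK) w - w ∈ p := (Submodule.Quotient.eq p).1 (LinearMap.congr_fun b (p.mkQ w))
  have h2 : σ (π zK) (σ (π zK) w - w) = σ (π zK) w - w := congrArg Subtype.val (LinearMap.congr_fun a ⟨_, hw⟩)
  rw [map_sub, ← rep_mul, ← map_mul, zK_mul_self, map_one, map_one] at h2
  exact h2.symm.trans (neg_sub _ _).symm

theorem equiv_B (h : KAm π τ) (ht : π tKK = 1) (hg : Subgroup.closure (Set.range π ∪ {τ}) = ⊤)
    {σ : Representation F G V} {σ' : Representation F G V'} (hz : σ (π zK) ≠ 1) (hd : finrank F V ≤ 4371)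
    (hz' : σ' (π zK) ≠ 1) (hd' : finrank F V' ≤ 4371) : ∃ θ : V ≃ₗ[F] V', ∀ g x, θ (σ g x) = σ' g (θ x) := by
  obtain ⟨θ, h0, h1, h2⟩ := (bs_of_rep h ht hz hd).exists_hom (bs_of_rep h ht hz' hd')
  have h3 : ∀ g, Eqv θ (σ g) (σ' g) := fun g => ((Subgroup.closure_le ((rp_rep σ).eqv (rp_rep σ') θ)).2 (by
    rintro _ (⟨c, rfl⟩ | rfl)
    exacts [⟨trivial, by have := h1 c c.2; rwa [xt_apply _ c.2, xt_apply _ c.2] at this⟩, ⟨trivial, h2⟩]) (hg ▸ Subgroup.mem_top g)).2
  refine ⟨LinearEquiv.ofBijective θ ⟨LinearMap.ker_eq_bot.1 ((irr_B h ht hz hd _ fun g x a => ?_).resolve_right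
    (mt LinearMap.ker_eq_top.1 h0)), LinearMap.range_eq_top.1 ((irr_B h ht hz' hd' _ ?_).resolve_left
    (mt LinearMap.range_eq_bot.1 h0))⟩, h3⟩
  · exact (h3 g x).trans (by rw [show θ x = 0 from a, map_zero])
  · rintro g _ ⟨x, rfl⟩
    exact ⟨_, h3 g x⟩

/-- the representation given by matrices -/
noncomputable def matRep {n : ℕ} (ρ : G →* GL (Fin n) F) : Representation F G (Fin n → F) :=
  (Matrix.toLinAlgEquiv' : _ ≃ₐ[F] _).toMulEquiv.toMonoidHom.comp ((Units.coeHom _).comp ρ)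

omit [NeZero (2 : F)] in
theorem matRep_apply {n : ℕ} (ρ : G →* GL (Fin n) F) (g : G) (v : Fin n → F) :
    matRep ρ g v = (ρ g : Matrix (Fin n) (Fin n) F) *ᵥ v := rfl

omit [NeZero (2 : F)] in
theorem matRep_ne {n : ℕ} {ρ : G →* GL (Fin n) F} (hρ : Function.Injective ρ) {g : G} (hg : g ≠ 1) : matRep ρ g ≠ 1 :=
  fun e => hg (hρ (Units.ext (Matrix.toLinAlgEquiv'.injective (e.trans (map_one (matRep ρ)).symm))))

omit [NeZero (2 : F)] in
theorem core5587 [Finite G] [IsSimpleGroup G] {e : KU →* G} (hs : Function.Surjective e)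
    (hk : e.ker = Subgroup.zpowers (πK tKK)) (hF : ringChar F ≠ 2) :
    (∃ ρ : G →* GL (Fin 4371) F, Function.Injective ρ) ∧ ∀ ρ : G →* GL (Fin 4371) F, Function.Injective ρ →
      (∀ W : Submodule F (Fin 4371 → F), (∀ g, ∀ v ∈ W, (ρ g : Matrix (Fin 4371) (Fin 4371) F).mulVec v ∈ W) →
        W = ⊥ ∨ W = ⊤) ∧ ∀ ρ' : G →* GL (Fin 4371) F, Function.Injective ρ' →
        ∃ P : GL (Fin 4371) F, ∀ g, ρ' g = P * ρ g * P⁻¹ := by
  have h2 : (2 : F) ≠ 0 := Ring.two_ne_zero hF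
  have : NeZero (2 : F) := ⟨h2⟩
  have h := kam_KU.map e
  have ht : e.comp πK tKK = 1 := (hk ▸ Subgroup.mem_zpowers _ : _ ∈ e.ker)
  have hg : Subgroup.closure (Set.range (e.comp πK) ∪ {e τK}) = ⊤ := by
    rw [MonoidHom.coe_comp, Set.range_comp, ← Set.image_singleton, ← Set.image_union, ← MonoidHom.map_closure, gen_KU,
      Subgroup.map_top_of_surjective _ hs]
  have hz : e.comp πK zK ≠ 1 := fun a => let ⟨σ, b, _⟩ := exists_repB' mam_V hs hk
    b ((congrArg σ a).trans (map_one σ))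
  refine ⟨exists_GL_B mam_V hs hk F h2, fun ρ hρ => ⟨fun W hW => irr_B h ht (matRep_ne hρ hz) (finrank_fin_fun F).le W
    fun g v a => Submodule.mem_comap.2 (by rw [matRep_apply]; exact hW g v a),
    fun ρ' hρ' => ?_⟩⟩
  obtain ⟨θ, k⟩ := equiv_B h ht hg (matRep_ne hρ hz) (finrank_fin_fun F).le (matRep_ne hρ' hz) (finrank_fin_fun F).le
  refine ⟨⟨LinearMap.toMatrix' θ, LinearMap.toMatrix' θ.symm, by simp [← LinearMap.toMatrix'_comp],
    by simp [← LinearMap.toMatrix'_comp]⟩, fun g => eq_mul_inv_of_mul_eq (Units.ext (Matrix.toLin'.injective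
      (LinearMap.ext fun x => ?_)))⟩
  simpa [matRep_apply] using (k g x).symm

end CfsgLib.MonRep
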