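import Mathlib
import Cfsg.Agent.Lib.MonRep.W23b
import Cfsg.Agent.Lib.MonRep.UB
import Cfsg.Agent.Lib.MonRep.XD

/-!
The module of dimension 23 inside the lattice module; cohomology of the cyclic groups of coordinate permutations.
-/

set_option autoImplicit false

namespace CfsgLib.MonRep

open Module Cfsg CfsgLib.Mon CfsgLib.Leech CfsgLib.MType Finset MulAction Subgroup

variable {F W Γ : Type*} [Field F] [AddCommGroup W] [Module F W] [Group Γ] [NeZero (2 : F)]

variable (F) in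
/-- the image of a lattice vector -/
def lv (v : leechLattice) : GolayPt → F := fun i => (v.1 i : F)

variable (F) in
/-- the coordinates -/
def cd (j : GolayPt) : (GolayPt → F) →ₗ[F] F := LinearMap.proj j

omit [NeZero (2 : F)] in
@[simp] theorem cd_apply (j : GolayPt) (x : GolayPt → F) : cd F j x = x j := rfl

theorem eight_ne : (8 : F) ≠ 0 := by
  rw [show (8 : F) = 2 ^ 3 by norm_num]; exact pow_ne_zero _ two_ne_zero

theorem lv_ext {M : Type*} [AddCommGroup M] [Module F M] {φ ψ : (GolayPt → F) →ₗ[F] M}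
    (h : ∀ j, φ (lv F (e8 j)) = ψ (lv F (e8 j))) : φ = ψ := (Pi.basisFun F GolayPt).ext fun j => by
  have : Pi.basisFun F GolayPt j = (8 : F)⁻¹ • lv F (e8 j) := funext fun i => by
    by_cases e : i = j <;> simp [lv, coe_e8, e, eight_ne]
  rw [this, map_smul, map_smul, h]

variable (F) in
/-- the matrix of an automorphism -/
noncomputable def bM0 (g : Co0) : End F (GolayPt → F) := Matrix.toLin' fun i j => (8 : F)⁻¹ * lv F (g • e8 j) i

theorem bM0_lv (g : Co0) (v : leechLattice) : bM0 F g (lv F v) = lv F (g • v) := funext fun i => by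
  have := congrArg (Int.cast : ℤ → F) (eight_mul_smul_apply g v i)
  push_cast at this
  refine Eq.trans ?_ ((congrArg _ this).symm.trans (inv_mul_cancel_left₀ (eight_ne (F := F)) _))
  rw [mul_sum]
  exact sum_congr (s₁ := univ) (f := fun j => (8 : F)⁻¹ * lv F (g • e8 j) i * lv F v j) rfl fun j _ => by simp only [lv]; ring

variable (F) in
/-- the lattice module -/
noncomputable def bM : Representation F Co0 (GolayPt → F) where
  toFun := bM0 F
  map_one' := lv_ext fun j => by rw [bM0_lv, one_smul]; rfl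
  map_mul' g h := lv_ext fun j => by rw [bM0_lv, mul_smul, ← bM0_lv, ← bM0_lv h]; rfl

theorem bM_lv (g : Co0) (v : leechLattice) : bM F g (lv F v) = lv F (g • v) := bM0_lv g v

theorem bM_perm (σ : M24) (x : GolayPt → F) (j : GolayPt) : bM F (permAut σ) x j = x (σ⁻¹ • j) :=
  LinearMap.congr_fun (lv_ext (φ := cd F j ∘ₗ bM F (permAut σ)) (ψ := cd F (σ⁻¹ • j)) fun i => by
    simp only [LinearMap.comp_apply, bM_lv, cd_apply, lv, permAut_smul_apply]) x

theorem bM_sgn {c : Finset GolayPt} (hc : IsCW c) (x : GolayPt → F) (j : GolayPt) :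
    bM F (sgnAut c hc) x j = sF F (coc {j} c) * x j :=
  LinearMap.congr_fun (lv_ext (φ := cd F j ∘ₗ bM F (sgnAut c hc)) (ψ := sF F (coc {j} c) • cd F j) fun i => by
    simp only [LinearMap.comp_apply, bM_lv, cd_apply, lv, sgnAut_smul_apply, coc_singleton, LinearMap.smul_apply]
    split_ifs <;> simp) x

theorem bM_dot {g : Co0} (hg : g ∈ LL) (x : GolayPt → F) : bM F g x p∞ - bM F g x p₀ = x p∞ - x p₀ :=
  LinearMap.congr_fun (lv_ext (φ := (cd F p∞ - cd F p₀) ∘ₗ bM F g) (ψ := cd F p∞ - cd F p₀) fun i => by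
    have := dotInt_smul g (dlL p∞ p₀) (e8 i)
    rw [show g • dlL p∞ p₀ = _ from hg, dot_dl, dot_dl, mul_right_inj' (by norm_num)] at this
    simpa [bM_lv, lv] using congrArg (Int.cast : ℤ → F) this) x

variable (F) in
/-- the vectors orthogonal to `u` -/
def W0 : Submodule F (GolayPt → F) := LinearMap.ker (cd F p∞ - cd F p₀)

omit [NeZero (2 : F)] in
theorem mem_W0 {x : GolayPt → F} : x ∈ W0 F ↔ x p∞ - x p₀ = 0 := Iff.rfl

variable (F) in
/-- the projection along `u` -/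
noncomputable def pW : (GolayPt → F) →ₗ[F] W0 F :=
  (LinearMap.id - ((8 : F)⁻¹ • (cd F p∞ - cd F p₀)).smulRight (lv F (dlL p∞ p₀))).codRestrict _
    fun x => mem_W0.2 (by
      have := eight_ne (F := F)
      simp [lv, dlL_apply]; field_simp; ring)

theorem pW_apply (x : GolayPt → F) : (pW F x).1 = x - ((8 : F)⁻¹ * (x p∞ - x p₀)) • lv F (dlL p∞ p₀) := rfl

theorem pW_coe (x : W0 F) : pW F x.1 = x := Subtype.ext (by rw [pW_apply, mem_W0.1 x.2]; simp)

theorem pW_bM {g : Co0} (hg : g ∈ LL) (x : GolayPt → F) : (pW F (bM F g x)).1 = bM F g (pW F x).1 := by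
  rw [pW_apply, pW_apply, map_sub, map_smul, bM_lv, bM_dot hg, show g • dlL p∞ p₀ = _ from hg]

theorem wh_W0 : WH fun g => pW F ∘ₗ bM F g ∘ₗ (W0 F).subtype where
  one := LinearMap.ext fun x => by simp [pW_coe]
  mul g _ h hh := LinearMap.ext fun x => by simp [pW_bM hh, pW_coe]
  dim := Nat.le_of_lt_succ ((Submodule.finrank_lt (s := W0 F) fun e => by
    simpa [mem_W0] using (e ▸ Submodule.mem_top : Pi.single p∞ 1 ∈ W0 F)).trans_eq (by simp))
  ex0 := ⟨p₁, by decide, by decide, ⟨Pi.single p₁ 1, by simp [mem_W0, Pi.single_eq_of_ne (show p₀ ≠ p₁ by decide)]⟩,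
    mem_wx.2 fun d => Subtype.ext (by
    rw [LinearMap.comp_apply, LinearMap.comp_apply, pW_bM (eps_mem d), Submodule.subtype_apply, pW_coe]
    funext j
    by_cases e : j = p₁ <;> simp [eps, bM_sgn, e, chi]), fun e => by simpa using congrFun (congrArg Subtype.val e) p₁⟩

/-- the module lies inside the lattice module -/
structure Md (f : Γ →* Co0) (a : Representation F Γ W) (θ : W →ₗ[F] GolayPt → F) (P : (GolayPt → F) →ₗ[F] W) : Prop where
  mem : ∀ x, f x ∈ LL
  surj : ∀ g ∈ LL, ∃ x, f x = g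
  θ_app : ∀ x w, θ (a x w) = bM F (f x) (θ w)
  P_app : ∀ x v, P (bM F (f x) v) = a x (P v)
  P_θ : ∀ w, P (θ w) = w
  pr : ∀ w, θ w p∞ = θ w p₀

theorem exists_md [FiniteDimensional F W] {b : Co0 → End F W} (hb : WH b) {f : Γ →* Co0} {a : Representation F Γ W}
    (h1 : ∀ x, f x ∈ LL) (h2 : ∀ g ∈ LL, ∃ x, f x = g) (h3 : ∀ x w, a x w = b (f x) w) : ∃ θ P, Md f a θ P := by
  obtain ⟨e, he⟩ := hb.exists_ws
  obtain ⟨e', he'⟩ := (wh_W0 (F := F)).exists_ws
  obtain ⟨θ, t1, t2⟩ := he.exists_hom he'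
  obtain ⟨P, p1, p2⟩ := he'.exists_hom he
  refine ⟨(W0 F).subtype ∘ₗ θ, P ∘ₗ pW F, h1, h2, fun x w => ?_, fun x v => ?_, fun w => ?_,
    fun w => sub_eq_zero.1 (mem_W0.1 (θ w).2)⟩
  · simp [h3, t2 _ (h1 x) w, pW_bM (h1 x), pW_coe]
  · simp [h3, ← p2 _ (h1 x) _, ← pW_bM (h1 x), pW_coe]
  · simpa [pW_coe] using he.top_le (P := LinearMap.eqLocus (P ∘ₗ θ) LinearMap.id) (fun j => by simp [t1, p1]) (x := w) trivial

theorem exists_R0 {σ : M24} (hp : (orderOf σ).Prime) : ∃ R : End F (GolayPt → F), ∀ w, (∀ j, σ • j = j → w j = 0) →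
    ∑ i ∈ range (orderOf σ), bM F (permAut (σ ^ i)⁻¹) (R (bM F (permAut (σ ^ i)) w)) = w := by
  classical
  let r : GolayPt → GolayPt := fun j => (Quotient.mk (orbitRel (zpowers σ) GolayPt) j).out
  refine ⟨LinearMap.pi fun j => if j = r j then cd F j else 0, fun w hw => funext fun j => ?_⟩
  have r1 : ∀ i, r (σ ^ i • j) = r j := fun i => congrArg Quotient.out (Quotient.sound
    (show _ ∈ orbit (zpowers σ) j from ⟨⟨σ ^ i, npow_mem_zpowers σ i⟩, rfl⟩))
  have e : ∀ i, bM F (permAut (σ ^ i)⁻¹) ((LinearMap.pi fun j => if j = r j then cd F j else 0 :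
      End F (GolayPt → F)) (bM F (permAut (σ ^ i)) w)) j = if σ ^ i • j = r j then w j else 0 := fun i => by
    rw [bM_perm, inv_inv, LinearMap.pi_apply, r1]; split_ifs <;> simp [bM_perm]
  simp only [Finset.sum_apply, e]
  by_cases h : σ • j = j
  · simp [hw j h]
  obtain ⟨⟨g, hg⟩, e1⟩ : r j ∈ orbit (zpowers σ) j := Quotient.exact (Quotient.out_eq (Quotient.mk (orbitRel (zpowers σ) GolayPt) j))
  obtain ⟨i, rfl⟩ := mem_powers_iff_mem_zpowers.2 hg
  have e2 : σ ^ (i % orderOf σ) • j = r j := by rw [pow_mod_orderOf]; exact e1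
  have e3 : period σ j = orderOf σ := (hp.eq_one_or_self_of_dvd _ (period_dvd_orderOf σ j)).resolve_left
    (mt period_eq_one_iff.1 h)
  rw [sum_eq_single_of_mem (i % orderOf σ) (mem_range.2 (Nat.mod_lt _ hp.pos)), if_pos e2]
  refine fun k hk hne => if_neg fun e4 => hne ((Function.iterate_eq_iterate_iff_of_lt_minimalPeriod (f := (σ • ·)) (x := j)
    ((mem_range.1 hk).trans_eq e3.symm) ((Nat.mod_lt _ hp.pos).trans_eq e3.symm)).1 ?_)
  rw [smul_iterate, smul_iterate]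
  exact e4.trans e2.symm

/-- an element of prime order and a normalising element -/
structure PD (σ ν : M24) (p k : ℕ) : Prop where
  prime : p.Prime
  ord : orderOf σ = p
  conj : ν * σ * ν⁻¹ = σ ^ k
  fix : ∀ j : GolayPt, σ • j = j → ν • j = j

/-- conjugates of permutations -/
noncomputable def cj (c : Co0) : M24 →* Co0 := (MulAut.conj c).toMonoidHom.comp permHom

theorem cj_apply (c : Co0) (σ : M24) : cj c σ = c * permAut σ * c⁻¹ := rfl

theorem orderOf_cj (c : Co0) (σ : M24) : orderOf (cj c σ) = orderOf σ :=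
  orderOf_injective _ ((MulAut.conj c).injective.comp permHom_injective) σ

namespace Md

variable {f : Γ →* Co0} {a : Representation F Γ W} {θ : W →ₗ[F] GolayPt → F} {P : (GolayPt → F) →ₗ[F] W} (h : Md f a θ P)
  {c : Co0} {σ ν : M24} {p k : ℕ} {x n : Γ} {S : Subgroup Co0} {D δ : Γ → W}
include h

theorem inj : Function.Injective θ := Function.LeftInverse.injective h.P_θ

theorem triv (x : Γ) (hx : f x = 1) (m : W) : a x m = m := h.inj (by simp [h.θ_app, hx])

theorem cd_cj (hx : f x = cj c σ) (w : W) : bM F c⁻¹ (θ (a x w)) = bM F (permAut σ) (bM F c⁻¹ (θ w)) := by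
  rw [h.θ_app, hx, cj_apply, ← rmul, ← rmul]; congr 2; group

theorem cd_fix (hx : f x = cj c σ) {j : GolayPt} (hj : σ • j = j) (w : W) :
    (cd F j ∘ₗ bM F c⁻¹ ∘ₗ θ) (a x w) = (cd F j ∘ₗ bM F c⁻¹ ∘ₗ θ) w := by
  simp only [LinearMap.comp_apply, cd_apply, h.cd_cj hx, bM_perm, inv_smul_eq_iff.2 hj.symm]

theorem exists_R (hp : (orderOf σ).Prime) (hx : f x = cj c σ) : ∃ R : End F W, ∀ w,
    (∀ j, σ • j = j → bM F c⁻¹ (θ w) j = 0) → ∑ i ∈ range (orderOf σ), a (x ^ i)⁻¹ (R (a (x ^ i) w)) = w := by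
  obtain ⟨R, hR⟩ := exists_R0 (F := F) hp
  refine ⟨P ∘ₗ bM F c ∘ₗ R ∘ₗ bM F c⁻¹ ∘ₗ θ, fun w hw => ?_⟩
  have := congrArg (fun v => P (bM F c v)) (hR _ hw)
  simp only [map_sum, Representation.self_inv_apply, h.P_θ] at this
  refine Eq.trans (sum_congr rfl fun i _ => ?_) this
  simp only [LinearMap.comp_apply]
  rw [← h.P_app, h.cd_cj (σ := σ ^ i) (by rw [map_pow, hx, map_pow]), map_inv, map_pow, hx, ← map_pow, ← map_inv, cj_apply,
    ← rmul, inv_mul_cancel_right, rmul]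

theorem xt_cyc (hd : PD σ ν p k) (hp : (p : F) = 0) (hk : (k : F) ≠ 1) (h1 : cj c σ ∈ LL) (h2 : cj c ν ∈ LL)
    (hδ : Dl f a δ) : Xt f a δ (zpowers (cj c σ)) := by
  obtain ⟨x, hx⟩ := h.surj _ h1
  obtain ⟨n, hn⟩ := h.surj _ h2
  obtain rfl := hd.ord
  have o : f x ^ orderOf σ = 1 := by rw [hx, ← map_pow, pow_orderOf_eq_one, map_one]
  have w1 : ∀ i, a (x ^ i) (δ (x ^ orderOf σ)) = δ (x ^ orderOf σ) := fun i => by
    rw [← hδ.conj _ _ (by rwa [map_pow]), pow_mul_comm, mul_inv_cancel_right]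
  obtain ⟨R, hR⟩ := h.exists_R hd.prime hx
  have := congrArg (a (x ^ (orderOf σ - 1))) (hR (δ (x ^ orderOf σ)) fun j hj => by
    have := hδ.norm hp o (n := n) (k := k) (by rw [hx, hn, ← map_inv, ← map_mul, ← map_mul, hd.conj, map_pow]) (h.cd_fix hx hj)
    rw [h.cd_fix hn (hd.fix j hj)] at this
    exact (mul_left_eq_self₀.1 this.symm).resolve_left hk)
  simp only [w1, map_sum] at this
  rw [← hx]
  refine Xt.cyc hδ (y := R (δ (x ^ orderOf σ))) ?_
  rw [hx, orderOf_cj, ← sum_range_reflect]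
  refine this.symm.trans (sum_congr rfl fun i hi => ?_)
  rw [← rmul, ← pow_sub _ (Nat.le_sub_one_of_lt (mem_range.1 hi))]

theorem inn_cyc (hd : PD σ ν p k) (hp : (p : F) = 0) (hk : (k : F) ≠ 1) (h1 : cj c σ ∈ S) (h2 : cj c ν ∈ S) (hS : S ≤ LL)
    (hD : Der f a S D) (h0 : ∀ x, f x = 1 → D x = 0) : Inn f a (zpowers (cj c σ)) D := by
  obtain ⟨x, hx⟩ := h.surj _ (hS h1)
  obtain ⟨n, hn⟩ := h.surj _ (hS (inv_mem h2))
  obtain rfl := hd.ord
  obtain ⟨R, hR⟩ := h.exists_R hd.prime hx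
  have e := hR (D x) fun j hj => by
    have := hD.norm h.triv h0 (hx ▸ h1) (hn ▸ inv_mem h2) (k := k)
      (by rw [hx, hn, inv_inv, ← map_inv, ← map_mul, ← map_mul, hd.conj, map_pow]) (h.cd_fix hx hj)
      (h.cd_fix (σ := ν⁻¹) (hn.trans (map_inv _ _).symm) (inv_smul_eq_iff.2 (hd.fix j hj).symm))
    exact (mul_left_eq_self₀.1 this.symm).resolve_left hk
  have e0 := congrArg R (hD.pow (hx ▸ h1) (orderOf σ))
  rw [h0 _ (by rw [map_pow, hx, ← map_pow, pow_orderOf_eq_one, map_one]), map_zero, map_sum] at e0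
  have e1 : ∀ i z, z - a (x ^ i) z ∈ LinearMap.range (1 - a x) := fun i z => by
    induction i with
    | zero => simp
    | succ i ih => simpa [pow_succ'] using add_mem ih ⟨a (x ^ i) z, rfl⟩
  obtain ⟨m, hm⟩ : D x ∈ LinearMap.range (1 - a x) := by
    rw [← e, ← sub_zero (Finset.sum _ _), e0, ← sum_sub_distrib]
    exact Submodule.sum_mem _ fun i _ => by simpa [-map_pow] using e1 i (a (x ^ i)⁻¹ (R (a (x ^ i) (D x))))
  exact hx ▸ hD.cyc h.triv h0 (hx ▸ h1) hm.symm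

theorem eq_zero {m : W} (hm : ∀ j, j ≠ p∞ → j ≠ p₀ → ∃ σ : M24, σ • p∞ = p₀ ∧ σ • j = j ∧
    ∃ x, f x = negAut * permAut σ ∧ a x m = m) : m = 0 := by
  have k : ∀ σ : M24, ∀ x, f x = negAut * permAut σ → a x m = m → ∀ j, θ m (σ • j) = -θ m j := fun σ x e e' j => by
    conv_lhs => rw [← e', h.θ_app, e, rmul, negAut, bM_sgn, bM_perm]
    simp [coc_singleton]
  obtain ⟨σ, s1, -, x, s2, s3⟩ := hm p₁ (by decide) (by decide)
  have k0 := k σ x s2 s3 p∞
  rw [s1, h.pr] at k0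
  refine h.inj (funext fun j => ?_)
  rw [map_zero]
  by_cases j1 : j = p∞
  · exact j1 ▸ h.pr m ▸ eq_zero_of_neg F k0
  by_cases j2 : j = p₀
  · exact j2 ▸ eq_zero_of_neg F k0
  obtain ⟨σ, -, s1, x, s2, s3⟩ := hm j j1 j2
  exact eq_zero_of_neg F (s1 ▸ k σ x s2 s3 j :)

end Md

end CfsgLib.MonRep
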