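import Mathlib
import Cfsg.Agent.Lib.MonRep.XM
import Cfsg.Agent.Lib.Leech.Conf3
import Cfsg.Agent.Lib.Leech.Enum

/-!
The second cohomology of `Co₂` on the module of dimension 23 vanishes in characteristic other than 2 and 3.
-/

set_option autoImplicit false

namespace CfsgLib.MonRep

open Module Cfsg Cfsg.Spor CfsgLib.Mon CfsgLib.Leech CfsgLib.MType CfsgLib.Golay CfsgLib.Mathieu MulAction Subgroup

theorem smul_of_code {σ : M24} {a : ℕ} (h : code σ = a) {j k : GolayPt} (e : app a (ix j) = ix k) : σ • j = k :=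
  ptEquiv.injective (Fin.ext ((app_code_ix σ j).symm.trans (h ▸ e)))

theorem fix_toL {σ : M24} {a c : ℕ} (h : code σ = a) (hc : chkN c = true) (e : comp c a = c) : permAut σ • toL c = toL c :=
  Subtype.ext (funext fun j => by
    obtain ⟨j, rfl⟩ := MulAction.surjective σ j
    have : app (comp c a) (ix j) = app c (app a (ix j)) := app_pack (fun i _ => app_lt _ _) (ix_lt j)
    rw [e, ← h, app_code_ix, app_eq, app_eq, pow_mul, pow_mul] at this
    rw [permAut_smul_apply_smul, coe_toL hc]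
    exact congrArg (fun n : ℕ => (n : ℤ) - 16) this)

/-- the test for `PD` -/
noncomputable def pdOK (a b p k : ℕ) : Bool := inM24 a && inM24 b && Nat.beq (cpow a p) idc && !Nat.beq a idc &&
  Nat.beq (comp b a) (comp (cpow a k) b) && allLT 24 fun i => !Nat.beq (app a i) i || Nat.beq (app b i) i

theorem exists_pd {a b p k : ℕ} (h : pdOK a b p k = true) (hp : p.Prime) :
    ∃ σ ν : M24, code σ = a ∧ code ν = b ∧ PD σ ν p k := by
  simp only [pdOK, Bool.and_eq_true, Nat.beq_eq, Bool.not_eq_true', ← Bool.not_eq_true] at h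
  obtain ⟨⟨⟨⟨⟨h1, h2⟩, h3⟩, h4⟩, h5⟩, h6⟩ := h
  obtain ⟨σ, hσ, rfl⟩ := has_M24 h1
  obtain ⟨ν, hν, rfl⟩ := has_M24 h2
  have := Fact.mk hp
  refine ⟨⟨σ, hσ⟩, ⟨ν, hν⟩, rfl, rfl, hp, orderOf_eq_prime (Subtype.ext (code_eq_idc.1 ((code_pow σ p).trans h3)))
    fun e => h4 (code_eq_idc.2 (congrArg Subtype.val e)), mul_inv_eq_of_eq_mul (Subtype.ext (code_injective ?_)), fun j hj => ?_⟩
  · simpa only [coe_mul, SubmonoidClass.coe_pow, code_mul, code_pow] using h5
  · have := of_allLT h6 (ix_lt j)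
    rw [app_code_ix, show σ j = j from hj] at this
    exact smul_of_code rfl (by simpa using this)

theorem PD.cnj {σ ν : M24} {p k : ℕ} (h : PD σ ν p k) (τ : M24) : PD (τ * σ * τ⁻¹) (τ * ν * τ⁻¹) p k :=
  ⟨h.prime, (orderOf_injective (MulAut.conj τ).toMonoidHom (MulAut.conj τ).injective σ).trans h.ord,
    by rw [conj_pow, ← h.conj]; group, fun j hj => by
      rw [mul_smul, mul_smul, smul_eq_iff_eq_inv_smul] at hj ⊢; exact h.fix _ hj⟩

/-- the vertices of the Higman-Sims graph -/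
def S100 : Set leechLattice := {x | sqNorm x.1 = 32 ∧ dotInt leechV.1 x.1 = -24 ∧ dotInt leechU'.1 x.1 = 0}

/-- their codes -/
def L100 : List ℕ := [
  0x8b6318c6318c6318c6318c6318c631, 0x8c5b18c6318c6318c6318c6318c631, 0x8c62d8c6318c6318c6318c6318c631,
  0x8c6316c6318c6318c6318c6318c631, 0x8c6318b6318c6318c6318c6318c631, 0x8c6318c5b18c6318c6318c6318c631,
  0x8c6318c62d8c6318c6318c6318c631, 0x8c6318c6316c6318c6318c6318c631, 0x8c6318c6318b6318c6318c6318c631,
  0x8c6318c6318c5b18c6318c6318c631, 0x8c6318c6318c62d8c6318c6318c631, 0x8c6318c6318c6316c6318c6318c631,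
  0x8c6318c6318c6318b6318c6318c631, 0x8c6318c6318c6318c5b18c6318c631, 0x8c6318c6318c6318c62d8c6318c631,
  0x8c6318c6318c6318c6316c6318c631, 0x8c6318c6318c6318c6318b6318c631, 0x8c6318c6318c6318c6318c5b18c631,
  0x8c6318c6318c6318c6318c62d8c631, 0x8c6318c6318c6318c6318c6316c631, 0x8c6318c6318c6318c6318c6318b631,
  0x8c6318c6318c6318c6318c6318c5b1, 0x94210842108421094a1084a5284a12, 0x94210842108425084a1284a1094252,
  0x942108421084a1294a508421094212, 0x942108421094210842129425284252, 0x942108421094250942109421094a12,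
  0x942108421284a1084a129421084a12, 0x942108421294252842528421084212, 0x942108421294a109421084a1084252,
  0x9421084250842128425084a1284252, 0x942108425084a10842108425094a52, 0x942108425084a50942128421284212,
  0x9421084252842508421094a5084212, 0x94210842529421084a108421294212, 0x9421084a1084212942128421084a52,
  0x9421084a1084252842108425294212, 0x9421084a1084a508425084a1084a12, 0x9421084a109421284a1094a1084212,
  0x9421084a1284210842509421094252, 0x9421084a508421084a528425084212, 0x94210942108425084a509421284212,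
  0x9421094210942108425084a5094212, 0x942109421094a12842108421284a12, 0x94210942128421284a108425084252,
  0x942109425084212842129421094212, 0x942109425284210942508421084a12, 0x9421094a1084a10942109425084212,
  0x9421094a12842108421284a1284212, 0x9421094a5094250842108421084252, 0x9421284210842109425294a1084212,
  0x942128421084a52842109421084252, 0x94212842109421084a508421084a52, 0x9421284212842128421084a1094a12,
  0x942128421284a10842508425284212, 0x942128425094212942108425084212, 0x9421284a1094a10842128421094212,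
  0x9421284a128425094a108421084212, 0x9421284a5084210842109421284a12, 0x942129421084210942108421294252,
  0x942129421084250842128425084a12, 0x942129425084a1084a1084a1084212, 0x942508421084210842528421294a12,
  0x942508421084250942508425084252, 0x942508421084a128421284a5084212, 0x942508421284212942109421284212,
  0x94250842508425284a108421084a12, 0x942508425094a10842509421084212, 0x9425084a1084a1084a108421284252,
  0x9425084a1294210842108425084a12, 0x9425084a50842109421084a1094212, 0x9425094210842108421094a1084a52,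
  0x94250942109421094a128421084212, 0x942509421284a50842108421094212, 0x94252842108421084a109425094212,
  0x9425284210942508421084a1284212, 0x942528425284210842128421084252, 0x9425294a1084212842508421084212,
  0x94a108421084212842509425084a12, 0x94a108421084a108421094a1294212, 0x94a108421094a5084a108425084212,
  0x94a108421284210942128425094212, 0x94a108421284250842108421284a52, 0x94a10842508421094a109421084252,
  0x94a1084250942108421284a1084a12, 0x94a1084a1094210942508421284212, 0x94a1084a5284a12842108421084212,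
  0x94a1094210842529421084a1084212, 0x94a109421084a10842528421084252, 0x94a1094a108421084a108421094a12,
  0x94a12842108421284a128421284212, 0x94a128425084250842508421094212, 0x94a1284a10842108421084a5084252,
  0x94a129421294210842109421084212, 0x94a508421094212842108421094252, 0x94a50842128421084a5084a1084212,
  0x94a5084a1084250842129421084212, 0x94a509425084210842108425284212, 0x94a528421084a10942108421084a12,
  0xa42108421084210842108421084214]

/-- involutions interchanging `∞` and `0` -/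
def I43 : List ℕ := [
  0x58cf98d70a20858a92e3d58d90837, 0x163424ab073d425b4e849ad31b037, 0x4eb0b2a343b9666c9287b0a410c37,
  0x56ce8ca697d1ac11a083a8851ac37, 0x5a72ad22d40e0952d8f398a470837, 0x5aa82ba301c84c3a8d45a6647b437,
  0x19349c9ea89dac5c2a2758a322037, 0x20ea9b62b7ba4485136a986c28837, 0x5aa2410e67b8a35a9338c1b265037,
  0x3649654707bad332a8742ca488837, 0x32a49c64e7c1b65a0aa1193419c37, 0x4ab415a11231ae48d68398af54c37,
  0x50569c9b07ae2a73064398a84d437, 0xeb150a907992c5cda8238a7b4837, 0x3eb49a510b35cc216513894b19837,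
  0x58a39be22921a659d2e532a4a4037, 0x4c8fb48a7a38cb629288363518837, 0x2eb4312284b98db29f03cc7228837,
  0x5a147163514c643a92859a4c6bc37, 0x59ed44232aba8c52d333904619437, 0x4133a31d63c5b259aa87a8a418837,
  0x9cb9c9f08d5a5a28e64a1841d837, 0x58656ca2e7c26c59c8251a89aa037, 0x351459e30516c69bd35931c418837,
  0x5a4c4d5622b9b48aa6838de434037, 0x52b63c86f83928591ac998aa88837, 0x3a959ca306d9ec11528191463ac37,
  0x59a67494324ea25c5283d0af83037, 0xea99c9a57922c42a8b31e0eb0837, 0x40d49c6567b1ae1a5453d50458837,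
  0x597441864539a7abd33648b088837, 0x59d41c8ed4d6085a9ec894c498837, 0x586a72ccd7ce0c951282c4e4a8837,
  0x21a499c5033aaa5b13693cb41c437, 0x5945449905b8517d53319a843b437, 0x4ca7b088f839ac58d28a1ab154837,
  0x58869ca2c6b9f03a9095d0b510c37, 0x1daf82233a0eac5a932b10a670837, 0x2c4e9be25951acb288339a0945437,
  0x56d4220a67b8ec5a5526c23318837, 0x598994e24795b53aa865a1d018837, 0x1e53a562f839095a98db184419437,
  0x1eb07ca34991a25a8a8b0d2e33037]

/-- the involutions fixing a vector -/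
noncomputable def fm (c : ℕ) (l : List ℕ) : ℕ := l.rec 0 fun a _ ih => Nat.bit (Nat.beq (comp c a) c) ih

/-- the values of `fm` -/
def M100 : List ℕ := [
  0x115c94c8131, 0x40012026d24, 0x80e0864842, 0x523420d4c1, 0x4149e61104a, 0x77004ce80b4, 0x604a07223, 0x18130403788,
  0x29e430b0384, 0x54861308c48, 0xe914486068, 0x6aa8a50a542, 0x77091270321, 0x2f4c8d8185, 0x4090d15280e,
  0x40290a5819, 0x24c02441c92, 0x324a103a54, 0x205a1b08234, 0x38200b9440a, 0x1a1f2930291, 0x7ffffffffff,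
  0x22086184218, 0x74801350c0a, 0x2aa20091910, 0x129103a1c, 0x1942414042c, 0x1438641, 0x21986022018, 0x28e02403782,
  0x26d04cc80b4, 0x3b2429b0294, 0x6081110d005, 0xc190011910, 0x3084aa00a60, 0x4a99e51204a, 0x3601c9, 0xc420160a0,
  0x4250d0900c, 0x60ca9500b, 0x4b02c054404, 0xc02360a003, 0x402810214a0, 0x48138040a82, 0x7214207261, 0x44c6084308,
  0x2205808889, 0x1130a841060, 0x1a4442a1102, 0x550346094c8, 0x11818240a22, 0xc8610a4848, 0x1a1f0870381,
  0x4900980c106, 0x54650c0060c, 0xa401612041, 0xe00001803b, 0x401802800d6, 0xaa0822510, 0x282a0b0c442, 0x20460580960,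
  0x25108162088, 0x5100d11044, 0x42a4a10ad44, 0x108a2a0a805, 0x110400560a0, 0x56618021022, 0x803a01c6, 0x61493230324,
  0x248130cb200, 0x60163400603, 0x4032025c91, 0x40450882510, 0x2388644410, 0xd0442c880, 0x322c090c01, 0x40004866826,
  0x30015104250, 0x62148280413, 0x62415082050, 0x11045804302, 0x4238122082, 0x105e1b08231, 0x770894e8131,
  0x103006440d0, 0x458842c900, 0x1424580c20, 0x4800c38644, 0x1f4d0d8185, 0x11890212805, 0x3830414a0, 0x100528cb200,
  0x14ca441852, 0x62822115005, 0x18110486528, 0x8420140169, 0x6a209800a88, 0x980001803e, 0xc0c6221108, 0x7ffffffffff]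

theorem fm_spec {c c' : ℕ} {l : List ℕ} (h : fm c l &&& fm c' l ≠ 0) : ∃ a ∈ l, comp c a = c ∧ comp c' a = c' := by
  induction l with
  | nil => exact absurd (Nat.zero_and 0) h
  | cons a l ih =>
    by_contra! k
    refine h ((Nat.land_bit _ _ _ _).trans (Nat.bit_eq_zero_iff.2 ⟨by_contra fun e => ?_, ?_⟩))
    · obtain ⟨b, hb, e⟩ := ih e
      exact k b (List.mem_cons_of_mem _ hb) e.1 e.2
    · simpa [← Bool.not_eq_true] using k a List.mem_cons_self

theorem exists_L100 : ∀ x ∈ S100, ∃ c ∈ L100, toL c = x :=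
  exists_mem_list (finite_of_norm fun _ h => h.1) L100 (by decide +kernel) (fun c hc => by
    obtain ⟨h1, h2⟩ := (by decide +kernel : ∀ c ∈ L100, chkN c = true ∧ dotN c c = 32 ∧
      dotN 0x5bdef7bdef7bdef7bdef7bdef7bdef c = -24 ∧ dotN 0xa4210842108421084210842108420c c = 0) c hc
    exact ⟨h1, by rwa [S100, Set.mem_ofPred, sqNorm_toL h1, dot_V_toL h1, dot_U'_toL h1]⟩) (ncard_100.le.trans (by decide))

theorem fix_VU {σ : M24} (h1 : σ • p∞ = p∞) (h2 : σ • p₀ = p₀) :
    permAut σ ∈ stabilizer Co0 leechV ⊓ stabilizer Co0 leechU ⊓ stabilizer Co0 leechU' :=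
  stab_V_U_U' ▸ ⟨σ, (mem_fixingSubgroup_iff _).2 (by simp [h1, h2]), rfl⟩

theorem S100_smul {σ : M24} (h1 : σ • p∞ = p∞) (h2 : σ • p₀ = p₀) {x : leechLattice} (h : x ∈ S100) : permAut σ • x ∈ S100 :=
  ⟨by rw [sqNorm_smul, h.1], by rw [dot_smul_of_fix (fix_VU h1 h2).1.1, h.2.1], by rw [dot_smul_of_fix (fix_VU h1 h2).2, h.2.2]⟩

theorem exists_swap {y z : leechLattice} (hy : y ∈ S100) (hz : z ∈ S100) {j : GolayPt} (h1 : j ≠ p∞) (h2 : j ≠ p₀) :
    ∃ σ : M24, σ • p∞ = p₀ ∧ σ • p₀ = p∞ ∧ σ • j = j ∧ permAut σ • y = y ∧ permAut σ • z = z := by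
  obtain ⟨τ, t1, t2, t3⟩ := exists_M22 h1 h2 (k := p₁) (by decide) (by decide)
  obtain ⟨c, hc, e⟩ := exists_L100 _ (S100_smul t1 t2 hy)
  obtain ⟨c', hc', e'⟩ := exists_L100 _ (S100_smul t1 t2 hz)
  have k : ∀ c ∈ L100, fm c I43 ∈ M100 := fun c hc =>
    (by decide +kernel : L100.map (fm · I43) = M100) ▸ List.mem_map_of_mem hc
  obtain ⟨a, ha, e1, e2⟩ := fm_spec ((by decide +kernel : ∀ x ∈ M100, ∀ y ∈ M100, x &&& y ≠ 0) _ (k c hc) _ (k c' hc'))
  obtain ⟨a1, a2, a3, a4⟩ := (by decide +kernel : ∀ a ∈ I43, inM24 a = true ∧ app a (ix p∞) = ix p₀ ∧ app a (ix p₀) = ix p∞ ∧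
    app a (ix p₁) = ix p₁) a ha
  obtain ⟨σ, hσ, rfl⟩ := has_M24 a1
  have k1 : ∀ c ∈ L100, chkN c = true := by decide +kernel
  have f1 := fix_toL (σ := ⟨σ, hσ⟩) rfl (k1 c hc) e1
  have f2 := fix_toL (σ := ⟨σ, hσ⟩) rfl (k1 c' hc') e2
  rw [e] at f1
  rw [e'] at f2
  refine ⟨τ⁻¹ * ⟨σ, hσ⟩ * τ, ?_, ?_, ?_, ?_, ?_⟩ <;>
    simp only [permAut_mul, permAut_inv, mul_smul, inv_smul_eq_iff, t1, t2, t3, f1, f2]
  exacts [smul_of_code rfl a2, smul_of_code rfl a3, smul_of_code rfl a4]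

theorem exists_d10 {y : leechLattice} (hy : y ∈ S100) : ∃ σ ν, PD σ ν 5 4 ∧ σ • p∞ = p∞ ∧ σ • p₀ = p₀ ∧
    permAut σ • y = y ∧ permAut ν • y = y := by
  obtain ⟨σ, ν, h1, h2, h⟩ := exists_pd (a := 0xb8ed38510eaca2f518e96916560820) (b := 0xbd872750f064daf52d09894c4a8820)
    (k := 4) (by decide +kernel) Nat.prime_five
  have s1 : σ • p∞ = p∞ := smul_of_code h1 (by decide +kernel)
  have s2 : σ • p₀ = p₀ := smul_of_code h1 (by decide +kernel)
  obtain ⟨i, hi⟩ := part100.2.2 y hy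
  obtain ⟨g, hg, rfl⟩ := (part100.2.1 i y).2 ⟨hy, hi⟩
  obtain ⟨τ, hτ, rfl⟩ := stab_V_U_U'.le (mem_inf.2 ⟨mem_inf.2 ⟨hg.1.1, hg.2⟩, hg.1.2⟩)
  have t1 : τ⁻¹ • p∞ = p∞ := inv_smul_eq_iff.2 ((mem_fixingSubgroup_iff _).1 hτ _ (by simp)).symm
  have t2 : τ⁻¹ • p₀ = p₀ := inv_smul_eq_iff.2 ((mem_fixingSubgroup_iff _).1 hτ _ (by simp)).symm
  have e : permAut σ • rep100 i = rep100 i ∧ permAut ν • rep100 i = rep100 i := by
    fin_cases i
    · exact ⟨(fix_VU s1 s2).1.2, (fix_VU (h.fix _ s1) (h.fix _ s2)).1.2⟩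
    all_goals exact ⟨fix_toL h1 (by decide +kernel) (by decide +kernel), fix_toL h2 (by decide +kernel) (by decide +kernel)⟩
  refine ⟨_, _, h.cnj τ, ?_, ?_, ?_, ?_⟩ <;>
    simp only [permAut_mul, permAut_inv, mul_smul, permHom_apply, inv_smul_smul, t1, t2, s1, s2, e, smul_eq_iff_eq_inv_smul τ]

theorem dl_eq : dlL p∞ p₀ = leechU' := Subtype.ext (funext fun j => by rw [dlL_apply]; revert j; decide +kernel)

/-- the group `HS : 2` -/
def HH2 : Subgroup Co0 := LL ⊓ pm (leechV + leechV + leechU')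

/-- the group `M₂₂ : 2` -/
def HH0 : Subgroup Co0 := HH2 ⊓ pm leechU

theorem HS_le : stabilizer Co0 leechV ⊓ stabilizer Co0 leechU' ≤ HH2 := fun g h =>
  ⟨by rw [LL, dl_eq]; exact h.2, Or.inl (by rw [smul_add, smul_add, h.1, h.2])⟩

theorem perm_HH0 {σ : M24} (h1 : σ • p∞ = p∞) (h2 : σ • p₀ = p₀) : permAut σ ∈ HH0 :=
  ⟨HS_le ⟨(fix_VU h1 h2).1.1, (fix_VU h1 h2).2⟩, Or.inl (fix_VU h1 h2).1.2⟩

theorem swap_smul {σ : M24} (h1 : σ • p∞ = p₀) (h2 : σ • p₀ = p∞) {v w : leechLattice} (e1 : w.1 p₀ = v.1 p∞)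
    (e2 : w.1 p∞ = v.1 p₀) (e : ∀ i j, i ≠ p∞ → i ≠ p₀ → j ≠ p∞ → j ≠ p₀ → w.1 j = v.1 i) : permAut σ • v = w :=
  Subtype.ext (funext fun j => by
    obtain ⟨j, rfl⟩ := MulAction.surjective σ j
    beta_reduce
    rw [permAut_smul_apply_smul]
    by_cases a : j = p∞
    · rw [a, h1, e1]
    by_cases b : j = p₀
    · rw [b, h2, e2]
    exact (e _ _ a b (mt (fun k => smul_left_cancel σ (k.trans h2.symm)) b) (mt (fun k => smul_left_cancel σ (k.trans h1.symm)) a)).symm)

theorem neg_HH0 {σ : M24} (h1 : σ • p∞ = p₀) (h2 : σ • p₀ = p∞) : negAut * permAut σ ∈ HH0 := by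
  refine ⟨⟨mem_stabilizer_iff.2 ?_, Or.inr ?_⟩, Or.inr ?_⟩ <;> rw [mul_smul, negAut_smul]
  · rw [dl_eq, swap_smul h1 h2 (w := -leechU') rfl rfl (by decide +kernel), neg_neg]
  all_goals exact congrArg _ (swap_smul h1 h2 rfl rfl (by decide +kernel))

theorem HH0_le : HH0 ≤ monoGrp := fun g h => by
  have h1 : g • leechU' = leechU' := dl_eq ▸ h.1.1
  rcases h.2 with e | e
  · exact mem_monoGrp_of_smul_e8 g (a := p∞) (b := p∞) (Or.inl (by rw [← Leech.U_add_U', smul_add, e, h1]))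
  · exact mem_monoGrp_of_smul_e8 g (a := p∞) (b := p₀) (Or.inr (by
      rw [← Leech.U_add_U', smul_add, e, h1]; exact Subtype.ext (by decide +kernel)))

theorem exists_S100 {g : Co0} (hg : g ∈ HH2) : ∃ y ∈ S100, ∀ h ∈ HH0, h ∈ pm y → h ∈ Jn HH0 g := by
  have h1 : g • leechU' = leechU' := dl_eq ▸ hg.1
  have h2 : dotInt leechU'.1 (g • leechU).1 = 0 := by rw [dot_smul_of_fix h1]; decide +kernel
  have h3 := dotInt_smul g (leechV + leechV + leechU') leechU
  have h4 : dotInt (leechV + leechV + leechU').1 leechU.1 = -48 := by decide +kernel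
  have k : ∀ h ∈ HH0, h ∈ pm (g • leechU) → h ∈ Jn HH0 g := fun h a b =>
    mem_Jn.2 ⟨a, HH2.mul_mem (HH2.mul_mem (HH2.inv_mem hg) a.1) hg, by rcases b with b | b <;> simp [pm, mul_smul, b]⟩
  rcases hg.2 with e | e <;> rw [e, h4] at h3 <;>
    simp only [AddSubgroup.coe_neg, AddSubgroup.coe_add, Leech.dotInt_neg_left, Leech.dotInt_add_left, h2] at h3
  · exact ⟨_, ⟨by rw [sqNorm_smul, Leech.sqNorm_U], by omega, h2⟩, k⟩
  · exact ⟨-(g • leechU), ⟨by rw [AddSubgroup.coe_neg, sqNorm_neg, sqNorm_smul, Leech.sqNorm_U],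
      by rw [AddSubgroup.coe_neg, Leech.dotInt_neg_right]; omega, by rw [AddSubgroup.coe_neg, Leech.dotInt_neg_right, h2, neg_zero]⟩,
      fun h a b => k h a (by simpa [pm, neg_eq_iff_eq_neg] using b)⟩

theorem card_LL : Nat.card LL = 42305421312000 := card_stabilizer_32 _ (sqNorm_dlL pr0)

theorem cj_one (σ : M24) : cj 1 σ = permAut σ := by simp [cj_apply]

variable {F W Γ : Type*} [Field F] [AddCommGroup W] [Module F W] [Group Γ] [NeZero (2 : F)]
  {f : Γ →* Co0} {a : Representation F Γ W} {θ : W →ₗ[F] GolayPt → F} {P : (GolayPt → F) →ₗ[F] W} {δ : Γ → W}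

omit [NeZero (2 : F)] in
theorem cast_ne_one {p k : ℕ} (hp : (p : F) = 0) (h : k.Coprime p) : ((k + 1 : ℕ) : F) ≠ 1 := by
  simpa using cast_ne_of_coprime hp h

theorem Md.xt_five (h : Md f a θ P) (hp : ((5 : ℕ) : F) = 0) (hδ : Dl f a δ) : Xt f a δ LL := by
  have hk := cast_ne_one (k := 3) hp (by norm_num)
  have ix : ∀ {σ ν T}, PD σ ν 5 4 → cj 1 σ ∈ T → T ≤ HH0 → ((zpowers (cj 1 σ)).relIndex T : F) ≠ 0 := fun hd h1 h2 =>
    relIndex_zpowers h1 hp ((orderOf_cj _ _).trans hd.ord) (n := 4096 * 48964608)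
      ((card_dvd_of_le (h2.trans HH0_le)).trans (by rw [card_monoGrp])) (by norm_num)
  have sj : ∀ {T}, T ≤ HH2 → ∀ g ∈ T, ∃ x, f x = g := fun hT g hg => h.surj g (hT hg).1
  refine Xt.of_index hδ h.surj (S := HH2) (cast_ne_of_coprime hp (Nat.Coprime.coprime_dvd_left (k := 953856) ?_ (by norm_num)))
    (Xt.glue hδ (S := HH0) (fun g hg d d1 d2 => ?_) (fun g hg g' hg' m hm => h.eq_zero fun j j1 j2 => ?_) ?_)
  · have := relIndex_mul_relIndex _ _ _ bot_le (HS_le.trans inf_le_left : _ ≤ LL)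
    rw [relIndex_bot_left, relIndex_bot_left, card_HS, card_LL] at this
    exact (relIndex_dvd_of_le_left _ HS_le).trans (dvd_of_eq (by omega))
  · obtain ⟨y, hy, k⟩ := exists_S100 hg
    obtain ⟨σ, ν, hd, s1, s2, s3, s4⟩ := exists_d10 hy
    have m1 := cj_one σ ▸ k _ (perm_HH0 s1 s2) (Or.inl s3)
    exact (h.inn_cyc hd hp hk m1 (cj_one ν ▸ k _ (perm_HH0 (hd.fix _ s1) (hd.fix _ s2)) (Or.inl s4))
      (fun _ e => e.1.1.1) d1 d2).of_index (sj fun _ e => e.1.1) (zpowers_le.2 m1) (ix hd m1 inf_le_left) d1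
  · obtain ⟨y, hy, k⟩ := exists_S100 hg
    obtain ⟨z, hz, k'⟩ := exists_S100 hg'
    obtain ⟨σ, s1, s2, s3, s4, s5⟩ := exists_swap hy hz j1 j2
    obtain ⟨x, hx⟩ := sj inf_le_left _ (neg_HH0 s1 s2)
    exact ⟨σ, s1, s3, x, hx, hm x (hx ▸ k _ (neg_HH0 s1 s2) (Or.inr (by rw [mul_smul, s4, negAut_smul])))
      (hx ▸ k' _ (neg_HH0 s1 s2) (Or.inr (by rw [mul_smul, s5, negAut_smul])))⟩
  · obtain ⟨y, hy, -⟩ := exists_S100 (one_mem _)
    obtain ⟨σ, ν, hd, s1, s2, -⟩ := exists_d10 hy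
    have m1 := cj_one σ ▸ perm_HH0 s1 s2
    exact (h.xt_cyc hd hp hk m1.1.1 (cj_one ν ▸ perm_HH0 (hd.fix _ s1) (hd.fix _ s2)).1.1 hδ).of_index hδ (sj inf_le_left)
      (ix hd m1 le_rfl)

theorem Md.xt_prime (h : Md f a θ P) (hδ : Dl f a δ) {a₁ b p k n : ℕ} (hp : (p : F) = 0) (h1 : pdOK a₁ b p (k + 1) = true)
    (h2 : p.Prime) (h3 : k.Coprime p) (h4 : n * p = 42305421312000) (h5 : n.Coprime p) {c : ℕ} (h6 : chkN c = true)
    (h7 : dotN c c = 32) (h8 : comp c a₁ = c) (h9 : comp c b = c) : Xt f a δ LL := by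
  obtain ⟨σ, ν, e1, e2, hd⟩ := exists_pd h1 h2
  obtain ⟨g, hg⟩ := exists_smul_eq_of_sqNorm (toL c) (dlL p∞ p₀) (by rw [sqNorm_toL h6, h7, sqNorm_dlL pr0])
    (by rw [sqNorm_toL h6, h7]; norm_num)
  have k : ∀ σ, permAut σ • toL c = toL c → cj g σ ∈ LL := fun σ e => by
    rw [mem_stabilizer_iff, ← hg, cj_apply, mul_smul, inv_smul_smul, mul_smul, e]
  exact (h.xt_cyc hd hp (cast_ne_one hp h3) (k _ (fix_toL e1 h6 h8)) (k _ (fix_toL e2 h6 h9)) hδ).of_index hδ h.surj
    (relIndex_zpowers (k _ (fix_toL e1 h6 h8)) hp ((orderOf_cj _ _).trans hd.ord) (by rw [card_LL, h4]) h5)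

theorem Md.xt (h : Md f a θ P) (h3 : (3 : F) ≠ 0) (hδ : Dl f a δ) : Xt f a δ LL := by
  by_cases h5 : ((5 : ℕ) : F) = 0
  · exact h.xt_five h5 hδ
  by_cases h7 : ((7 : ℕ) : F) = 0
  · exact h.xt_prime hδ h7 (a₁ := 0xbd44725110606d19be4e5946969940) (b := 0xb98649adf043aa13b291908a96d940) (k := 1)
      (n := 6043631616000) (by decide +kernel) (by norm_num) (by norm_num) rfl (by norm_num)
      (c := 0xa42108421084210842108421084214) (by decide +kernel) (by decide +kernel) (by decide +kernel) (by decide +kernel)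
  by_cases h11 : ((11 : ℕ) : F) = 0
  · exact h.xt_prime hδ h11 (a₁ := 0xb9e0e22566b2254134a11c6ac9a9e0) (b := 0xbcd2f3d5b0b0e4e28a2ca2d4409900) (k := 2)
      (n := 3845947392000) (by decide +kernel) (by norm_num) (by norm_num) rfl (by norm_num)
      (c := 0xa42108421084210842108421084214) (by decide +kernel) (by decide +kernel) (by decide +kernel) (by decide +kernel)
  by_cases h23 : ((23 : ℕ) : F) = 0
  · exact h.xt_prime hδ h23 (a₁ := 0xb82d5a4e5183dcd62d4941cc520c41) (b := 0xbd6717b56939461b52507314831040) (k := 1)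
      (n := 1839366144000) (by decide +kernel) (by norm_num) (by norm_num) rfl (by norm_num)
      (c := 0x6c6318c6318c6318c6318c6318c631) (by decide +kernel) (by decide +kernel) (by decide +kernel) (by decide +kernel)
  refine hδ.xt.of_index hδ h.surj ?_
  rw [relIndex_bot_left, card_LL, show 42305421312000 = 2 ^ 18 * 3 ^ 6 * 5 ^ 3 * 7 * 11 * 23 from rfl]
  simp only [Nat.cast_mul, Nat.cast_pow, ne_eq, mul_eq_zero, h5, h7, h11, h23, pow_eq_zero_iff (by norm_num : 3 ≠ 0)]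
  simp [h3, NeZero.ne (2 : F)]

end CfsgLib.MonRep
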