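import Mathlib
import Cfsg.Agent.Lib.MonRep.XH
import Cfsg.Agent.Lib.MonRep.BV

/-!
Fixed vectors and first cohomology of the subgroups of the amalgam of the Baby Monster.
-/

set_option autoImplicit false

namespace CfsgLib.MonRep

open Module Cfsg CfsgLib.Mon CfsgLib.Mon.Mult CfsgLib.Leech CfsgLib.MType MulAction Subgroup Matrix
open scoped commutatorElement

theorem g_uniq {x y : Chat k0} (h : Mon.mk k0 x = Mon.mk k0 y) (hx : x.g ∈ LL) (hy : y.g ∈ LL) : x.g = y.g := by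
  rcases mk_eq_mk'.1 h with e | e
  · exact e.1.symm
  · have : negAut • dlL p∞ p₀ = dlL p∞ p₀ := (mul_mem_cancel_left hx).1 (e.1 ▸ hy)
    exact absurd (congrFun (congrArg Subtype.val ((negAut_smul _).symm.trans this)) p∞) (by decide)

/-- the map onto `Co₂` -/
noncomputable def gK : CK →* Co0 := MonoidHom.mk' (fun c => (exists_fix pr0 c.2).choose.g) fun c d => by
  have hc := (exists_fix pr0 c.2).choose_spec
  have hd := (exists_fix pr0 d.2).choose_spec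
  have h := (exists_fix pr0 (c * d).2).choose_spec
  exact g_uniq (y := _ * _) (by rw [map_mul, h.1, hc.1, hd.1]; rfl) h.2.1 (LL.mul_mem hc.2.1 hd.2.1)

theorem gK_spec (c : CK) : ∃ x, Mon.mk k0 x = c ∧ x.g = gK c ∧ gK c ∈ LL :=
  let h := (exists_fix pr0 c.2).choose_spec; ⟨_, h.1, rfl, h.2.1⟩

theorem gK_mem (c : CK) : gK c ∈ LL := let ⟨_, h⟩ := gK_spec c; h.2.2

theorem gK_mk {x : Chat k0} (h : Mon.mk k0 x ∈ CK) (hx : x.g ∈ LL) : gK ⟨_, h⟩ = x.g :=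
  let ⟨_, h1, h2, h3⟩ := gK_spec ⟨_, h⟩; h2.symm.trans (g_uniq h1 (h2 ▸ h3) hx)

theorem gK_surj (g : Co0) (hg : g ∈ LL) : ∃ c, gK c = g :=
  let ⟨_, h1, h2⟩ := exists_liftK hg; ⟨_, (gK_mk h1 (h2 ▸ hg)).trans h2⟩

theorem gK_q {e : ZMod 2} {v : V24} (h : q k0 e v ∈ CK) : gK ⟨_, h⟩ = 1 := gK_mk (x := qh k0 e v) h (one_mem LL)

theorem gK_ker {c : CK} (h : gK c = 1) : ∃ e v, c.1 = q k0 e v := by
  obtain ⟨x, h1, h2, -⟩ := gK_spec c
  obtain ⟨e, v, rfl⟩ := Chat.eq_qh (h2.trans h)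
  exact ⟨e, v, h1.symm⟩

theorem cact_gK (c : CK) (v : V24) : cact c.1 v = k0.act (gK c) v := by
  obtain ⟨x, h1, h2, -⟩ := gK_spec c
  rw [← h1, ← h2, cact_mk]

theorem card_ne_of_sq {F : Type*} [Field F] [NeZero (2 : F)] {S : Subgroup CK} (h : ∀ c ∈ S, gK (c * c) = 1) :
    ((⊥ : Subgroup CK).relIndex S : F) ≠ 0 := by
  obtain ⟨n, hn⟩ := (IsPGroup.iff_card (p := 2) (G := S)).1 fun c => ⟨3, Subtype.ext (Subtype.ext (by
    obtain ⟨e, v, k⟩ := gK_ker (h c c.2)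
    show c.1.1 ^ (2 * (2 * 2)) = 1
    rw [pow_mul, pow_mul, sq, sq, sq, show c.1.1 * c.1.1 = _ from k, q_mul_self, q_mul_self]
    simp [qf]))⟩
  rw [relIndex_bot_left, hn]
  simp [NeZero.ne (2 : F)]

/-- the centralizer of `z'` -/
noncomputable abbrev NK : Subgroup CK := (Nxyz k0).subgroupOf CK

/-- the centralizer of `z'` and `x_T` -/
noncomputable abbrev KK3 : Subgroup CK := K3.subgroupOf CK

theorem KK3_le : KK3 ≤ NK := fun _ h => mem_subgroupOf.2 (Nxyz_eq (κ := k0) ▸ h.1)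

theorem NK_mono {c : CK} (h : c ∈ NK) : gK c ∈ monoGrp :=
  (act_w0_iff (κ := k0)).1 ((cact_gK c _).symm.trans (mem_Cq.1 (Nxyz_eq (κ := k0) ▸ mem_subgroupOf.1 h)).2)

theorem om_xv_aT (d : CW0) : om (xv k0 d.1) aT = (if p₁ ∈ d.1 then 1 else 0) + if p₂ ∈ d.1 then 1 else 0 := by
  simp [aT, om_add_right, om_xv_lam d.2.1, d.2.2.1, d.2.2.2]

theorem exists_KK3 {g : Co0} (h1 : g ∈ LL) (h2 : g ∈ monoGrp) (h3 : k0.act g aT = aT) : ∃ c ∈ KK3, gK c = g := by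
  obtain ⟨c, rfl⟩ := gK_surj g h1
  obtain ⟨⟨d, d1, d2⟩, -⟩ := exists_sep12
  have o : ∀ (a : ZMod 2) (v w : V24), om (a • v) w = a * om v w := fun a v w => by
    rcases z2_cases a with rfl | rfl <;> simp
  have hv : q k0 0 (cε c.1 (w0 k0) • lam k0 p∞ + cε c.1 aT • xv k0 d.1) ∈ CK :=
    q_memK.2 (by simp [om_add_left, o, om_lam_uK, om_xd])
  refine ⟨c * ⟨_, hv⟩, ⟨mem_Cq.2 ?_, mem_Cq.2 ?_⟩, by rw [map_mul, gK_q, mul_one]⟩
  · simp [cε_mul, cact_mul, om_add_left, o, om_lam_w0, om_xv_w0, z2_add_self, cact_gK, act_w0_iff.2 h2]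
  · simp [cε_mul, cact_mul, om_add_left, o, om_xv_aT, d1, d2, z2_add_self, cact_gK, h3,
      show om (lam k0 p∞) aT = 0 by simp [aT, om_add_right, om_lam_lam]]

theorem exists_sC : ∀ j, j ≠ p∞ → j ≠ p₀ → ∃ i, j ∈ (sC i).1 := by
  simp only [sC, Golay.mem_ofMask]; decide +kernel

/-- the sign changes -/
def DG : Subgroup Co0 := ⨅ j, pm (e8 j)

theorem mem_DG {g : Co0} : g ∈ DG ↔ ∀ j, g • e8 j = e8 j ∨ g • e8 j = -e8 j := mem_iInf

theorem sgn_DG {c : Finset GolayPt} (hc : IsCW c) : sgnAut c hc ∈ DG := mem_DG.2 fun j => by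
  rw [sgnAut_smul_e8]; split_ifs <;> simp

theorem conj_DG {g x : Co0} (hg : g ∈ monoGrp) (hx : x ∈ DG) : g⁻¹ * x * g ∈ DG := mem_DG.2 fun j => by
  obtain ⟨k, h⟩ := smul_e8_of_mem_monoGrp hg j
  rw [mul_smul, mul_smul, inv_smul_eq_iff, inv_smul_eq_iff, smul_neg]
  rcases h with h | h <;> rcases mem_DG.1 hx k with l | l <;> simp [h, l]

theorem NK_cases {c : CK} (h : c ∈ NK) : (gK c • e8 p∞ = e8 p∞ ∧ ∃ d : CW0, ∃ σ : M24, σ • p∞ = p∞ ∧ σ • p₀ = p₀ ∧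
    gK c = eps d * permAut σ) ∨ (gK c • e8 p∞ ≠ e8 p∞ ∧ gK c • e8 p∞ = -e8 p₀ ∧ gK c • e8 p₀ = -e8 p∞) := by
  obtain ⟨d, hd, σ, e⟩ := NK_mono h
  rcases mono_cases pr0 (e ▸ gK_mem c) with k | k <;> simp only [e, mono_smul_e8, k, if_true, if_false]
  · exact Or.inl ⟨trivial, ⟨d, hd, k.2.2⟩, σ, k.1, k.2.1, rfl⟩
  · exact Or.inr ⟨(e8_ne_neg' _ _).symm, trivial, trivial⟩

variable {F V : Type*} [Field F] [AddCommGroup V] [Module F V] [NeZero (2 : F)] [FiniteDimensional F V]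
  {a : Representation F CK V} {T : End F V}

namespace BS

variable (h : BS (xt a) T)
include h

/-- the action on the fixed vectors of `2^(2+22)` -/
noncomputable def aW : Representation F CK (Wt (xt a) 0) :=
  a.subrepresentation _ fun c x hx => by have := h.W_mem c.2 x hx; rwa [xt_apply _ c.2] at this

theorem md : ∃ θ P, Md gK h.aW θ P := exists_md h.wh gK_mem gK_surj fun c w => Subtype.ext (by
  obtain ⟨x, h1, h2, h3⟩ := gK_spec c
  rw [← h2, h.bW_apply (h1 ▸ c.2) (h2 ▸ h3), h1, xt_apply _ c.2]; rfl)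

theorem fixQ {x : V} (hx : ∀ c ∈ KK3, gK c = 1 → a c x = x) : x ∈ Wt (xt a) 0 := by
  refine h.le_p (P := ⨅ (e) (v) (_ : om v uK = 0) (_ : om v (w0 k0) = 0) (_ : om v aT = 0),
    LinearMap.eqLocus (xt a (q k0 e v)) 1) (fun y hy => ?_) (fun e v hv y hy => ?_) (fun _ _ k => k) (fun w hw y hy k k0 => ?_) ?_ <;>
    simp only [Submodule.mem_iInf, LinearMap.mem_eqLocus, Module.End.one_apply] at *
  · simpa [mem_eg, q_one_zero] using hy 1 0
  · intro e' n n1 n2 n3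
    rw [h.conj' (q_memK.2 hv) (q_memK.2 n1), conj_qq, hy _ n n1 n2 n3]
  · have k1 : ∀ v, om v uK = 0 → om v (w0 Mon.k0) = 0 → om v aT = 0 → om v w = 0 := fun v a b c =>
      eq_of_sF_smul k0 (by rw [← mem_Wt.1 k 0 v a, hy 0 v a b c, sF_zero, one_smul])
    have o : ∀ n m : V24, n.1 = 0 → m.1 = 0 → om n m = 0 := fun n m a b => by rw [om_fst b, a, dotProduct_zero]
    obtain ⟨j, j1, j2, j3⟩ := su_chi hw (funext fun i => by
      have := k1 (0, Pi.single i 1) (o _ _ rfl uK_fst) (o _ _ rfl std_k0.w0_fst) (o _ _ rfl (isE_qh.1 isE_aT).2.1)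
      rwa [om_comm, om_fst rfl, single_one_dotProduct] at this)
    obtain ⟨i, hi⟩ := exists_sC j j1 j2
    have := k1 _ (om_xd (sC i)) (om_xv_w0 _) (by simp [om_xv_aT, sC_even, z2_add_self])
    simp [j3, chi, coc_singleton, hi] at this
  · intro e v h1 h2 h3
    rw [xt_apply _ (q_memK.2 h1)]
    exact hx _ ⟨q_mem_Cq.2 h2, q_mem_Cq.2 h3⟩ (gK_q _)

theorem fixK {x : V} (hx : ∀ c ∈ KK3, a c x = x) : x = 0 := by
  obtain ⟨θ, P, hm⟩ := h.md
  refine congrArg Subtype.val (hm.eq_zero (m := ⟨x, h.fixQ fun c hc _ => hx c hc⟩) fun j j1 j2 => ?_)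
  obtain ⟨σ, hσ⟩ := exists_M24_on {p∞, p₀, p₁, p₂, j} Finset.card_le_five (Equiv.swap p∞ p₀) (Equiv.injective _).injOn
  have s1 : σ • p∞ = p₀ := by simpa using hσ p∞
  have s2 : σ • p₀ = p∞ := by simpa using hσ p₀
  obtain ⟨c, hc, e⟩ := exists_KK3 (neg_HH0 s1 s2).1.1 (HH0_le (neg_HH0 s1 s2)) (by
    simp only [k0.act_mul, k0.act_neg, aT, map_add, act_perm_lam, s1, s2, show σ • p₁ = p₁ from hσ p₁ (by simp),
      show σ • p₂ = p₂ from hσ p₂ (by simp), add_comm])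
  exact ⟨σ, s1, (hσ j (by simp)).trans (Equiv.swap_apply_of_ne_of_ne j1 j2), c, e, Subtype.ext (hx c hc)⟩

theorem fixR {x : V} (hx : ∀ c ∈ NK ⊓ DG.comap gK, a c x = x) {c : CK} (hc : c ∈ NK ⊓ (stabilizer Co0 (e8 p∞)).comap gK) :
    a c x = x := by
  obtain ⟨θ, P, hm⟩ := h.md
  obtain ⟨w, rfl⟩ : ∃ w : Wt (xt a) 0, w.1 = x := ⟨⟨x, h.fixQ fun c hc e => hx c ⟨KK3_le hc, mem_comap.2 (e ▸ DG.one_mem)⟩⟩, rfl⟩
  have k : ∀ j, j ≠ p∞ → j ≠ p₀ → θ w j = 0 := fun j j1 j2 => by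
    obtain ⟨i, hi⟩ := exists_sC j j1 j2
    have e := (gK_mk (yd_mem (sC i)) (yd_g _ ▸ eps_mem _)).trans (yd_g _)
    have := congrFun (hm.θ_app ⟨_, yd_mem (sC i)⟩ w) j
    rw [show h.aW _ w = w from Subtype.ext (hx _ ⟨std_k0.isY_mem_Nxyz (isY_yd _), mem_comap.2 (e ▸ sgn_DG _)⟩), e, eps, bM_sgn] at this
    exact eq_zero_of_neg F (by simpa [coc_singleton, hi] using this)
  obtain ⟨-, d, σ, s1, s2, e⟩ := (NK_cases hc.1).resolve_right fun e => e.1 hc.2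
  refine congrArg Subtype.val (hm.inj (funext fun j => ?_) : h.aW c w = w)
  rw [hm.θ_app, e, rmul, eps, bM_sgn, bM_perm, coc_singleton]
  by_cases j1 : j = p∞
  · simp [j1, d.2.2.1, inv_smul_eq_iff.2 s1.symm]
  by_cases j2 : j = p₀
  · simp [j2, d.2.2.2, inv_smul_eq_iff.2 s2.symm]
  rw [k j j1 j2, k _ (mt inv_smul_eq_iff.1 (s1.symm ▸ j1)) (mt inv_smul_eq_iff.1 (s2.symm ▸ j2)), mul_zero]

theorem h1_NK {d : CK → V} (hd : Der (MonoidHom.id CK) a NK d) : Inn (MonoidHom.id CK) a NK d := by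
  have sj : ∀ {S : Subgroup CK}, ∀ g ∈ S, ∃ x, MonoidHom.id CK x = g := fun g _ => ⟨g, rfl⟩
  obtain ⟨m, hm⟩ := Inn.of_index (S := ⊥) (T := NK ⊓ DG.comap gK) sj bot_le (card_ne_of_sq fun c hc => co0_ext_e8 fun j => by
    rcases mem_DG.1 hc.2 j with l | l <;> simp [mul_smul, l]) (hd.mono inf_le_left) ⟨0, fun x e => by simp [show x = 1 from e, hd.one]⟩
  obtain ⟨D, hD, h1⟩ : ∃ D : CK → V, (∀ x, D x = d x - (m - a x m)) ∧ Der (MonoidHom.id CK) a NK D :=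
    ⟨_, fun _ => rfl, hd.sub (der_inn m)⟩
  have h0 : ∀ x ∈ NK ⊓ DG.comap gK, D x = 0 := fun x hx => by rw [hD, hm x hx, sub_self]
  let N : Subgroup CK := NK ⊓ (stabilizer Co0 (e8 p∞)).comap gK
  have h2 : ∀ x ∈ N, ∀ y ∈ NK, D (x * y) = D x + D y := fun x hx y hy => by
    rw [h1 x y hx.1 hy, h.fixR (fun r hr => ?_) hx]
    have := h1.conj hy hr.1
    rw [h0 r hr, h0 _ ⟨NK.mul_mem (NK.mul_mem (NK.inv_mem hy) hr.1) hy, by simpa using conj_DG (NK_mono hy) hr.2⟩] at this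
    simpa [sub_eq_zero] using this.symm
  have h3 : ∀ x ∈ N, D x⁻¹ = -D x := fun x hx => eq_neg_of_add_eq_zero_right (by
    rw [← h2 x hx _ (inv_mem hx.1), mul_inv_cancel, h1.one])
  let Z : Subgroup CK :=
    { carrier := {x | x ∈ N ∧ D x = 0}
      one_mem' := ⟨one_mem _, h1.one⟩
      mul_mem' := fun {x y} hx hy => ⟨mul_mem hx.1 hy.1, by rw [h2 x hx.1 y hy.1.1, hx.2, hy.2, add_zero]⟩
      inv_mem' := fun {x} hx => ⟨inv_mem hx.1, by rw [h3 x hx.1, hx.2, neg_zero]⟩ }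
  have h4 : ⁅N, N⁆ ≤ Z := commutator_le.2 fun x hx y hy => ⟨mul_mem (mul_mem (mul_mem hx hy) (inv_mem hx)) (inv_mem hy), by
    rw [commutatorElement_def, h2 _ (mul_mem (mul_mem hx hy) (inv_mem hx)) _ (inv_mem hy.1), h2 _ (mul_mem hx hy) _ (inv_mem hx.1),
      h2 x hx y hy.1, h3 x hx, h3 y hy]; abel⟩
  have h5 : (stabilizer M24 p∞ ⊓ stabilizer M24 p₀).map permHom ≤ N.map gK := by
    rintro _ ⟨σ, hσ, rfl⟩
    obtain ⟨x, x1, x2⟩ := std_k0.exists_E σ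
    have e := (gK_mk (E_memK x1 x2 (Or.inl hσ)) (x2 ▸ perm_mem hσ.1 hσ.2)).trans x2
    exact ⟨_, ⟨std_k0.isE_mem_Nxyz x1, mem_comap.2 (by rw [e, mem_stabilizer_iff, permAut_smul_e8, hσ.1])⟩, e⟩
  have h6 := (commutator_mono h5 h5).trans ((map_commutator _ _ _).ge.trans (map_mono h4))
  rw [← map_commutator, perfect_stab2 pr0] at h6
  refine (Inn.of_index (S := N) sj inf_le_left (fun e => ?_) h1 ⟨0, fun x hx => ?_⟩).elim fun m' hm' =>
    ⟨m + m', fun x hx => by rw [← sub_add_cancel (d x) (m - a x m), ← hD, hm' x hx, map_add]; abel⟩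
  · have : N.relIndex NK ∣ 2 := relIndex_dvd_two_iff.2 (by
      by_cases k : ∀ x ∈ NK, x ∈ N
      · exact ⟨1, one_mem _, fun b hb => Or.inr (k b hb)⟩
      push Not at k
      obtain ⟨x, hx, k⟩ := k
      refine ⟨x, hx, fun b hb => (NK_cases hb).symm.imp (fun l => ⟨mul_mem hb hx, mem_comap.2 ?_⟩) fun l => ⟨hb, l.1⟩⟩
      rw [map_mul, mem_stabilizer_iff, mul_smul, ((NK_cases hx).resolve_left fun e => k ⟨hx, e.1⟩).2.1, smul_neg,
        l.2.2, neg_neg])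
    obtain ⟨k, hk⟩ := this
    exact NeZero.ne (2 : F) (by rw [← Nat.cast_two, hk, Nat.cast_mul, e, zero_mul])
  · obtain ⟨-, c, σ, s1, s2, e⟩ := (NK_cases hx.1).resolve_right fun e => e.1 hx.2
    obtain ⟨y, hy, e'⟩ := h6 ⟨σ, ⟨s1, s2⟩, rfl⟩
    have := h2 _ (mul_mem hx (inv_mem hy.1)) y hy.1.1
    rw [MonoidHom.id_apply, inv_mul_cancel_right, hy.2, h0 (x * y⁻¹) ⟨NK.mul_mem hx.1 (NK.inv_mem hy.1.1), by
      simpa [e', show gK x = _ from e, permHom_apply, eps] using sgn_DG c.2.1⟩] at this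
    simpa using this

end BS

end CfsgLib.MonRep
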