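import Mathlib
import Cfsg.Agent.Lib.MonRep.XK
import Cfsg.Agent.Lib.MonRep.FinB

/-!
Extensions of the Baby Monster by its module of dimension 4371 split in characteristic other than 2 and 3.
-/

set_option autoImplicit false

namespace CfsgLib.MonRep

open Module Cfsg CfsgLib.Mon CfsgLib.Mon.Mult CfsgLib.Leech Subgroup

variable {F G E V : Type*} [Field F] [Group G] [Group E] [AddCommGroup V] [Module F V]

/-- an extension of `G` by the module `V` -/
structure XE (σ : Representation F G V) (pr : E →* G) (ι : V → E) : Prop where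
  surj : Function.Surjective pr
  add : ∀ v w, ι (v + w) = ι v * ι w
  inj : Function.Injective ι
  ker : ∀ x, pr x = 1 ↔ ∃ v, ι v = x
  conj : ∀ x v, x * ι v * x⁻¹ = ι (σ (pr x) v)

theorem Md.comp [NeZero (2 : F)] {Γ Γ' : Type*} [Group Γ] [Group Γ'] {f : Γ →* Co0} {a : Representation F Γ V}
    {θ : V →ₗ[F] GolayPt → F} {P : (GolayPt → F) →ₗ[F] V} (h : Md f a θ P) {φ : Γ' →* Γ} (hφ : Function.Surjective φ) :
    Md (f.comp φ) (a.comp φ) θ P :=
  ⟨fun _ => h.mem _, fun g hg => let ⟨x, e⟩ := h.surj g hg; let ⟨y, e'⟩ := hφ x; ⟨y, (congrArg f e').trans e⟩,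
    fun _ => h.θ_app _, fun _ => h.P_app _, h.P_θ, h.pr⟩

namespace XE

variable {σ : Representation F G V} {pr : E →* G} {ι : V → E} (X : XE σ pr ι) {π : CK →* G} {τ : G} {s : CK →* E}
include X

theorem zero : ι 0 = 1 := by simpa using X.add 0 0

theorem pr_ι (v : V) : pr (ι v) = 1 := (X.ker _).2 ⟨v, rfl⟩

variable [NeZero (2 : F)]

theorem eq_one {x : E} (h : pr x = 1) (h' : x * x = 1) : x = 1 := by
  obtain ⟨v, rfl⟩ := (X.ker x).1 h
  rw [eq_zero_of_neg F (eq_neg_of_add_eq_zero_left (X.inj ((X.add v v).trans (h'.trans X.zero.symm)))), X.zero]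

variable [FiniteDimensional F V] (h : BS (xt (σ.comp π)) (σ τ))
include h

theorem exists_s (h3 : (3 : F) ≠ 0) : ∃ s : CK →* E, ∀ c, pr (s c) = π c := by
  classical
  let Γ : Subgroup (E × CK) := (pr.comp (MonoidHom.fst _ _)).eqLocus (π.comp (MonoidHom.snd _ _))
  let f : Γ →* CK := (MonoidHom.snd _ _).comp Γ.subtype
  let a : Representation F Γ V := (σ.comp π).comp f
  let j : V → Γ := fun v => ⟨(ι v, 1), (X.pr_ι v).trans (map_one π).symm⟩
  have j1 : ∀ v, f (j v) = 1 := fun _ => rfl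
  have j2 : ∀ x, f x = 1 → ∃ v, j v = x := fun x hx =>
    let ⟨v, e⟩ := (X.ker x.1.1).1 (x.2.trans ((congrArg π hx).trans (map_one π))); ⟨v, Subtype.ext (Prod.ext e hx.symm)⟩
  have j3 : ∀ v, Function.invFun ι (j v).1.1 = v := Function.leftInverse_invFun X.inj
  have fs : Function.Surjective f := fun c => let ⟨x, e⟩ := X.surj (π c); ⟨⟨(x, c), e⟩, rfl⟩
  have tr : ∀ x, f x = 1 → ∀ m, a x m = m := fun x hx m => by simp [a, hx]
  have hδ : Dl f a fun x => Function.invFun ι x.1.1 := ⟨tr, fun x y hx hy => by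
    obtain ⟨v, rfl⟩ := j2 x hx
    obtain ⟨w, rfl⟩ := j2 y hy
    exact (congrArg _ (X.add v w).symm).trans ((j3 _).trans (by rw [j3, j3])), fun g x hx => by
    obtain ⟨v, rfl⟩ := j2 x hx
    exact (congrArg _ ((X.conj g.1.1 v).trans (congrArg (fun y => ι (σ y v)) g.2))).trans ((j3 _).trans (by rw [j3]; rfl))⟩
  have ix : ((⊥ : Subgroup CK).relIndex gK.ker : F) ≠ 0 := card_ne_of_sq fun c hc => by simp [show gK c = 1 from hc]
  obtain ⟨D, d1, d2⟩ := hδ.xt.of_index hδ (fun g _ => fs g) ix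
  have d3 : ∀ v, D (j v) = v := fun v => (d2 _ rfl).trans (j3 v)
  let Γ' : Subgroup Γ :=
    { carrier := {x | ∀ r, gK (f r) = 1 → a x (D (x⁻¹ * r * x)) = D r}
      one_mem' := fun r _ => by simp
      mul_mem' := fun {x y} hx hy r hr => by
        rw [rmul, show (x * y)⁻¹ * r * (x * y) = y⁻¹ * (x⁻¹ * r * x) * y by group, hy _ (by simp [hr]), hx r hr]
      inv_mem' := fun {x} hx r hr => by
        rw [← hx _ (show gK (f (x⁻¹⁻¹ * r * x⁻¹)) = 1 by simp [hr]), Representation.inv_self_apply]; congr 1; group }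
  have adj : ∀ x, ∃ v, j v * x ∈ Γ' := fun x => by
    obtain ⟨m, hm⟩ := Inn.of_index (S := ⊥) (fun g _ => fs g) bot_le ix (d1.sub ((d1.tw x).mono fun c hc => by
      simpa using (MonoidHom.normal_ker gK).conj_mem c hc (f x)⁻¹)) ⟨0, fun r hr => by
        simp only [map_zero, sub_zero]
        rw [d2 _ hr, d2 _ (by simp [show f r = 1 from hr]), hδ.conj' _ hr, sub_self]⟩
    refine ⟨-m, fun r hr => ?_⟩
    have e1 := hm ((j (-m))⁻¹ * r * j (-m)) (by simpa [j1] using hr)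
    have e2 := d1.conj (x := j (-m)) (y := r) (by simp [j1]) hr
    rw [tr _ rfl, d3, map_neg] at e2
    rw [rmul, tr _ rfl, show (j (-m) * x)⁻¹ * r * (j (-m) * x) = x⁻¹ * ((j (-m))⁻¹ * r * j (-m)) * x by group]
    simp only [rmul, tr (j (-m)) rfl, tr (j (-m))⁻¹ (by simp [j1]), e2] at e1
    linear_combination (norm := abel) -e1
  have fW : ∀ v, (∀ r, gK (f r) = 1 → a r v = v) → v ∈ Wt (xt (σ.comp π)) 0 := fun v hv => h.fixQ fun c _ hc =>
    let ⟨r, e⟩ := fs c; e ▸ hv r (e ▸ hc)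
  have mW : ∀ x : Γ', gK (f x) = 1 → D x ∈ Wt (xt (σ.comp π)) 0 := fun x hx => fW _ fun r hr => by
    have := d1.conj hx hr
    rw [x.2 r hr] at this
    exact (sub_eq_zero.1 (sub_eq_self.1 this.symm)).symm
  have fs' : Function.Surjective (f.comp Γ'.subtype) := fun c => by
    obtain ⟨x, rfl⟩ := fs c
    obtain ⟨v, hv⟩ := adj x
    exact ⟨⟨_, hv⟩, by simp [j1]⟩
  obtain ⟨θ, P, hm⟩ := h.md
  obtain ⟨δ, hδ'⟩ : ∃ δ : Γ' → Wt (xt (σ.comp π)) 0, ∀ x : Γ', gK (f x) = 1 → (δ x).1 = D x :=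
    ⟨fun x => if k : D x ∈ Wt (xt (σ.comp π)) 0 then ⟨_, k⟩ else 0, fun x hx => by simp only [dif_pos (mW x hx)]⟩
  obtain ⟨D', e1, e2⟩ := (hm.comp fs').xt h3 (δ := δ) ⟨(hm.comp fs').triv, fun x y hx hy => Subtype.ext (by
      rw [hδ' _ ((map_mul (gK.comp (f.comp Γ'.subtype)) x y).trans (by rw [hx, hy, one_mul])), coe_mul, d1 x y hx hy,
        ← hδ' x hx, ← hδ' y hy]
      exact congrArg _ (congrArg Subtype.val (hm.triv _ hx (δ y)))), fun g x hx => Subtype.ext (by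
      have hx' : gK (f (g * x * g⁻¹ : Γ')) = 1 := by simp [show gK (f x) = 1 from hx]
      rw [hδ' _ hx', ← g.2 _ hx', show (g : Γ)⁻¹ * (g * x * g⁻¹ : Γ') * g = x by simp [mul_assoc], ← hδ' x hx]; rfl)⟩
  have jm : ∀ w : Wt (xt (σ.comp π)) 0, j w ∈ Γ' := fun w r hr => by
    rw [d1.conj (by simp [j1]) hr, d3, show a r w = w from congrArg Subtype.val (hm.triv _ hr w), sub_self, sub_zero]
  have jd : ∀ w, D' ⟨_, jm w⟩ = w := fun w => (e2 _ (map_one gK)).trans (Subtype.ext ((hδ' ⟨_, jm w⟩ (map_one gK)).trans (d3 _)))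
  have k : ∀ c, ∃ x : Γ', f x = c ∧ D' x = 0 := fun c => by
    obtain ⟨x, rfl⟩ := fs' c
    exact ⟨⟨_, jm (-D' x)⟩ * x, by simp [j1], by
      rw [e1 _ _ (gK_mem _) (gK_mem _), jd, (hm.comp fs').triv _ (map_one gK), neg_add_cancel]⟩
  have u : ∀ x y : Γ', f x = f y → D' x = 0 → D' y = 0 → x = y := fun x y e hx hy => by
    obtain ⟨v, hv⟩ := j2 (y * x⁻¹ : Γ') (by simp [e])
    have o : gK (f (y * x⁻¹ : Γ')) = 1 := by simp [e]
    have := e1 (y * x⁻¹) x (gK_mem _) (gK_mem _)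
    rw [inv_mul_cancel_right, hx, hy, map_zero, add_zero, e2 _ o] at this
    have v0 : v = 0 := by rw [← d3 v, hv, ← hδ' _ o, ← this]; rfl
    exact (mul_inv_eq_one.1 (Subtype.ext (hv.symm.trans (Subtype.ext (Prod.ext (v0 ▸ X.zero) rfl))))).symm
  choose l l1 l2 using k
  exact ⟨MonoidHom.mk' (fun c => (l c).1.1.1) fun c d => congrArg (fun x : Γ' => x.1.1.1) (u _ (l c * l d)
    (by simp [l1]) (l2 _) (by rw [e1 _ _ (gK_mem _) (gK_mem _), l2, l2, map_zero, add_zero])),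
    fun c => (l c).1.2.trans (congrArg π (l1 c))⟩

variable (hs : ∀ c, pr (s c) = π c) (hk : ∀ c, π c = 1 → c * c = 1)
include hs hk

theorem eq_one_of_nm {x : E} (h1 : pr x = 1) (h2 : ∀ c ∈ KK3, ∃ d ∈ KK3, s c * x = x * s d) : x = 1 := by
  obtain ⟨v, rfl⟩ := (X.ker x).1 h1
  rw [h.fixK (x := v) fun c hc => ?_, X.zero]
  obtain ⟨d, -, e⟩ := h2 c hc
  have e1 : π (c⁻¹ * d) = 1 := by simpa [hs, h1, inv_mul_eq_one] using congrArg pr e
  have e2 := X.eq_one ((hs _).trans e1) (by rw [← map_mul, hk _ e1, map_one])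
  rw [map_mul, map_inv, inv_mul_eq_one] at e2
  refine X.inj ?_
  rw [MonoidHom.comp_apply, ← hs, ← X.conj, e, ← e2, mul_inv_cancel_right]

theorem exists_t (ha : KAm π τ) : ∃ t, pr t = τ ∧ KAm s t := by
  obtain ⟨t0, ht⟩ := X.surj τ
  have k : ∀ c : CK, ∃ d : CK, ∃ v, c ∈ NK → (c.1, d.1) ∈ Gam k0 ∧ ι v = s c * t0 * (s d)⁻¹ * t0⁻¹ := fun c => by
    by_cases hc : c ∈ NK
    · obtain ⟨d, hd⟩ := std_k0.exists_gam hc
      obtain ⟨v, hv⟩ := (X.ker (s c * t0 * (s ⟨d, (gam_CK hd).1 c.2⟩)⁻¹ * t0⁻¹)).1 (by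
        simp [hs, ht, ha.gam c ⟨d, (gam_CK hd).1 c.2⟩ hd])
      exact ⟨⟨d, (gam_CK hd).1 c.2⟩, v, fun _ => ⟨hd, hv⟩⟩
    · exact ⟨1, 0, fun e => absurd e hc⟩
  choose β d hd using k
  obtain ⟨m, hm⟩ := h.h1_NK (d := d) fun x y hx hy => X.inj (by
    have e : β (x * y) = β x * β y :=
      Subtype.ext (gam_uniq std_k0 (hd (x * y) (NK.mul_mem hx hy)).1 ((Gam k0).mul_mem (hd x hx).1 (hd y hy).1))
    rw [add_comm, X.add, MonoidHom.comp_apply, ← hs, ← X.conj, (hd (x * y) (NK.mul_mem hx hy)).2, (hd x hx).2,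
      (hd y hy).2, e, map_mul, map_mul]
    group)
  obtain ⟨t, t0, t1⟩ : ∃ t, pr t = τ ∧ ∀ a b : CK, (a.1, b.1) ∈ Gam k0 → s a * t = t * s b :=
    ⟨ι m * t0, by simp [X.pr_ι, ht], fun a b e => by
      have ha : a ∈ NK := (std_k0.Gam_le e).1
      have := X.add (σ (π a) m) (d a)
      rw [hm a ha, MonoidHom.comp_apply, add_sub_cancel, ← MonoidHom.comp_apply σ, ← hm a ha, (hd a ha).2,
        MonoidHom.comp_apply, ← hs, ← X.conj, ← Subtype.ext (gam_uniq std_k0 e (hd a ha).1)] at this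
      nth_rewrite 2 [this]
      group⟩
  let Nm : Submonoid E :=
    { carrier := {x | ∀ c ∈ KK3, ∃ d ∈ KK3, s c * x = x * s d}
      one_mem' := fun c hc => ⟨c, hc, by simp⟩
      mul_mem' := fun {x y} hx hy c hc => by
        obtain ⟨d, hd, e⟩ := hx c hc
        obtain ⟨d', hd', e'⟩ := hy d hd
        exact ⟨d', hd', by rw [← mul_assoc, e, mul_assoc, e', mul_assoc]⟩ }
  have n1 : t ∈ Nm := fun c hc => let ⟨b, hb, e⟩ := K3_k1 hc; ⟨⟨b, (gam_CK e).1 c.2⟩, hb, t1 _ _ e⟩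
  have n2 : ∀ x : CK, (∀ c ∈ K3, x.1⁻¹ * c * x.1 ∈ K3) → s x ∈ Nm := fun x hx c hc =>
    ⟨x⁻¹ * c * x, hx _ hc, by simp only [← map_mul]; congr 1; group⟩
  have n3 := n2 ⟨sT, sT_mem_CK⟩ fun c hc =>
    have k : ∀ v, cact sT v = v := fun v => by rw [sT_eq, cact_q]
    ⟨conj_mem_Cq ((k _).symm ▸ hc.1), conj_mem_Cq ((k _).symm ▸ hc.2)⟩
  have n4 : s ⟨sT, sT_mem_CK⟩ * s ⟨sT, sT_mem_CK⟩ = 1 := by
    rw [← map_mul, ← map_one s]; exact congrArg s (Subtype.ext sT_mul_self)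
  refine ⟨t, t0, t1, X.eq_one_of_nm h hs hk (by rw [map_pow, t0, ha.cube]) (Nm.pow_mem n1 3), ?_,
    X.eq_one_of_nm h hs hk (by rw [map_pow, map_mul, t0, hs, ha.tri]) (Nm.pow_mem (mul_mem n1 (n2 _ fun _ => K3_k2)) 3)⟩
  refine mul_right_cancel ((X.eq_one_of_nm h hs hk ?_ (mul_mem (mul_mem (mul_mem n1 n3) n1) n3)).trans n4.symm)
  rw [map_mul, map_mul, map_mul, t0, hs, ha.inv, ← hs, ← map_mul, n4, map_one]

end XE

theorem πK_inj : Function.Injective πK := by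
  obtain ⟨f, hf, -⟩ := mam_V.res.exists_lift
  exact Function.Injective.of_comp (f := f) (by
    rw [← MonoidHom.coe_comp, hf]; exact piV_injective.comp Subtype.val_injective)

theorem core5590 {n : ℕ} (hn : n ≤ 4371) {e : KU →* G} (hs : Function.Surjective e) (hk : e.ker = zpowers (πK tKK))
    (h2 : ringChar F ≠ 2) (h3 : ringChar F ≠ 3) {ρ : G →* GL (Fin n) F} (hρ : Function.Injective ρ) {A : Subgroup E}
    [A.Normal] (ε : E ⧸ A ≃* G) (φ : Additive A ≃+ (Fin n → F))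
    (hφ : ∀ (g : E) (a b : A), (b : E) = g * a * g⁻¹ → φ (Additive.ofMul b) =
      (ρ (ε (QuotientGroup.mk g)) : Matrix (Fin n) (Fin n) F).mulVec (φ (Additive.ofMul a))) :
    ∃ K : Subgroup E, A.IsComplement' K := by
  have : NeZero (2 : F) := ⟨Ring.two_ne_zero h2⟩
  let pr : E →* G := ε.toMonoidHom.comp (QuotientGroup.mk' A)
  have p1 : ∀ x, pr x = 1 ↔ x ∈ A := fun x => by simp [pr]
  have X : XE (matRep ρ) pr fun v => (φ.symm v).toMul := ⟨ε.surjective.comp (QuotientGroup.mk'_surjective A),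
    fun v w => by simp, Subtype.val_injective.comp (Additive.toMul.injective.comp φ.symm.injective),
    fun x => (p1 x).trans ⟨fun h => ⟨φ (.ofMul ⟨x, h⟩), by simp⟩, fun ⟨v, h⟩ => h ▸ Subtype.prop _⟩, fun x v => by
      have := hφ x (φ.symm v).toMul ⟨_, Normal.conj_mem inferInstance _ (Subtype.prop _) x⟩ rfl
      rw [ofMul_toMul, φ.apply_symm_apply] at this
      rw [matRep_apply, show pr x = ε (QuotientGroup.mk x) from rfl, ← this, φ.symm_apply_apply]; rfl⟩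
  have ha := kam_KU.map e
  have ht : e.comp πK tKK = 1 := (hk ▸ mem_zpowers _ : _ ∈ e.ker)
  have tt : tKK * tKK = 1 := by rw [← sq, ← orderOf_t (t := tKK) rfl, pow_orderOf_eq_one]
  have hz : e.comp πK zK ≠ 1 := fun a => let ⟨σ, b, _⟩ := exists_repB' mam_V hs hk
    b ((congrArg σ a).trans (map_one σ))
  have h := bs_of_rep ha ht (matRep_ne hρ hz) ((finrank_fin_fun F).le.trans hn)
  obtain ⟨s, h4⟩ := X.exists_s h fun e => h3 (CharP.ringChar_of_prime_eq_zero Nat.prime_three e)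
  obtain ⟨t, t0, t1⟩ := X.exists_t h h4 (fun c hc => by
    rcases zpowers_cases (by rw [← map_mul, tt, map_one]) (hk ▸ hc : πK c ∈ zpowers (πK tKK)) with k | k
    · rw [πK_inj (k.trans (map_one _).symm), one_mul]
    · rw [πK_inj k, tt]) ha
  obtain ⟨f, f1, f2⟩ := t1.exists_lift
  have f3 : pr.comp f = e := MonoidHom.eq_of_eqOn_dense gen_KU (by
    rintro _ (⟨c, rfl⟩ | rfl)
    exacts [(congrArg pr (DFunLike.congr_fun f1 c)).trans (h4 c), (congrArg pr f2).trans t0])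
  have f4 : e.ker ≤ f.ker := hk ▸ zpowers_le.2 ((DFunLike.congr_fun f1 tKK).trans
    (X.eq_one ((h4 _).trans ht) (by rw [← map_mul, tt, map_one])))
  refine ⟨f.range, isComplement'_of_disjoint_and_mul_eq_univ (disjoint_def.2 ?_) (Set.eq_univ_of_forall fun x => ?_)⟩
  · rintro _ hx ⟨y, rfl⟩
    exact f4 ((DFunLike.congr_fun f3 y).symm.trans ((p1 _).2 hx))
  · obtain ⟨y, hy⟩ := hs (pr x)
    exact ⟨x * (f y)⁻¹, (p1 _).1 (by simp [← hy, ← f3]), f y, ⟨y, rfl⟩, by simp⟩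

end CfsgLib.MonRep
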